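import Mathlib

/-!
Finite facts about a Sylow 2-subgroup of the symmetric group of degree four.
-/

set_option autoImplicit false
set_option maxRecDepth 4000

namespace Cfsg.Lib.QTWreath

/-- The symmetric group of degree four. -/
abbrev P4 := Equiv.Perm (Fin 4)

/-- The centre of the Sylow subgroup. -/
def pa : P4 := Equiv.swap 0 1 * Equiv.swap 2 3
/-- A second double transposition. -/
def pa2 : P4 := Equiv.swap 0 2 * Equiv.swap 1 3
/-- A transposition. -/
def pb : P4 := Equiv.swap 0 1
/-- An element of order three inverted by `pb`. -/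
def pc : P4 := Equiv.swap 0 1 * Equiv.swap 1 2

theorem pa_sq : pa * pa = 1 := by decide
theorem pa2_sq : pa2 * pa2 = 1 := by decide
theorem pb_sq : pb * pb = 1 := by decide
theorem pc_cube : pc * pc * pc = 1 := by decide
theorem pc_ne_one : pc ≠ 1 := by decide
theorem pa_ne_one : pa ≠ 1 := by decide
theorem pb_conj_pc : pb * pc * pb⁻¹ = pc⁻¹ := by decide

/-- The Sylow subgroup: the centraliser of `pa`. -/
def dih : Subgroup P4 where
  carrier := {x | x * pa = pa * x}
  one_mem' := by simp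
  mul_mem' := fun {x y} (hx : x * pa = pa * x) (hy : y * pa = pa * y) =>
    show x * y * pa = pa * (x * y) by rw [mul_assoc, hy, ← mul_assoc, hx, mul_assoc]
  inv_mem' := fun {x} (hx : x * pa = pa * x) =>
    show x⁻¹ * pa = pa * x⁻¹ from (Commute.inv_left (show Commute x pa from hx)).eq

/-- The four-group of double transpositions. -/
def fourA : Subgroup P4 where
  carrier := {x | x = 1 ∨ x = pa ∨ x = pa2 ∨ x = pa * pa2}
  one_mem' := Or.inl rfl
  mul_mem' := by
    rintro x y (rfl | rfl | rfl | rfl) (rfl | rfl | rfl | rfl) <;> (simp only [Set.mem_ofPred_eq]; decide)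
  inv_mem' := by
    rintro x (rfl | rfl | rfl | rfl) <;> (simp only [Set.mem_ofPred_eq]; decide)

/-- The other four-group. -/
def fourB : Subgroup P4 where
  carrier := {x | x = 1 ∨ x = pa ∨ x = pb ∨ x = pb * pa}
  one_mem' := Or.inl rfl
  mul_mem' := by
    rintro x y (rfl | rfl | rfl | rfl) (rfl | rfl | rfl | rfl) <;> (simp only [Set.mem_ofPred_eq]; decide)
  inv_mem' := by
    rintro x (rfl | rfl | rfl | rfl) <;> (simp only [Set.mem_ofPred_eq]; decide)

instance : DecidablePred (· ∈ dih) := fun x => decidable_of_iff (x * pa = pa * x) Iff.rfl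
instance : DecidablePred (· ∈ fourA) := fun x =>
  decidable_of_iff (x = 1 ∨ x = pa ∨ x = pa2 ∨ x = pa * pa2) Iff.rfl
instance : DecidablePred (· ∈ fourB) := fun x =>
  decidable_of_iff (x = 1 ∨ x = pa ∨ x = pb ∨ x = pb * pa) Iff.rfl

theorem card_dih : Nat.card dih = 8 := by
  rw [Nat.card_eq_fintype_card]; decide +kernel

theorem card_fourA : Nat.card fourA = 4 := by
  rw [Nat.card_eq_fintype_card]; decide +kernel

theorem card_fourB : Nat.card fourB = 4 := by
  rw [Nat.card_eq_fintype_card]; decide +kernel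

theorem fourA_le : fourA ≤ dih := by
  intro x; revert x; decide +kernel

theorem fourB_le : fourB ≤ dih := by
  intro x; revert x; decide +kernel

theorem invol_mem : ∀ x ∈ dih, x * x = 1 → x ∈ fourA ∨ x ∈ fourB := by decide +kernel

theorem invol_comm_mem : ∀ x ∈ dih, ∀ y ∈ dih, x * x = 1 → y * y = 1 → x * y = y * x →
    x ∉ fourB → y ∈ fourA := by decide +kernel

theorem centralizer_fourA : ∀ x : P4, x * pa = pa * x → x * pa2 = pa2 * x → x ∈ fourA := by
  decide +kernel

theorem centralizer_fourB : ∀ x ∈ dih, x * pb = pb * x → x ∈ fourB := by decide +kernel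

theorem comm_dih : ∀ x ∈ dih, ∀ y ∈ dih, x * y * x⁻¹ * y⁻¹ = 1 ∨ x * y * x⁻¹ * y⁻¹ = pa := by
  decide +kernel

theorem comm_four : ∀ x ∈ fourA, ∀ y ∈ fourA, x * y = y * x := by decide +kernel

theorem comm_fourB : ∀ x ∈ fourB, ∀ y ∈ fourB, x * y = y * x := by decide +kernel

theorem sq_fourA : ∀ x ∈ fourA, x * x = 1 := by decide +kernel

theorem sq_fourB : ∀ x ∈ fourB, x * x = 1 := by decide +kernel

theorem center_dih : ∀ x ∈ dih, (∀ y ∈ dih, x * y = y * x) → x = 1 ∨ x = pa := by decide +kernel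

theorem meet_four : ∀ x : P4, x ∈ fourA → x ∈ fourB → x = 1 ∨ x = pa := by decide +kernel

/-- The involutions of the Sylow subgroup. -/
theorem invol_cases : ∀ x ∈ dih, x * x = 1 →
    x = 1 ∨ x = pa ∨ x = pa2 ∨ x = pa * pa2 ∨ x = pb ∨ x = pb * pa := by decide +kernel

theorem conj_cases : ∀ x ∈ dih, (x * pb * x⁻¹ = pb ∨ x * pb * x⁻¹ = pb * pa) := by decide +kernel

theorem pc_orbit : (pc * pa * pc⁻¹ = pa2 ∧ pc * pa2 * pc⁻¹ = pa * pa2) ∨
    (pc * pa * pc⁻¹ = pa * pa2 ∧ pc * (pa * pa2) * pc⁻¹ = pa2) := by decide +kernel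

theorem generate : ∀ x : P4, ∃ i : Fin 3, x * pc ^ (i : ℕ) ∈ dih := by decide +kernel

theorem no_four_meet : ∀ x : P4, x ∈ fourA → x * pa = pa * x := by decide +kernel

end Cfsg.Lib.QTWreath
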