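import Cfsg.Agent.QTKE.Wreath.Sylow
import Cfsg.Agent.S0111

/-!
The five types of involutions of the base, their conjugates inside the maximal 2-local and transfer.
-/

set_option autoImplicit false
set_option linter.unusedSectionVars false
set_option linter.style.haveILetI false

namespace Cfsg.Lib.QTWreath

open Subgroup

universe u

/-- Conjugacy. -/
def Cj {G : Type u} [Group G] (x y : G) : Prop := ∃ g : G, g * x * g⁻¹ = y

theorem Cj.refl {G : Type u} [Group G] (x : G) : Cj x x := ⟨1, by simp⟩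

theorem Cj.symm {G : Type u} [Group G] {x y : G} : Cj x y → Cj y x := by
  rintro ⟨g, rfl⟩; exact ⟨g⁻¹, by group⟩

theorem Cj.trans {G : Type u} [Group G] {x y w : G} : Cj x y → Cj y w → Cj x w := by
  rintro ⟨g, rfl⟩ ⟨g', rfl⟩; exact ⟨g' * g, by group⟩

theorem Cj.mk' {G : Type u} [Group G] (g x : G) : Cj x (g * x * g⁻¹) := ⟨g, rfl⟩

theorem invol_rep : ∀ x ∈ dih, x * x = 1 → x = 1 ∨
    (x ∈ fourA ∧ ∃ g : P4, g * x * g⁻¹ = pa) ∨ (x ∉ fourA ∧ ∃ g : P4, g * x * g⁻¹ = pb) := by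
  decide +kernel

theorem comm_four_cases : (∀ x ∈ dih, x * (pb * pa) = pb * pa * x → x ∈ fourB) ∧
    (∀ d ∈ dih, d * pb * d⁻¹ ∈ fourB ∧ d * pb * d⁻¹ ∉ fourA) ∧
    (∀ d : P4, ∀ x ∈ fourA, d * x * d⁻¹ ∈ fourA) := by decide +kernel

set_option synthInstance.maxSize 1024 in
theorem center_pair : ∀ y ∈ dih, ∀ y₁ ∈ dih, ∀ y₂ ∈ dih, y₁ * y₂ ≠ y₂ * y₁ → y * y₁ = y₁ * y →
    y * y₂ = y₂ * y → y = 1 ∨ y = pa := by decide +kernel

theorem split_dih : ∀ y ∈ dih, ∃ y₁ ∈ fourA, ∃ y₂ ∈ fourB, y = y₁ * y₂ := by decide +kernel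

theorem basic_mem : pa ∈ dih ∧ pa2 ∈ dih ∧ pb ∈ dih ∧ pb * pa ∈ dih ∧ pa ∈ fourA ∧ pa ∈ fourB ∧ pb ∈ fourB ∧
    pa2 ∈ fourA ∧ pb * pa ∈ fourB := by decide +kernel

theorem comm_gen : pa2 * pb * pa2⁻¹ * pb⁻¹ = pa := by decide +kernel

namespace Frame

variable {G : Type u} [Group G] [Finite G] (F : Frame G)

/-- The element `(b, 1)`. -/
def u₁ : G := F.f (pb, 1)
/-- The element `(1, b)`. -/
def u₂ : G := F.f (1, pb)
/-- The element `(a, b)`. -/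
def v : G := F.f (pa, pb)
/-- The element `(b, b)`. -/
def w : G := F.f (pb, pb)

theorem cj_f (g g' : P4) {x y x' y' : P4} (h : g * x * g⁻¹ = x') (h' : g' * y * g'⁻¹ = y') :
    Cj (F.f (x, y)) (F.f (x', y')) := ⟨F.f (g, g'), by rw [F.f_conj, h, h']⟩

theorem cj_swap (x y : P4) : Cj (F.f (x, y)) (F.f (y, x)) := ⟨F.s, F.s_conj x y⟩

theorem t_cj_t' : Cj F.t F.t' := ⟨F.s, F.s_t⟩

theorem not_t_z : ¬ Cj F.t F.z := fun ⟨g, hg⟩ => F.t_not_conj_z g hg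

theorem invol_pair {x y : P4} (h : F.f (x, y) * F.f (x, y) = 1) : x * x = 1 ∧ y * y = 1 := by
  rw [← map_mul] at h
  exact Prod.mk.injEq .. ▸ (F.inj (h.trans (map_one F.f).symm))

theorem one_pair : F.f (1, 1) = 1 := map_one F.f

/-- One-sided involutions. -/
theorem cj_left {x : P4} (hx : x ∈ dih) (h2 : x * x = 1) (h1 : x ≠ 1) :
    (x ∈ fourA ∧ Cj (F.f (x, 1)) F.t ∧ Cj (F.f (1, x)) F.t) ∨
      (x ∉ fourA ∧ Cj (F.f (x, 1)) F.u₁ ∧ Cj (F.f (1, x)) F.u₁) := by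
  rcases invol_rep x hx h2 with h | ⟨hA, g, hg⟩ | ⟨hA, g, hg⟩
  · exact absurd h h1
  · exact Or.inl ⟨hA, F.cj_f g 1 hg (by simp), (F.cj_swap 1 x).trans (F.cj_f g 1 hg (by simp))⟩
  · exact Or.inr ⟨hA, F.cj_f g 1 hg (by simp), (F.cj_swap 1 x).trans (F.cj_f g 1 hg (by simp))⟩

/-- Two-sided involutions. -/
theorem cj_two {x y : P4} (hx : x ∈ dih) (hx2 : x * x = 1) (hx1 : x ≠ 1) (hy : y ∈ dih) (hy2 : y * y = 1)
    (hy1 : y ≠ 1) :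
    (x ∈ fourA ∧ y ∈ fourA ∧ Cj (F.f (x, y)) F.z) ∨
      ((x ∈ fourA ∧ y ∉ fourA ∨ x ∉ fourA ∧ y ∈ fourA) ∧ Cj (F.f (x, y)) F.v) ∨
      (x ∉ fourA ∧ y ∉ fourA ∧ Cj (F.f (x, y)) F.w) := by
  rcases invol_rep x hx hx2 with h | ⟨hA, g, hg⟩ | ⟨hA, g, hg⟩
  · exact absurd h hx1
  · rcases invol_rep y hy hy2 with h' | ⟨hA', g', hg'⟩ | ⟨hA', g', hg'⟩
    · exact absurd h' hy1
    · exact Or.inl ⟨hA, hA', F.cj_f g g' hg hg'⟩
    · exact Or.inr (Or.inl ⟨Or.inl ⟨hA, hA'⟩, F.cj_f g g' hg hg'⟩)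
  · rcases invol_rep y hy hy2 with h' | ⟨hA', g', hg'⟩ | ⟨hA', g', hg'⟩
    · exact absurd h' hy1
    · exact Or.inr (Or.inl ⟨Or.inr ⟨hA, hA'⟩, (F.cj_swap x y).trans (F.cj_f g' g hg' hg)⟩)
    · exact Or.inr (Or.inr ⟨hA, hA', F.cj_f g g' hg hg'⟩)

theorem inv_T0_cases {g : G} (hg : g ∈ F.T0) (h2 : g * g = 1) (h1 : g ≠ 1) :
    Cj g F.t ∨ Cj g F.u₁ ∨ Cj g F.z ∨ Cj g F.v ∨ Cj g F.w := by
  obtain ⟨x, hx, y, hy, rfl⟩ := F.mem_box.1 hg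
  obtain ⟨hx2, hy2⟩ := F.invol_pair h2
  by_cases hx1 : x = 1
  · subst hx1
    rcases F.cj_left hy hy2 (fun e => h1 (e ▸ F.one_pair)) with ⟨-, -, h⟩ | ⟨-, -, h⟩
    exacts [Or.inl h, Or.inr (Or.inl h)]
  by_cases hy1 : y = 1
  · subst hy1
    rcases F.cj_left hx hx2 hx1 with ⟨-, h, -⟩ | ⟨-, h, -⟩
    exacts [Or.inl h, Or.inr (Or.inl h)]
  rcases F.cj_two hx hx2 hx1 hy hy2 hy1 with ⟨-, -, h⟩ | ⟨-, h⟩ | ⟨-, -, h⟩
  exacts [Or.inr (Or.inr (Or.inl h)), Or.inr (Or.inr (Or.inr (Or.inl h))), Or.inr (Or.inr (Or.inr (Or.inr h)))]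

/-- Involutions outside the base are conjugate to `s`. -/
theorem inv_out {g : G} (hg : g ∈ F.T) (hn : g ∉ F.T0) (h2 : g * g = 1) : Cj g F.s := by
  obtain ⟨x, hx, y, hy, rfl | rfl⟩ := F.mem_T.1 hg
  · exact absurd (F.f_mem_box.2 ⟨hx, hy⟩) hn
  rw [show F.f (x, y) * F.s * (F.f (x, y) * F.s) = F.f (x, y) * (F.s * F.f (x, y) * F.s) by group,
    F.swap, ← map_mul] at h2
  obtain ⟨-, e⟩ := Prod.mk.injEq .. ▸ (F.inj (h2.trans (map_one F.f).symm))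
  obtain rfl : y = x⁻¹ := eq_inv_of_mul_eq_one_left (show y * x = 1 from e)
  refine Cj.symm ⟨F.f (x, 1), ?_⟩
  rw [← map_inv, mul_assoc, F.s_move, ← mul_assoc, ← map_mul]
  simp

theorem box_isPGroup {P Q : Subgroup P4} (hP : P ≤ dih) (hQ : Q ≤ dih) : IsPGroup 2 (F.box P Q) :=
  F.isPGroup_T0.to_le (Subgroup.map_mono (Subgroup.prod_mono hP hQ))

/-- A commutator of elements of the base. -/
theorem comm_T0 {g h : G} (hg : g ∈ F.T0) (hh : h ∈ F.T0) :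
    g * h * g⁻¹ * h⁻¹ = 1 ∨ g * h * g⁻¹ * h⁻¹ = F.t ∨ g * h * g⁻¹ * h⁻¹ = F.t' ∨
      g * h * g⁻¹ * h⁻¹ = F.z := by
  obtain ⟨x, hx, y, hy, rfl⟩ := F.mem_box.1 hg
  obtain ⟨p, hp, q, hq, rfl⟩ := F.mem_box.1 hh
  rw [F.f_conj, ← map_inv, ← map_mul, Prod.inv_mk, Prod.mk_mul_mk]
  rcases comm_dih x hx p hp with e | e <;> rcases comm_dih y hy q hq with e' | e' <;> rw [e, e']
  · exact Or.inl F.one_pair
  · exact Or.inr (Or.inr (Or.inl rfl))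
  · exact Or.inr (Or.inl rfl)
  · exact Or.inr (Or.inr (Or.inr rfl))

theorem t_ne_one : F.t ≠ 1 := fun e => pa_ne_one (congrArg Prod.fst (F.inj (e.trans (map_one F.f).symm)))

theorem t'_ne_one : F.t' ≠ 1 := fun e => pa_ne_one (congrArg Prod.snd (F.inj (e.trans (map_one F.f).symm)))

/-- The image of the derived involution of `B × D`. -/
theorem image_derived_right {h : G} (hh : ∀ y ∈ dih, h * F.f (1, y) * h⁻¹ ∈ F.T0) :
    h * F.t' * h⁻¹ = F.t ∨ h * F.t' * h⁻¹ = F.t' ∨ h * F.t' * h⁻¹ = F.z := by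
  have e : h * F.t' * h⁻¹ = (h * F.f (1, pa2) * h⁻¹) * (h * F.f (1, pb) * h⁻¹) *
      (h * F.f (1, pa2) * h⁻¹)⁻¹ * (h * F.f (1, pb) * h⁻¹)⁻¹ := by
    rw [show F.t' = F.f (1, pa2) * F.f (1, pb) * (F.f (1, pa2))⁻¹ * (F.f (1, pb))⁻¹ by
      rw [F.f_conj, ← map_inv, ← map_mul, Prod.inv_mk, Prod.mk_mul_mk, comm_gen]; simp [t']]
    group
  rcases F.comm_T0 (hh _ basic_mem.2.1) (hh _ basic_mem.2.2.1) with h' | h' | h' | h'
  · rw [← e, conj_eq_one_iff] at h'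
    exact absurd h' F.t'_ne_one
  exacts [Or.inl (e.trans h'), Or.inr (Or.inl (e.trans h')), Or.inr (Or.inr (e.trans h'))]

/-- An element of the base commuting with a subgroup whose derived involution is `t'`. -/
theorem second_of_comm {h : G} (hh : ∀ y ∈ dih, h * F.f (1, y) * h⁻¹ ∈ F.T0) (ht' : h * F.t' * h⁻¹ = F.t')
    {x y : P4} (hy : y ∈ dih)
    (hc : ∀ d ∈ dih, Commute (h * F.f (1, d) * h⁻¹) (F.f (x, y))) : y = 1 ∨ y = pa := by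
  obtain ⟨p, hp, q, hq, e⟩ := F.mem_box.1 (hh _ basic_mem.2.1)
  obtain ⟨p', hp', q', hq', e'⟩ := F.mem_box.1 (hh _ basic_mem.2.2.1)
  have c1 := hc _ basic_mem.2.1
  have c2 := hc _ basic_mem.2.2.1
  rw [e] at c1
  rw [e'] at c2
  refine center_pair y hy q hq q' hq' (fun hqq => ?_) ((F.commute_iff p q x y).1 c1).2.symm
    ((F.commute_iff p' q' x y).1 c2).2.symm
  have h3 : h * F.t' * h⁻¹ = (h * F.f (1, pa2) * h⁻¹) * (h * F.f (1, pb) * h⁻¹) *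
      (h * F.f (1, pa2) * h⁻¹)⁻¹ * (h * F.f (1, pb) * h⁻¹)⁻¹ := by
    rw [show F.t' = F.f (1, pa2) * F.f (1, pb) * (F.f (1, pa2))⁻¹ * (F.f (1, pb))⁻¹ by
      rw [F.f_conj, ← map_inv, ← map_mul, Prod.inv_mk, Prod.mk_mul_mk, comm_gen]; simp [t']]
    group
  rw [ht', e, e', F.f_conj, ← map_inv, ← map_mul, Prod.inv_mk, Prod.mk_mul_mk] at h3
  have h4 := congrArg Prod.snd (F.inj h3)
  simp only [hqq] at h4
  exact pa_ne_one (h4.trans (by group))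

/-- An elementary subgroup is sent to another one. -/
theorem el_image {h : G} (i : Fin 4) (hh : ∀ g ∈ F.el i, h * g * h⁻¹ ∈ F.T) :
    ∃ j, (F.el i).map (MulAut.conj h).toMonoidHom = F.el j := by
  refine F.el_of_le_T ?_ ((Subgroup.card_map_of_injective (MulAut.conj h).injective).trans (F.card_el i)) ?_ ?_
  · rintro _ ⟨g, hg, rfl⟩
    exact hh g hg
  · rintro _ ⟨g, hg, rfl⟩
    rw [← map_mul, (F.el_elem i).1 g hg, map_one]
  · rintro _ ⟨g, hg, rfl⟩ _ ⟨k, hk, rfl⟩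
    rw [← map_mul, ← map_mul, (F.el_elem i).2 g hg k hk]

/-- A 2-group generated by elementary subgroups of order sixteen goes into the base. -/
theorem box_into_T0 {h : G} {X : Subgroup P4} (hX : X = fourA ∨ X = fourB)
    (hh : ∀ g ∈ F.box X dih, h * g * h⁻¹ ∈ F.T) : ∀ g ∈ F.box X dih, h * g * h⁻¹ ∈ F.T0 := by
  have key : ∀ Q : Subgroup P4, (Q = fourA ∨ Q = fourB) → ∀ g ∈ F.box X Q, h * g * h⁻¹ ∈ F.T0 := by
    intro Q hQ g hg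
    obtain ⟨i, hi⟩ : ∃ i, F.el i = F.box X Q := by
      rcases hX with rfl | rfl <;> rcases hQ with rfl | rfl
      exacts [⟨0, rfl⟩, ⟨2, rfl⟩, ⟨3, rfl⟩, ⟨1, rfl⟩]
    have hle : F.box X Q ≤ F.box X dih := Subgroup.map_mono (Subgroup.prod_mono le_rfl (by
      rcases hQ with rfl | rfl
      exacts [fourA_le, fourB_le]))
    obtain ⟨j, hj⟩ := F.el_image i (fun g hg => hh g (hle (hi ▸ hg)))
    exact F.el_le j (hj ▸ ⟨g, hi ▸ hg, rfl⟩)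
  intro g hg
  obtain ⟨x, hx, y, hy, rfl⟩ := F.mem_box.1 hg
  obtain ⟨y₁, hy₁, y₂, hy₂, rfl⟩ := split_dih y hy
  rw [show h * F.f (x, y₁ * y₂) * h⁻¹ = (h * F.f (x, y₁) * h⁻¹) * (h * F.f (1, y₂) * h⁻¹) by
    rw [show F.f (x, y₁ * y₂) = F.f (x, y₁) * F.f (1, y₂) by rw [← map_mul, Prod.mk_mul_mk, mul_one]]
    group]
  exact mul_mem (key _ (Or.inl rfl) _ (F.f_mem_box.2 ⟨hx, hy₁⟩))
    (key _ (Or.inr rfl) _ (F.f_mem_box.2 ⟨one_mem _, hy₂⟩))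

/-- Conjugation by an element of the base keeps a transposition outside the four-group. -/
theorem T0_conj_u {g : G} (hg : g ∈ F.T0) :
    ∃ x, x ∈ fourB ∧ x ∉ fourA ∧ g * F.u₁ * g⁻¹ = F.f (x, 1) := by
  obtain ⟨p, hp, q, -, rfl⟩ := F.mem_box.1 hg
  exact ⟨p * pb * p⁻¹, (comm_four_cases.2.1 p hp).1, (comm_four_cases.2.1 p hp).2,
    by rw [u₁, F.f_conj]; simp⟩

/-- A conjugate of `u₁` by an element fixing `t` and `t'`. -/
theorem not_fixed {h : G} (h1 : h * F.t * h⁻¹ = F.t) (h2 : h * F.t' * h⁻¹ = F.t') :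
    ∃ x, x ∈ fourB ∧ x ∉ fourA ∧ h * F.u₁ * h⁻¹ = F.f (x, 1) :=
  F.T0_conj_u (F.mem_T0_of_comm (mul_inv_eq_iff_eq_mul.1 h1) (mul_inv_eq_iff_eq_mul.1 h2))

/-- Thompson transfer for a maximal subgroup of the Sylow subgroup. -/
theorem transfer (hno : ∀ N : Subgroup G, N.Normal → N.index ≠ 2) {Q : Subgroup G} (hQ : Q ≤ F.T)
    (hc : Nat.card Q = 64) {x : G} (hx : x * x = 1) (hx1 : x ≠ 1) (hxT : x ∈ F.T) (hxQ : x ∉ Q) :
    ∃ y ∈ Q, Cj x y := by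
  haveI : Fact (Nat.Prime 2) := ⟨Nat.prime_two⟩
  obtain ⟨P, hP⟩ := F.isPGroup_T.exists_le_sylow
  have hPT : (P : Subgroup G) = F.T := F.eq_T_of_le P.isPGroup' hP
  have hrel : Q.relIndex (P : Subgroup G) = 2 := by
    rw [hPT]
    have h1 := Subgroup.card_mul_index (Q.subgroupOf F.T)
    rw [Nat.card_congr (Subgroup.subgroupOfEquivOfLe hQ).toEquiv, hc, F.card_T] at h1
    rw [Subgroup.relIndex]
    omega
  rcases Cfsg.Agent.S0111.result P Q (hPT.symm ▸ hQ) hrel x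
    (orderOf_eq_prime (by rw [pow_two, hx]) hx1) (hPT.symm ▸ hxT) hxQ with ⟨N, hN, hi, -⟩ | ⟨g, hg⟩
  · exact absurd hi (hno N hN)
  · exact ⟨_, hg, g, rfl⟩

end Frame

end Cfsg.Lib.QTWreath
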