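import Cfsg.Agent.QTKE.Wreath.Alg
import Cfsg.Prelude.Def_Quasithin

/-!
A maximal 2-local isomorphic to the wreath product of the symmetric group of degree four by a group of
order two: coordinates and the Thompson subgroup of the Sylow 2-subgroup.
-/

set_option autoImplicit false
set_option linter.unusedSectionVars false
set_option linter.style.haveILetI false

namespace Cfsg.Lib.QTWreath

open Subgroup

universe u

theorem four_test : pa2 ∈ fourA ∧ pa2 ∉ fourB ∧ pb ∈ fourB ∧ pb ∉ fourA := by decide +kernel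

/-- Coordinates for the maximal 2-local. -/
structure Frame (G : Type u) [Group G] where
  f : P4 × P4 →* G
  s : G
  inj : Function.Injective f
  sq : s * s = 1
  swap : ∀ x y, s * f (x, y) * s = f (y, x)
  out : ∀ p, s ≠ f p
  M : Subgroup G
  M_mem : ∀ g, g ∈ M ↔ ∃ p, g = f p ∨ g = f p * s
  hmax : Cfsg.IsMaximalTwoLocal M
  hev : Cfsg.IsOfEvenCharacteristic G
  hqt : Cfsg.IsQuasithin G
  hsyl : ∀ Q : Subgroup G, IsPGroup 2 Q → Nat.card Q ≤ 128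

namespace Frame

variable {G : Type u} [Group G] [Finite G] (F : Frame G)

/-- The element `(a, 1)`. -/
def t : G := F.f (pa, 1)
/-- The element `(1, a)`. -/
def t' : G := F.f (1, pa)
/-- The central involution of the Sylow subgroup. -/
def z : G := F.f (pa, pa)

/-- The subgroup `P × Q` in coordinates. -/
def box (P Q : Subgroup P4) : Subgroup G := (P.prod Q).map F.f

theorem mem_box {P Q : Subgroup P4} {g : G} :
    g ∈ F.box P Q ↔ ∃ x ∈ P, ∃ y ∈ Q, g = F.f (x, y) := by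
  constructor
  · rintro ⟨⟨x, y⟩, ⟨hx, hy⟩, rfl⟩
    exact ⟨x, hx, y, hy, rfl⟩
  · rintro ⟨x, hx, y, hy, rfl⟩
    exact ⟨(x, y), ⟨hx, hy⟩, rfl⟩

theorem f_mem_box {P Q : Subgroup P4} {x y : P4} : F.f (x, y) ∈ F.box P Q ↔ x ∈ P ∧ y ∈ Q := by
  refine ⟨?_, fun h => F.mem_box.2 ⟨x, h.1, y, h.2, rfl⟩⟩
  rintro ⟨p, hp, he⟩
  obtain rfl := F.inj he
  exact hp

theorem card_box (P Q : Subgroup P4) : Nat.card (F.box P Q) = Nat.card P * Nat.card Q := by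
  rw [box, Subgroup.card_map_of_injective F.inj, Nat.card_congr (Subgroup.prodEquiv P Q).toEquiv,
    Nat.card_prod]

theorem f_eq_iff {p q : P4 × P4} : F.f p = F.f q ↔ p = q := F.inj.eq_iff

theorem f_conj (x y u v : P4) :
    F.f (x, y) * F.f (u, v) * (F.f (x, y))⁻¹ = F.f (x * u * x⁻¹, y * v * y⁻¹) := by
  rw [← map_inv, ← map_mul, ← map_mul]; rfl

theorem commute_iff (x y u v : P4) :
    F.f (x, y) * F.f (u, v) = F.f (u, v) * F.f (x, y) ↔ x * u = u * x ∧ y * v = v * y := by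
  rw [← map_mul, ← map_mul, F.f_eq_iff, Prod.mk_mul_mk, Prod.mk_mul_mk, Prod.mk.injEq]

theorem s_inv : F.s⁻¹ = F.s := inv_eq_of_mul_eq_one_right F.sq

theorem s_conj (x y : P4) : F.s * F.f (x, y) * F.s⁻¹ = F.f (y, x) := by rw [F.s_inv, F.swap]

theorem s_move (x y : P4) : F.s * F.f (x, y) = F.f (y, x) * F.s := by
  rw [← F.swap x y, mul_assoc (F.s * F.f (x, y)), F.sq, mul_one]

theorem f_mem_M (p : P4 × P4) : F.f p ∈ F.M := (F.M_mem _).2 ⟨p, Or.inl rfl⟩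

theorem s_mem_M : F.s ∈ F.M := (F.M_mem _).2 ⟨1, Or.inr (by rw [map_one, one_mul])⟩

/-- The base of the Sylow subgroup. -/
def T0 : Subgroup G := F.box dih dih

/-- The Sylow subgroup. -/
def T : Subgroup G where
  carrier := {g | ∃ p ∈ dih.prod dih, g = F.f p ∨ g = F.f p * F.s}
  one_mem' := ⟨1, one_mem _, Or.inl (map_one F.f).symm⟩
  mul_mem' := by
    rintro g g' ⟨p, hp, hg⟩ ⟨⟨u, v⟩, ⟨hu, hv⟩, hg'⟩
    rcases hg with rfl | rfl <;> rcases hg' with rfl | rfl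
    · exact ⟨p * (u, v), mul_mem hp ⟨hu, hv⟩, Or.inl (map_mul F.f _ _).symm⟩
    · exact ⟨p * (u, v), mul_mem hp ⟨hu, hv⟩, Or.inr (by rw [map_mul, mul_assoc])⟩
    · exact ⟨p * (v, u), mul_mem hp ⟨hv, hu⟩, Or.inr (by
        rw [map_mul, mul_assoc, mul_assoc, F.s_move])⟩
    · exact ⟨p * (v, u), mul_mem hp ⟨hv, hu⟩, Or.inl (by
        rw [map_mul, mul_assoc, ← mul_assoc F.s, F.swap])⟩
  inv_mem' := by
    rintro g ⟨⟨u, v⟩, ⟨hu, hv⟩, rfl | rfl⟩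
    · exact ⟨(u, v)⁻¹, inv_mem (show (u, v) ∈ dih.prod dih from ⟨hu, hv⟩), Or.inl (map_inv F.f _).symm⟩
    · refine ⟨(v⁻¹, u⁻¹), ⟨dih.inv_mem hv, dih.inv_mem hu⟩, Or.inr ?_⟩
      rw [_root_.mul_inv_rev, F.s_inv, ← map_inv]
      exact F.s_move u⁻¹ v⁻¹

theorem mem_T {g : G} :
    g ∈ F.T ↔ ∃ x ∈ dih, ∃ y ∈ dih, g = F.f (x, y) ∨ g = F.f (x, y) * F.s :=
  ⟨fun ⟨p, hp, h⟩ => ⟨p.1, hp.1, p.2, hp.2, h⟩, fun ⟨x, hx, y, hy, h⟩ => ⟨(x, y), ⟨hx, hy⟩, h⟩⟩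

theorem T0_le_T : F.T0 ≤ F.T := by
  rintro g ⟨p, hp, rfl⟩
  exact ⟨p, hp, Or.inl rfl⟩

theorem s_mem_T : F.s ∈ F.T := ⟨1, one_mem _, Or.inr (by rw [map_one, one_mul])⟩

theorem T_le_M : F.T ≤ F.M := fun _ ⟨p, _, h⟩ => (F.M_mem _).2 ⟨p, h⟩

theorem mul_s_not_mem (p : P4 × P4) (P Q : Subgroup P4) : F.f p * F.s ∉ F.box P Q := by
  rintro ⟨q, -, hq⟩
  exact F.out (p⁻¹ * q) (by rw [map_mul, map_inv, hq, ← mul_assoc, inv_mul_cancel, one_mul])

theorem card_T0 : Nat.card F.T0 = 64 := by rw [T0, F.card_box, card_dih]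

theorem card_T : Nat.card F.T = 128 := by
  classical
  let φ : (dih.prod dih) × Bool → F.T := fun q =>
    ⟨if q.2 then F.f q.1.1 * F.s else F.f q.1.1, ⟨q.1.1, q.1.2, by
      by_cases h : q.2 <;> simp [h]⟩⟩
  have hφ : Function.Bijective φ := by
    refine ⟨fun ⟨p, i⟩ ⟨q, j⟩ h => ?_, fun ⟨g, p, hp, hg⟩ => ?_⟩
    · have h' := congrArg (fun g : F.T => (g : G)) h
      cases i <;> cases j <;> simp only [φ, Bool.false_eq_true, if_false, if_true] at h'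
      · rw [Subtype.ext (F.inj h')]
      · exact absurd (h'.symm ▸ ⟨p.1, p.2, rfl⟩ : F.f q.1 * F.s ∈ F.T0) (F.mul_s_not_mem _ _ _)
      · exact absurd (h' ▸ ⟨q.1, q.2, rfl⟩ : F.f p.1 * F.s ∈ F.T0) (F.mul_s_not_mem _ _ _)
      · rw [Subtype.ext (F.inj (mul_right_cancel h'))]
    · rcases hg with rfl | rfl
      · exact ⟨(⟨p, hp⟩, false), rfl⟩
      · exact ⟨(⟨p, hp⟩, true), rfl⟩
  rw [← Nat.card_eq_of_bijective φ hφ, Nat.card_prod, Nat.card_congr (Subgroup.prodEquiv dih dih).toEquiv,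
    Nat.card_prod, card_dih]
  simp

theorem isPGroup_T : IsPGroup 2 F.T := IsPGroup.of_card (n := 7) (by rw [F.card_T]; norm_num)

theorem isPGroup_T0 : IsPGroup 2 F.T0 := F.isPGroup_T.to_le F.T0_le_T

theorem eq_T_of_le {Q : Subgroup G} (hQ : IsPGroup 2 Q) (h : F.T ≤ Q) : Q = F.T :=
  (eq_of_le_of_card_ge h (F.card_T ▸ F.hsyl Q hQ)).symm

/-- The four elementary subgroups of order sixteen. -/
def el : Fin 4 → Subgroup G
  | 0 => F.box fourA fourA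
  | 1 => F.box fourB fourB
  | 2 => F.box fourA fourB
  | 3 => F.box fourB fourA

theorem el_eq (i : Fin 4) : ∃ P Q, (P = fourA ∨ P = fourB) ∧ (Q = fourA ∨ Q = fourB) ∧ F.el i = F.box P Q := by
  fin_cases i
  · exact ⟨fourA, fourA, Or.inl rfl, Or.inl rfl, rfl⟩
  · exact ⟨fourB, fourB, Or.inr rfl, Or.inr rfl, rfl⟩
  · exact ⟨fourA, fourB, Or.inl rfl, Or.inr rfl, rfl⟩
  · exact ⟨fourB, fourA, Or.inr rfl, Or.inl rfl, rfl⟩

theorem el_le (i : Fin 4) : F.el i ≤ F.T0 := by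
  obtain ⟨P, Q, hP, hQ, e⟩ := F.el_eq i
  rw [e]
  refine Subgroup.map_mono (Subgroup.prod_mono ?_ ?_)
  · rcases hP with rfl | rfl
    exacts [fourA_le, fourB_le]
  · rcases hQ with rfl | rfl
    exacts [fourA_le, fourB_le]

theorem card_el (i : Fin 4) : Nat.card (F.el i) = 16 := by
  obtain ⟨P, Q, hP, hQ, e⟩ := F.el_eq i
  rw [e, F.card_box]
  rcases hP with rfl | rfl <;> rcases hQ with rfl | rfl <;> simp only [card_fourA, card_fourB]

theorem el_elem (i : Fin 4) : (∀ g ∈ F.el i, g * g = 1) ∧ ∀ g ∈ F.el i, ∀ h ∈ F.el i, g * h = h * g := by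
  obtain ⟨P, Q, hP, hQ, e⟩ := F.el_eq i
  rw [e]
  constructor
  · intro g hg
    obtain ⟨x, hx, y, hy, rfl⟩ := F.mem_box.1 hg
    rw [← map_mul, Prod.mk_mul_mk, show x * x = 1 from ?_, show y * y = 1 from ?_]
    · exact map_one F.f
    · rcases hQ with rfl | rfl
      exacts [sq_fourA y hy, sq_fourB y hy]
    · rcases hP with rfl | rfl
      exacts [sq_fourA x hx, sq_fourB x hx]
  · intro g hg h hh
    obtain ⟨x, hx, y, hy, rfl⟩ := F.mem_box.1 hg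
    obtain ⟨u, hu, v, hv, rfl⟩ := F.mem_box.1 hh
    refine (F.commute_iff x y u v).2 ⟨?_, ?_⟩
    · rcases hP with rfl | rfl
      exacts [comm_four x hx u hu, comm_fourB x hx u hu]
    · rcases hQ with rfl | rfl
      exacts [comm_four y hy v hv, comm_fourB y hy v hv]

theorem el_ne {i j : Fin 4} (h : i ≠ j) : F.el i ≠ F.el j := by
  intro e
  have key : ∀ x y, F.f (x, y) ∈ F.el i ↔ F.f (x, y) ∈ F.el j := fun x y => by rw [e]
  have h1 := key pa2 1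
  have h2 := key 1 pa2
  fin_cases i <;> fin_cases j <;> first | exact h rfl | skip
  all_goals
    obtain ⟨a1, a2, a3, a4⟩ := four_test
    simp only [el, F.f_mem_box, one_mem, and_true, true_and] at h1 h2
    simp_all

theorem meet_le (P : Subgroup P4) (hP : ∀ x ∈ P, ∀ y ∈ P, x * x = 1 ∧ x * y = y * x) (hPd : P ≤ dih) :
    P ≤ fourA ∨ P ≤ fourB := by
  by_cases h : P ≤ fourB
  · exact Or.inr h
  · obtain ⟨x, hxP, hx⟩ := SetLike.not_le_iff_exists.1 h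
    exact Or.inl fun y hy => invol_comm_mem x (hPd hxP) y (hPd hy) (hP x hxP x hxP).1 (hP y hy y hy).1
      (hP x hxP y hy).2 hx

/-- The elementary subgroups of order sixteen in the base. -/
theorem el_of_le_T0 {X : Subgroup G} (hX : X ≤ F.T0) (hc : Nat.card X = 16) (h2 : ∀ g ∈ X, g * g = 1)
    (hab : ∀ g ∈ X, ∀ h ∈ X, g * h = h * g) : ∃ i, X = F.el i := by
  set Y : Subgroup (P4 × P4) := X.comap F.f with hY
  have hYd : ∀ p ∈ Y, p.1 ∈ dih ∧ p.2 ∈ dih := fun p hp => (F.f_mem_box (x := p.1) (y := p.2)).1 (hX hp)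
  have hYr : ∀ p ∈ Y, ∀ q ∈ Y, p * p = 1 ∧ p * q = q * p := fun p hp q hq =>
    ⟨F.inj (by rw [map_mul, map_one]; exact h2 _ hp), F.inj (by rw [map_mul, map_mul]; exact hab _ hp _ hq)⟩
  have hXY : X = Y.map F.f := by
    rw [hY, Subgroup.map_comap_eq_self]
    intro g hg
    obtain ⟨x, -, y, -, rfl⟩ := F.mem_box.1 (hX hg)
    exact ⟨(x, y), rfl⟩
  have h1 := meet_le (Y.map (MonoidHom.fst P4 P4)) (by
    rintro _ ⟨p, hp, rfl⟩ _ ⟨q, hq, rfl⟩
    exact ⟨congrArg Prod.fst (hYr p hp q hq).1, congrArg Prod.fst (hYr p hp q hq).2⟩)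
    (by rintro _ ⟨p, hp, rfl⟩; exact (hYd p hp).1)
  have h1' := meet_le (Y.map (MonoidHom.snd P4 P4)) (by
    rintro _ ⟨p, hp, rfl⟩ _ ⟨q, hq, rfl⟩
    exact ⟨congrArg Prod.snd (hYr p hp q hq).1, congrArg Prod.snd (hYr p hp q hq).2⟩)
    (by rintro _ ⟨p, hp, rfl⟩; exact (hYd p hp).2)
  obtain ⟨i, hi⟩ : ∃ i, X ≤ F.el i := by
    have hmem : ∀ P Q : Subgroup P4, Y.map (MonoidHom.fst P4 P4) ≤ P → Y.map (MonoidHom.snd P4 P4) ≤ Q →
        X ≤ F.box P Q := fun P Q hP hQ => hXY ▸ Subgroup.map_mono fun p hp =>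
      ⟨hP ⟨p, hp, rfl⟩, hQ ⟨p, hp, rfl⟩⟩
    rcases h1 with h1 | h1 <;> rcases h1' with h1' | h1'
    · exact ⟨0, hmem _ _ h1 h1'⟩
    · exact ⟨2, hmem _ _ h1 h1'⟩
    · exact ⟨3, hmem _ _ h1 h1'⟩
    · exact ⟨1, hmem _ _ h1 h1'⟩
  exact ⟨i, eq_of_le_of_card_ge hi (by rw [F.card_el, hc])⟩

/-- The elementary subgroups of order sixteen of the Sylow subgroup. -/
theorem el_of_le_T {X : Subgroup G} (hX : X ≤ F.T) (hc : Nat.card X = 16) (h2 : ∀ g ∈ X, g * g = 1)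
    (hab : ∀ g ∈ X, ∀ h ∈ X, g * h = h * g) : ∃ i, X = F.el i := by
  refine F.el_of_le_T0 (fun g hg => ?_) hc h2 hab
  by_contra hgn
  obtain ⟨x, hx, y, hy, hgxy⟩ := F.mem_T.1 (hX hg)
  rcases hgxy with rfl | rfl
  · exact hgn (F.f_mem_box.2 ⟨hx, hy⟩)
  classical
  set Y : Subgroup (P4 × P4) := X.comap F.f with hY
  have hYd : ∀ p ∈ Y, p.1 ∈ dih := fun p hp => by
    obtain ⟨u, hu, v, hv, h' | h'⟩ := F.mem_T.1 (hX hp)
    · rw [F.inj h']; exact hu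
    · exact absurd (h' ▸ ⟨p, ⟨trivial, trivial⟩, rfl⟩ : F.f (u, v) * F.s ∈ F.box ⊤ ⊤) (F.mul_s_not_mem _ _ _)
  have hYsq : ∀ p ∈ Y, p.1 * p.1 = 1 := fun p hp => congrArg Prod.fst
    (F.inj (by rw [map_mul, map_one]; exact h2 _ hp) : p * p = 1)
  have hYab : ∀ p ∈ Y, ∀ q ∈ Y, p.1 * q.1 = q.1 * p.1 := fun p hp q hq => congrArg Prod.fst
    (F.inj (by rw [map_mul, map_mul]; exact hab _ hp _ hq) : p * q = q * p)
  have hsnd : ∀ p ∈ Y, p.2 = y * p.1 * y⁻¹ := fun p hp => by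
    have e := hab _ hp _ hg
    rw [← mul_assoc, ← map_mul, mul_assoc, F.s_move, ← mul_assoc, ← map_mul] at e
    obtain ⟨-, e2⟩ := Prod.ext_iff.1 (F.inj (mul_right_cancel e))
    simp only [Prod.snd_mul] at e2
    rw [← e2, mul_inv_cancel_right]
  have h1 := meet_le (Y.map (MonoidHom.fst P4 P4)) (by
    rintro _ ⟨p, hp, rfl⟩ _ ⟨q, hq, rfl⟩
    exact ⟨hYsq p hp, hYab p hp q hq⟩) (by rintro _ ⟨p, hp, rfl⟩; exact hYd p hp)
  have hY4 : Nat.card Y ≤ 4 := by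
    refine le_trans (Nat.card_le_card_of_injective
      (fun p : Y => (⟨p.1.1, ⟨p.1, p.2, rfl⟩⟩ : Y.map (MonoidHom.fst P4 P4))) fun p q hpq => ?_) ?_
    · have e : p.1.1 = q.1.1 := congrArg Subtype.val hpq
      exact Subtype.ext (Prod.ext e (by rw [hsnd _ p.2, hsnd _ q.2, e]))
    · rcases h1 with h1 | h1
      · exact (Subgroup.card_le_of_le h1).trans card_fourA.le
      · exact (Subgroup.card_le_of_le h1).trans card_fourB.le
  have hsplit : Nat.card X ≤ Nat.card Y * 2 := by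
    refine le_trans (Nat.card_le_card_of_surjective (fun q : Y × Fin 2 => (⟨F.f q.1.1 * (F.f (x, y) * F.s) ^ (q.2 : ℕ),
      mul_mem q.1.2 (pow_mem hg _)⟩ : X)) ?_) (by rw [Nat.card_prod, Nat.card_fin])
    rintro ⟨w, hw⟩
    obtain ⟨u, -, v, -, h' | h'⟩ := F.mem_T.1 (hX hw)
    · exact ⟨(⟨(u, v), show F.f (u, v) ∈ X from h' ▸ hw⟩, 0), Subtype.ext (by simp [h'])⟩
    · have hm : F.f ((u, v) * (x, y)⁻¹) ∈ X := by
        have := X.mul_mem hw (X.inv_mem hg)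
        rwa [h', _root_.mul_inv_rev, ← mul_assoc, mul_inv_cancel_right, ← map_inv, ← map_mul] at this
      refine ⟨(⟨_, hm⟩, 1), Subtype.ext ?_⟩
      show F.f ((u, v) * (x, y)⁻¹) * (F.f (x, y) * F.s) ^ 1 = w
      rw [pow_one, ← mul_assoc, ← map_mul, inv_mul_cancel_right, h']
  omega

theorem two_pow_fix {σ : Equiv.Perm (Fin 4)}
    (h : ∀ i, σ (![1, 0, 3, 2] i) = ![1, 0, 3, 2] (σ i)) : σ ^ 4 = 1 := by
  revert σ; decide +kernel

theorem opposite {i j : Fin 4} : j = ![1, 0, 3, 2] i ↔ i ≠ j ∧ ∀ g ∈ F.el i, g ∈ F.el j →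
    ∃ x ∈ fourA, x ∈ fourB ∧ ∃ y ∈ fourA, y ∈ fourB ∧ g = F.f (x, y) := by
  constructor
  · rintro rfl
    refine ⟨by fin_cases i <;> decide, fun g hg hg' => ?_⟩
    fin_cases i <;>
      obtain ⟨x, hx, y, hy, rfl⟩ := F.mem_box.1 hg <;>
      obtain ⟨hx', hy'⟩ := F.f_mem_box.1 hg'
    · exact ⟨x, hx, hx', y, hy, hy', rfl⟩
    · exact ⟨x, hx', hx, y, hy', hy, rfl⟩
    · exact ⟨x, hx, hx', y, hy', hy, rfl⟩
    · exact ⟨x, hx', hx, y, hy, hy', rfl⟩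
  · rintro ⟨hne, h⟩
    by_contra hj
    have key : ∀ x y, F.f (x, y) ∈ F.el i → F.f (x, y) ∈ F.el j →
        x ∈ fourA ∧ x ∈ fourB ∧ y ∈ fourA ∧ y ∈ fourB := by
      intro x y hi hj
      obtain ⟨x', h1, h1', y', h2, h2', e⟩ := h _ hi hj
      obtain ⟨rfl, rfl⟩ := Prod.mk.injEq .. ▸ F.inj e
      exact ⟨h1, h1', h2, h2'⟩
    have k1 := key pa2 1
    have k2 := key 1 pa2
    have k3 := key pb 1
    have k4 := key 1 pb
    fin_cases i <;> fin_cases j <;> first | exact hne rfl | exact hj rfl | skip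
    all_goals
      obtain ⟨a1, a2, a3, a4⟩ := four_test
      simp only [el, F.f_mem_box, one_mem, and_true, true_and] at k1 k2 k3 k4
      simp_all

end Frame

end Cfsg.Lib.QTWreath
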