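import Cfsg.Agent.QTKE.Wreath.Alg
import Cfsg.Agent.Components.Cores
import Cfsg.Agent.S3035

/-!
A finite group containing a symmetric group of degree four in which the centraliser of a central double
transposition is its dihedral subgroup and a transposition is conjugate to that double transposition.
-/

set_option autoImplicit false
set_option linter.unusedSectionVars false
set_option linter.style.haveILetI false

namespace Cfsg.Lib.QTWreath

open Subgroup

universe u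

/-- Coordinates of the dihedral group of order eight. -/
def dihModel : DihedralGroup 4 → P4
  | .r i => (pb * pa2) ^ i.val
  | .sr i => pb * (pb * pa2) ^ i.val

theorem dihModel_mul : ∀ x y, dihModel (x * y) = dihModel x * dihModel y := by decide +kernel

theorem dihModel_facts :
    (∀ x, dihModel x ∈ dih) ∧ (∀ x y, dihModel x = dihModel y → x = y) ∧ ∀ d ∈ dih, ∃ x, dihModel x = d := by
  decide +kernel

theorem not_conj : ∀ e : P4, e * pa * e⁻¹ ≠ pb ∧ e * pa * e⁻¹ ≠ pb * pa := by decide +kernel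

theorem perm_span : ∀ x : P4, ∃ i : Fin 3, ∃ p ∈ fourA, ∃ q ∈ fourB, x = p * q * pc ^ (i : ℕ) := by
  decide +kernel

theorem has_pa_conj : ∀ x : P4, x ≠ 1 →
    ∃ g h : P4, g * (x * (h * x⁻¹ * h⁻¹)) * g⁻¹ = pa := by decide +kernel

theorem four_cycle : (pa2 * pb) * (pa2 * pb) = pa ∧ ∀ x : P4, x * x ≠ pb := by decide +kernel

theorem square_facts :
    pa * pb = pb * pa ∧ pb ≠ pa ∧ pb * pa ≠ pa ∧ pb * pa ≠ pb ∧ pa2 * pa * pa2⁻¹ = pa ∧
      pa2 * pb * pa2⁻¹ = pb * pa ∧ pa2 * (pb * pa) * pa2⁻¹ = pb ∧ pb * pb = 1 := by decide +kernel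

theorem rot_mem : ∀ q ∈ fourA, q ≠ 1 → ∃ g : P4, g * pa * g⁻¹ = q := by decide +kernel

/-- The data of the quotient. -/
structure Quo (X : Type u) [Group X] where
  ι : P4 →* X
  inj : Function.Injective ι
  cent : ∀ x : X, x * ι pa = ι pa * x → ∃ d ∈ dih, x = ι d
  fus : ∃ y : X, y * ι pa * y⁻¹ = ι pb ∨ y * ι pa * y⁻¹ = ι (pb * pa)

namespace Quo

variable {X : Type u} [Group X] [Finite X] (Q : Quo X)

theorem conj_ι (x y : P4) : Q.ι x * Q.ι y * (Q.ι x)⁻¹ = Q.ι (x * y * x⁻¹) := by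
  rw [map_mul, map_mul, map_inv]

theorem ι_ne {x y : P4} (h : x ≠ y) : Q.ι x ≠ Q.ι y := fun e => h (Q.inj e)

theorem not_conj_ι (e : P4) : Q.ι e * Q.ι pa * (Q.ι e)⁻¹ ≠ Q.ι pb ∧
    Q.ι e * Q.ι pa * (Q.ι e)⁻¹ ≠ Q.ι (pb * pa) := by
  rw [Q.conj_ι]; exact ⟨Q.ι_ne (not_conj e).1, Q.ι_ne (not_conj e).2⟩

/-- An element fixing `pa` and `pb` lies in the four-group. -/
theorem mem_fourB {x : X} (h1 : x * Q.ι pa = Q.ι pa * x) (h2 : x * Q.ι pb = Q.ι pb * x) :
    ∃ q ∈ fourB, x = Q.ι q := by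
  obtain ⟨d, hd, rfl⟩ := Q.cent x h1
  exact ⟨d, centralizer_fourB d hd (Q.inj (by rw [map_mul, map_mul]; exact h2)), rfl⟩

/-- The three-cycle on the four-group of transposition type. -/
def IsRot (k : X) : Prop := k * Q.ι pa * k⁻¹ = Q.ι pb ∧ k * Q.ι pb * k⁻¹ = Q.ι (pb * pa)

theorem rot_third {k : X} (hk : Q.IsRot k) : k * Q.ι (pb * pa) * k⁻¹ = Q.ι pa := by
  calc k * Q.ι (pb * pa) * k⁻¹ = k * (Q.ι pb * Q.ι pa) * k⁻¹ := by rw [map_mul]
    _ = (k * Q.ι pb * k⁻¹) * (k * Q.ι pa * k⁻¹) := by group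
    _ = Q.ι pa := by
      rw [hk.1, hk.2, ← map_mul, show pb * pa * pb = pa by
        rw [← square_facts.1, mul_assoc, square_facts.2.2.2.2.2.2.2, mul_one]]

theorem exists_rot : ∃ k : X, Q.IsRot k ∧ k ^ 3 = 1 := by
  obtain ⟨y, hy⟩ := Q.fus
  obtain ⟨hab, -, -, -, d1, d2, d3, -⟩ := square_facts
  have comm_x : y * Q.ι pa * y⁻¹ * Q.ι pa = Q.ι pa * (y * Q.ι pa * y⁻¹) := by
    rcases hy with h | h <;> rw [h, ← map_mul, ← map_mul]
    · rw [hab]
    · exact congrArg Q.ι (by rw [← mul_assoc, hab])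
  obtain ⟨q, hq, eq⟩ := Q.cent (y⁻¹ * Q.ι pa * y) (by
    calc y⁻¹ * Q.ι pa * y * Q.ι pa = y⁻¹ * (Q.ι pa * (y * Q.ι pa * y⁻¹)) * y := by group
      _ = Q.ι pa * (y⁻¹ * Q.ι pa * y) := by rw [← comm_x]; group)
  have hq2 : q * q = 1 := Q.inj (by
    rw [map_mul, ← eq, map_one, show y⁻¹ * Q.ι pa * y * (y⁻¹ * Q.ι pa * y) = y⁻¹ * (Q.ι pa * Q.ι pa) * y by
      group, ← map_mul, pa_sq, map_one, mul_one, inv_mul_cancel])
  have hyq : y * Q.ι q * y⁻¹ = Q.ι pa := by rw [← eq]; group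
  have hbad : ∀ d : P4, y ≠ Q.ι d := by
    rintro d rfl
    rcases hy with h | h
    · exact (Q.not_conj_ι d).1 h
    · exact (Q.not_conj_ι d).2 h
  have hrot : q ∈ fourA → False := fun hA => by
    by_cases h1 : q = 1
    · rw [h1, map_one, mul_one, mul_inv_cancel] at hyq
      exact Q.ι_ne pa_ne_one (hyq.symm.trans (map_one Q.ι).symm)
    obtain ⟨g, hg⟩ := rot_mem q hA h1
    obtain ⟨d, -, hd⟩ := Q.cent (y * Q.ι g) (by
      rw [← mul_inv_eq_iff_eq_mul]
      calc y * Q.ι g * Q.ι pa * (y * Q.ι g)⁻¹ = y * (Q.ι g * Q.ι pa * (Q.ι g)⁻¹) * y⁻¹ := by group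
        _ = Q.ι pa := by rw [Q.conj_ι, hg, hyq])
    exact hbad (d * g⁻¹) (by rw [map_mul, map_inv, ← hd, mul_inv_cancel_right])
  have hq' : q = pb ∨ q = pb * pa := by
    rcases invol_cases q hq hq2 with h | h | h | h | h | h
    · exact (hrot (h ▸ one_mem _)).elim
    · exact (hrot (h ▸ Or.inr (Or.inl rfl))).elim
    · exact (hrot (h ▸ Or.inr (Or.inr (Or.inl rfl)))).elim
    · exact (hrot (h ▸ Or.inr (Or.inr (Or.inr rfl)))).elim
    · exact Or.inl h
    · exact Or.inr h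
  -- the image of the third involution
  have hprod : ∀ a b c : P4, a * b = c → ∀ a' b' c', y * Q.ι a * y⁻¹ = Q.ι a' →
      y * Q.ι b * y⁻¹ = Q.ι b' → a' * b' = c' → y * Q.ι c * y⁻¹ = Q.ι c' := by
    intro a b c e a' b' c' h1 h2 e'
    rw [← e, ← e', map_mul, map_mul, ← h1, ← h2]; group
  have e1 : pa * (pb * pa) = pb := by rw [← mul_assoc, hab, mul_assoc, pa_sq, mul_one]
  have e2 : pb * pa * pa = pb := by rw [mul_assoc, pa_sq, mul_one]
  have e3 : pa * pb = pb * pa := hab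
  have key : ∃ k : X, Q.IsRot k := by
    rcases hy with hy | hy <;> rcases hq' with rfl | rfl
    · refine ⟨y * Q.ι pa2, ?_, ?_⟩ <;>
        simp only [_root_.mul_inv_rev, show ∀ w : X, y * Q.ι pa2 * w * ((Q.ι pa2)⁻¹ * y⁻¹) =
          y * (Q.ι pa2 * w * (Q.ι pa2)⁻¹) * y⁻¹ from fun w => by group, Q.conj_ι, d1, d2]
      · exact hy
      · exact hprod _ _ _ rfl _ _ _ hyq hy e3 |>.trans rfl
    · exact ⟨y, hy, hprod _ _ _ e1 _ _ _ hy hyq (e3.symm ▸ rfl)⟩
    · refine ⟨y⁻¹, ?_, ?_⟩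
      · rw [inv_inv, ← hyq]; group
      · have h3 := hprod _ _ _ e3 _ _ _ hy hyq e2
        rw [inv_inv, ← h3]; group
    · have h3 := hprod _ _ _ e1 _ _ _ hy hyq e2
      refine ⟨Q.ι pa2 * y, ?_, ?_⟩ <;>
        simp only [_root_.mul_inv_rev, show ∀ w : X, Q.ι pa2 * y * w * (y⁻¹ * (Q.ι pa2)⁻¹) =
          Q.ι pa2 * (y * w * y⁻¹) * (Q.ι pa2)⁻¹ from fun w => by group]
      · rw [hy, Q.conj_ι, d3]
      · rw [h3, Q.conj_ι, d2]
  obtain ⟨k, hk⟩ := key
  refine ⟨k, hk, ?_⟩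
  have c1 : k ^ 3 * Q.ι pa = Q.ι pa * k ^ 3 := by
    rw [← mul_inv_eq_iff_eq_mul]
    calc k ^ 3 * Q.ι pa * (k ^ 3)⁻¹ = k * (k * (k * Q.ι pa * k⁻¹) * k⁻¹) * k⁻¹ := by
          rw [pow_succ, pow_two]; group
      _ = Q.ι pa := by rw [hk.1, hk.2, Q.rot_third hk]
  have c2 : k ^ 3 * Q.ι pb = Q.ι pb * k ^ 3 := by
    rw [← mul_inv_eq_iff_eq_mul]
    calc k ^ 3 * Q.ι pb * (k ^ 3)⁻¹ = k * (k * (k * Q.ι pb * k⁻¹) * k⁻¹) * k⁻¹ := by
          rw [pow_succ, pow_two]; group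
      _ = Q.ι pb := by rw [hk.2, Q.rot_third hk, hk.1]
  obtain ⟨r, hr, er⟩ := Q.mem_fourB c1 c2
  have h3 : k * Q.ι r * k⁻¹ = Q.ι r := by rw [← er]; group
  rcases hr with rfl | rfl | rfl | rfl
  · rw [er, map_one]
  · exact absurd (hk.1.symm.trans h3) (Q.ι_ne square_facts.2.1)
  · exact absurd (hk.2.symm.trans h3) (Q.ι_ne square_facts.2.2.2.1)
  · exact absurd ((Q.rot_third hk).symm.trans h3) (Q.ι_ne square_facts.2.2.1.symm)

/-- An automorphism fixing the symmetric group moves the three-cycle by at most the transposition. -/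
theorem rot_image {k : X} (hk : Q.IsRot k) (φ : X ≃* X) (hφ : ∀ p, φ (Q.ι p) = Q.ι p) :
    φ k = k ∨ φ k = k * Q.ι pb := by
  obtain ⟨hab, -, -, -, d1, d2, d3, -⟩ := square_facts
  set p := k⁻¹ * φ k with hp
  have hφk : φ k = k * p := by rw [hp, mul_inv_cancel_left]
  have e1 := congrArg φ hk.1
  rw [map_mul, map_mul, map_inv, hφ, hφ, hφk, ← hk.1] at e1
  have e2 := congrArg φ hk.2
  rw [map_mul, map_mul, map_inv, hφ, hφ, hφk, ← hk.2] at e2
  have c1 : p * Q.ι pa = Q.ι pa * p := by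
    calc p * Q.ι pa = k⁻¹ * (k * p * Q.ι pa * (k * p)⁻¹) * k * p := by group
      _ = Q.ι pa * p := by rw [e1]; group
  have c2 : p * Q.ι pb = Q.ι pb * p := by
    calc p * Q.ι pb = k⁻¹ * (k * p * Q.ι pb * (k * p)⁻¹) * k * p := by group
      _ = Q.ι pb * p := by rw [e2]; group
  obtain ⟨q, hq, eq⟩ := Q.mem_fourB c1 c2
  set d := Q.ι pa2 with hd
  have hd1 : d * Q.ι pa * d⁻¹ = Q.ι pa := by rw [hd, Q.conj_ι, d1]
  have hd2 : d * Q.ι pb * d⁻¹ = Q.ι (pb * pa) := by rw [hd, Q.conj_ι, d2]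
  have hd3 : d * Q.ι (pb * pa) * d⁻¹ = Q.ι pb := by rw [hd, Q.conj_ι, d3]
  have hdi : d⁻¹ = d := inv_eq_of_mul_eq_one_right (by rw [hd, ← map_mul, pa2_sq, map_one])
  -- an element of the four-group inverting the three-cycle
  have b1 : (k * d * k * d⁻¹) * Q.ι pa = Q.ι pa * (k * d * k * d⁻¹) := by
    rw [← mul_inv_eq_iff_eq_mul]
    calc k * d * k * d⁻¹ * Q.ι pa * (k * d * k * d⁻¹)⁻¹
          = k * (d * (k * (d⁻¹ * Q.ι pa * d⁻¹⁻¹) * k⁻¹) * d⁻¹) * k⁻¹ := by group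
      _ = Q.ι pa := by
        rw [show d⁻¹ * Q.ι pa * d⁻¹⁻¹ = Q.ι pa by rw [hdi, hd1], hk.1, hd2, Q.rot_third hk]
  have b2 : (k * d * k * d⁻¹) * Q.ι pb = Q.ι pb * (k * d * k * d⁻¹) := by
    rw [← mul_inv_eq_iff_eq_mul]
    calc k * d * k * d⁻¹ * Q.ι pb * (k * d * k * d⁻¹)⁻¹
          = k * (d * (k * (d⁻¹ * Q.ι pb * d⁻¹⁻¹) * k⁻¹) * d⁻¹) * k⁻¹ := by group
      _ = Q.ι pb := by
        rw [show d⁻¹ * Q.ι pb * d⁻¹⁻¹ = Q.ι (pb * pa) by rw [hdi, hd2], Q.rot_third hk, hd1, hk.1]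
  obtain ⟨r, -, er⟩ := Q.mem_fourB b1 b2
  have e3 := congrArg φ er
  rw [map_mul, map_mul, map_mul, map_inv, hd, hφ, hφ, hφk, ← er, ← hd] at e3
  have e4 : d⁻¹ * p * d = k * p⁻¹ * k⁻¹ := by
    calc d⁻¹ * p * d = d⁻¹ * k⁻¹ * (k * p * d * (k * p) * d⁻¹) * d * p⁻¹ * k⁻¹ := by group
      _ = k * p⁻¹ * k⁻¹ := by rw [e3]; group
  rw [hφk, eq]
  rw [eq, hdi, ← map_inv, inv_eq_of_mul_eq_one_right (sq_fourB q hq)] at e4
  have h4 : d * Q.ι q * d⁻¹ = k * Q.ι q * k⁻¹ := by rw [hdi]; exact e4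
  rcases hq with rfl | rfl | rfl | rfl
  · left; rw [map_one, mul_one]
  · exact absurd (hd1.symm.trans (h4.trans hk.1)) (Q.ι_ne square_facts.2.1.symm)
  · exact Or.inr rfl
  · exact absurd (hd3.symm.trans (h4.trans (Q.rot_third hk))) (Q.ι_ne square_facts.2.1)

/-- An automorphism of order three fixing the symmetric group fixes the three-cycle. -/
theorem rot_fixed {k : X} (hk : Q.IsRot k) (φ : X ≃* X) (hφ : ∀ p, φ (Q.ι p) = Q.ι p)
    (h3 : φ (φ (φ k)) = k) : φ k = k := by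
  rcases Q.rot_image hk φ hφ with h | h
  · exact h
  exfalso
  rw [h, map_mul, hφ, h, map_mul, map_mul, hφ, h, mul_assoc, mul_assoc, ← map_mul, ← map_mul, pb_sq, mul_one] at h3
  exact Q.ι_ne (show pb ≠ 1 by decide +kernel) ((mul_eq_left.1 h3).trans (map_one Q.ι).symm)

theorem rot_not_range {k : X} (hk : Q.IsRot k) : k ∉ Q.ι.range := by
  rintro ⟨e, rfl⟩
  exact (Q.not_conj_ι e).1 hk.1

/-- A normal subgroup inside the symmetric group is trivial. -/
theorem normal_eq_bot {N : Subgroup X} [N.Normal] (h : N ≤ Q.ι.range) : N = ⊥ := by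
  by_contra hne
  obtain ⟨n, hn, hn1⟩ := N.bot_or_exists_ne_one.resolve_left hne
  obtain ⟨x, rfl⟩ := h hn
  obtain ⟨g, g', e⟩ := has_pa_conj x fun e => hn1 (by rw [e, map_one])
  have hpa : Q.ι pa ∈ N := by
    rw [← e]
    simp only [map_mul, map_inv]
    exact ‹N.Normal›.conj_mem _ (mul_mem hn (‹N.Normal›.conj_mem _ (inv_mem hn) _)) _
  obtain ⟨k, hk, -⟩ := Q.exists_rot
  have hpb : Q.ι pb ∈ N := hk.1 ▸ ‹N.Normal›.conj_mem _ hpa k
  obtain ⟨g2, hg2⟩ := rot_mem pa2 (Or.inr (Or.inr (Or.inl rfl))) (by decide +kernel)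
  have hpa2 : Q.ι pa2 ∈ N := by
    rw [← hg2, ← Q.conj_ι]
    exact ‹N.Normal›.conj_mem _ hpa _
  obtain ⟨r, hr⟩ := h (‹N.Normal›.conj_mem _ (N.mul_mem hpa2 hpb) k)
  refine four_cycle.2 r (Q.inj ?_)
  rw [map_mul, hr, show k * (Q.ι pa2 * Q.ι pb) * k⁻¹ * (k * (Q.ι pa2 * Q.ι pb) * k⁻¹) =
    k * (Q.ι pa2 * Q.ι pb * (Q.ι pa2 * Q.ι pb)) * k⁻¹ by group, ← map_mul, ← map_mul, four_cycle.1, hk.1]

/-- The centraliser of the double transposition is dihedral of order eight. -/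
theorem nonempty_cent :
    Nonempty (Subgroup.centralizer ({Q.ι pa} : Set X) ≃* DihedralGroup 4) := by
  let ψ : DihedralGroup 4 →* X := Q.ι.comp (MonoidHom.mk' dihModel dihModel_mul)
  have hmem : ∀ x, ψ x ∈ Subgroup.centralizer ({Q.ι pa} : Set X) := fun x =>
    Subgroup.mem_centralizer_singleton_iff.2
      ((map_mul Q.ι _ _).symm.trans ((congrArg Q.ι (show dihModel x * pa = pa * dihModel x from
        dihModel_facts.1 x)).trans (map_mul Q.ι _ _)))
  refine ⟨(MulEquiv.ofBijective (ψ.codRestrict _ hmem) ⟨fun x y e => ?_, fun ⟨x, hx⟩ => ?_⟩).symm⟩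
  · exact dihModel_facts.2.1 x y (Q.inj (congrArg Subtype.val e))
  · obtain ⟨d, hd, rfl⟩ := Q.cent x (Subgroup.mem_centralizer_singleton_iff.1 hx)
    obtain ⟨w, rfl⟩ := dihModel_facts.2.2 d hd
    exact ⟨w, rfl⟩

include Q in
theorem card_or_alt : Nat.card X = 168 ∨ Nonempty (X ≃* alternatingGroup (Fin 6)) := by
  classical
  have hz : orderOf (Q.ι pa) = 2 := by
    rw [orderOf_injective Q.ι Q.inj]
    exact orderOf_eq_prime (by rw [pow_two, pa_sq]) pa_ne_one
  rcases Cfsg.Agent.S3035.result (Q.ι pa) hz Q.nonempty_cent with h | h | h | ⟨⟨e⟩⟩ | h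
  · exfalso
    haveI hn : (Cfsg.oddCore X).Normal := Cfsg.Lib.Components.pPrimeCore_normal' 2
    have hc : Q.ι pc ∈ Subgroup.centralizer ({Q.ι pa} : Set X) ⊔ Cfsg.oddCore X := h ▸ Subgroup.mem_top _
    obtain ⟨d, hd, o, ho, e⟩ := Subgroup.mem_sup_of_normal_right.1 hc
    have hmem : Q.ι (pc * pa * pc⁻¹ * pa) ∈ Cfsg.oddCore X := by
      rw [map_mul, map_mul, map_mul, map_inv, ← e,
        show d * o * Q.ι pa * (d * o)⁻¹ * Q.ι pa =
          (d * (o * (Q.ι pa * o⁻¹ * (Q.ι pa)⁻¹)) * d⁻¹) * (d * Q.ι pa * d⁻¹ * Q.ι pa) by group,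
        Subgroup.mem_centralizer_singleton_iff.1 hd, mul_inv_cancel_right, ← map_mul Q.ι pa pa, pa_sq,
        map_one, mul_one]
      exact hn.conj_mem _ (mul_mem ho (hn.conj_mem _ (inv_mem ho) _)) _
    have h1 : orderOf (Q.ι (pc * pa * pc⁻¹ * pa)) = 2 := by
      rw [orderOf_injective Q.ι Q.inj]
      exact orderOf_eq_prime (by decide +kernel) (by decide +kernel)
    have h2 := Subgroup.orderOf_dvd_natCard _ hmem
    rw [h1] at h2
    have h3 : (Nat.card (Cfsg.oddCore X)).Coprime 2 := Cfsg.Lib.Components.coprime_card_pPrimeCore 2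
    exact Nat.not_even_iff_odd.2 (Nat.coprime_two_right.1 h3) (even_iff_two_dvd.2 h2)
  · exfalso
    obtain ⟨e⟩ := h
    obtain ⟨k, hk, -⟩ := Q.exists_rot
    refine Q.rot_not_range hk ?_
    have hcard : Nat.card X = Nat.card P4 := Nat.card_congr e.toEquiv
    exact ((Nat.bijective_iff_injective_and_card Q.ι).2 ⟨Q.inj, hcard.symm⟩).2 k
  · exfalso
    obtain ⟨e⟩ := h
    obtain ⟨k, hk, -⟩ := Q.exists_rot
    let σ : X →* ℤˣ := Equiv.Perm.sign.comp e.toMonoidHom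
    have hconj : ∀ y x : X, σ (y * x * y⁻¹) = σ x := fun y x => by
      rw [map_mul, map_mul, map_inv, mul_comm (σ y), mul_inv_cancel_right]
    obtain ⟨g2, hg2⟩ := rot_mem pa2 (Or.inr (Or.inr (Or.inl rfl))) (by decide +kernel)
    obtain ⟨g3, hg3⟩ := rot_mem (pa * pa2) (Or.inr (Or.inr (Or.inr rfl))) (by decide +kernel)
    have h2 : σ (Q.ι pa2) = σ (Q.ι pa) := by rw [← hg2, ← Q.conj_ι, hconj]
    have h3 : σ (Q.ι (pa * pa2)) = σ (Q.ι pa) := by rw [← hg3, ← Q.conj_ι, hconj]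
    have ha : σ (Q.ι pa) = 1 := by
      rw [map_mul, map_mul, h2, Int.units_mul_self] at h3
      exact h3.symm
    have hb : σ (Q.ι pb) = 1 := by rw [← hk.1, hconj, ha]
    have hc : σ (Q.ι pc) = 1 := by
      have := congrArg (fun x => σ (Q.ι x)) pc_cube
      simp only [map_mul, map_one, Int.units_mul_self, one_mul] at this
      exact this
    have hall : ∀ x, σ (Q.ι x) = 1 := fun x => by
      obtain ⟨i, p, hp, q, hq, rfl⟩ := perm_span x
      have hp' : σ (Q.ι p) = 1 := by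
        rcases hp with rfl | rfl | rfl | rfl <;> simp [ha, h2]
      have hq' : σ (Q.ι q) = 1 := by
        rcases hq with rfl | rfl | rfl | rfl <;> simp [ha, hb]
      simp [hp', hq', hc]
    let j : P4 →* alternatingGroup (Fin 5) :=
      (e.toMonoidHom.comp Q.ι).codRestrict _ fun x => Equiv.Perm.mem_alternatingGroup.2 (hall x)
    have hj : Function.Injective j := fun x y exy => Q.inj (e.injective (congrArg Subtype.val exy))
    have := Subgroup.card_dvd_of_injective j hj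
    rw [nat_card_alternatingGroup, Nat.card_perm, Nat.card_fin, Nat.card_fin] at this
    norm_num [Nat.factorial] at this
  · left
    rw [Nat.card_congr e.toEquiv, Nat.card_eq_fintype_card]
    decide +kernel
  · exact Or.inr h

/-- In order 168 an automorphism fixing the symmetric group fixes the three-cycle. -/
theorem rot_fixed_small (h168 : Nat.card X = 168) {k : X} (hk : Q.IsRot k) (φ : X ≃* X)
    (hφ : ∀ p, φ (Q.ι p) = Q.ι p) : φ k = k := by
  classical
  haveI := Fintype.ofFinite X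
  rcases Q.rot_image hk φ hφ with h | h
  · exact h
  exfalso
  set F : X → X := fun x => x⁻¹ * φ x with hF
  have hleft : ∀ p x, F (Q.ι p * x) = F x := fun p x => by
    simp only [hF, map_mul, hφ]; group
  have hright : ∀ p x, F (x * Q.ι p) = (Q.ι p)⁻¹ * F x * Q.ι p := fun p x => by
    simp only [hF, map_mul, hφ]; group
  have hmul : ∀ x y, F (x * y) = y⁻¹ * F x * φ y := fun x y => by
    simp only [hF, map_mul]; group
  let S : Finset X := Finset.univ.image F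
  have hS : S.card ≤ 7 := by
    have hsec : ∀ s : S, ∃ x, F x = s.1 := fun s => by
      obtain ⟨x, -, hx⟩ := Finset.mem_image.1 s.2
      exact ⟨x, hx⟩
    choose σ hσ using hsec
    have h1 := Nat.card_le_card_of_injective (fun q : P4 × S => Q.ι q.1 * σ q.2) (by
      rintro ⟨p, a⟩ ⟨q, b⟩ e
      have e' : Q.ι p * σ a = Q.ι q * σ b := e
      have hab : a = b := Subtype.ext (by rw [← hσ a, ← hσ b, ← hleft p, e', hleft])
      subst hab
      rw [Q.inj (mul_right_cancel e')])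
    rw [Nat.card_prod, h168, Nat.card_perm, Nat.card_fin, Nat.card_eq_fintype_card,
      Fintype.card_coe] at h1
    norm_num [Nat.factorial] at h1
    omega
  have hFk : F k = Q.ι pb := by simp only [hF]; rw [h, inv_mul_cancel_left]
  let Vals : Finset P4 := Finset.univ.image fun g : P4 => g⁻¹ * pb * g
  have hsub : insert (1 : X) (Vals.image Q.ι) ⊆ S := by
    intro x hx
    rcases Finset.mem_insert.1 hx with rfl | hx
    · exact Finset.mem_image.2 ⟨1, Finset.mem_univ _, by simp [hF]⟩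
    · obtain ⟨p, hp, rfl⟩ := Finset.mem_image.1 hx
      obtain ⟨g, -, rfl⟩ := Finset.mem_image.1 hp
      exact Finset.mem_image.2 ⟨k * Q.ι g, Finset.mem_univ _, by rw [hright, hFk, map_mul, map_mul, map_inv]⟩
  have hV : Vals.card = 6 := by simp only [Vals]; decide +kernel
  have h1n : (1 : X) ∉ Vals.image Q.ι := by
    intro hx
    obtain ⟨p, hp, e⟩ := Finset.mem_image.1 hx
    have : p = 1 := Q.inj (e.trans (map_one Q.ι).symm)
    subst this
    obtain ⟨g, -, hg⟩ := Finset.mem_image.1 hp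
    exact (show ∀ g : P4, g⁻¹ * pb * g ≠ 1 by decide +kernel) g hg
  have heq : insert (1 : X) (Vals.image Q.ι) = S := by
    refine Finset.eq_of_subset_of_card_le hsub ?_
    rw [Finset.card_insert_of_notMem h1n, Finset.card_image_of_injective _ Q.inj, hV]
    exact hS
  have hrange : ∀ x, F x ∈ Q.ι.range := fun x => by
    have : F x ∈ S := Finset.mem_image.2 ⟨x, Finset.mem_univ _, rfl⟩
    rw [← heq] at this
    rcases Finset.mem_insert.1 this with hx | hx
    · rw [hx]; exact one_mem _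
    · obtain ⟨p, -, hp⟩ := Finset.mem_image.1 hx
      exact ⟨p, hp⟩
  have hN : Subgroup.normalClosure ({F k} : Set X) ≤ Q.ι.range := by
    refine (Subgroup.closure_le _).2 fun x hx => ?_
    obtain ⟨a, ha, hc⟩ := Group.mem_conjugatesOfSet_iff.1 hx
    rw [Set.mem_singleton_iff] at ha
    subst ha
    obtain ⟨y, hy⟩ := isConj_iff.1 hc
    rw [← hy]
    have e : y * F k * y⁻¹ = F (k * y⁻¹) * (F y⁻¹)⁻¹ := by
      rw [hmul]; simp only [hF]; group
    rw [e]
    exact mul_mem (hrange _) (inv_mem (hrange _))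
  have hbot := Q.normal_eq_bot hN
  have hmem : F k ∈ Subgroup.normalClosure ({F k} : Set X) := Subgroup.subset_normalClosure rfl
  rw [hbot, Subgroup.mem_bot, hFk] at hmem
  exact Q.ι_ne (show pb ≠ 1 by decide +kernel) (hmem.trans (map_one Q.ι).symm)

/-- In the alternating case an automorphism of order three fixing the symmetric group is trivial. -/
theorem fixed_of_alt (e : X ≃* alternatingGroup (Fin 6)) (φ : X ≃* X) (hφ : ∀ p, φ (Q.ι p) = Q.ι p)
    (h3 : ∀ x, φ (φ (φ x)) = x) (x : X) : φ x = x := by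
  classical
  haveI : IsSimpleGroup (alternatingGroup (Fin 6)) := alternatingGroup.isSimpleGroup (by simp)
  haveI : IsSimpleGroup X := e.isSimpleGroup
  have hX : Nat.card X = 360 := by
    rw [Nat.card_congr e.toEquiv, nat_card_alternatingGroup, Nat.card_fin]; rfl
  let K : Subgroup X := φ.toMonoidHom.eqLocus (MonoidHom.id X)
  obtain ⟨k, hk, -⟩ := Q.exists_rot
  have hkK : k ∈ K := Q.rot_fixed hk φ hφ (h3 k)
  have hιK : Q.ι.range ≤ K := by rintro _ ⟨p, rfl⟩; exact hφ p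
  have hlt : Q.ι.range < K :=
    lt_of_le_of_ne hιK fun e => Q.rot_not_range hk (e.symm ▸ hkK)
  suffices hK : K = ⊤ by
    have : x ∈ K := hK ▸ Subgroup.mem_top x
    exact this
  by_contra hne
  have hcK : Nat.card K ∣ 360 := hX ▸ Subgroup.card_subgroup_dvd_card K
  have h24 : 24 ∣ Nat.card K := by
    have := Subgroup.card_dvd_of_le hιK
    rwa [show Nat.card Q.ι.range = 24 by
      rw [← Nat.card_congr (MonoidHom.ofInjective Q.inj).toEquiv, Nat.card_perm, Nat.card_fin]; rfl] at this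
  have hne24 : Nat.card K ≠ 24 := fun e => hlt.ne (Subgroup.eq_of_le_of_card_ge hιK (by
    rw [e, ← Nat.card_congr (MonoidHom.ofInjective Q.inj).toEquiv, Nat.card_perm, Nat.card_fin]; rfl))
  have hidx := Subgroup.card_mul_index K
  rw [hX] at hidx
  have hidx5 : K.index ≤ 5 := by
    obtain ⟨m, hm⟩ := h24
    have : m ∣ 15 := by
      rw [hm] at hcK
      exact Nat.dvd_of_mul_dvd_mul_left (k := 24) (by norm_num) (by simpa using hcK)
    have : m ∈ Nat.divisors 15 := Nat.mem_divisors.2 ⟨this, by norm_num⟩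
    rw [hm] at hidx hne24
    have hd : Nat.divisors 15 = {1, 3, 5, 15} := by decide +kernel
    rw [hd] at this
    simp only [Finset.mem_insert, Finset.mem_singleton] at this
    rcases this with rfl | rfl | rfl | rfl <;> omega
  have hker : (MulAction.toPermHom X (X ⧸ K)).ker = ⊥ := by
    rw [← Subgroup.normalCore_eq_ker]
    rcases (Subgroup.normalCore_normal K).eq_bot_or_eq_top with h | h
    · exact h
    · exact absurd (top_le_iff.1 (h ▸ Subgroup.normalCore_le K)) hne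
  have := Nat.card_le_card_of_injective _ ((MonoidHom.ker_eq_bot_iff _).1 hker)
  rw [Nat.card_perm, ← Subgroup.index, hX] at this
  have h5 := this.trans (Nat.factorial_le hidx5)
  norm_num [Nat.factorial] at h5

end Quo

end Cfsg.Lib.QTWreath
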