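import Cfsg.Agent.QTKE.Wreath.Mover
import Cfsg.Agent.QTKE.Wreath.Quot

/-!
The centraliser of the first four-group modulo that four-group: an element of order three centralising
the first factor's transposition and moving `(1, a)` to `(1, b)`.
-/

set_option autoImplicit false
set_option linter.unusedSectionVars false
set_option linter.style.haveILetI false

namespace Cfsg.Lib.QTWreath

open Subgroup

universe u

theorem lift_facts :
    (∀ g : P4, ∀ x ∈ fourA, g * x * g⁻¹ ∈ fourA) ∧ (∀ x ∈ fourA, pc * x * pc⁻¹ = x → x = 1) ∧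
      (∀ x ∈ fourA, x = 1 ∨ x = pa ∨ x = pa2 ∨ x = pa * pa2) ∧
      (∀ i j : Fin 3, (pc ^ (i : ℕ))⁻¹ * pc ^ (j : ℕ) ∈ fourA → i = j) := by decide +kernel

/-- Two commuting elements of order three of the alternating group of degree six. -/
def alt1 : alternatingGroup (Fin 6) := ⟨Equiv.swap 0 1 * Equiv.swap 1 2, by rw [Equiv.Perm.mem_alternatingGroup]; decide +kernel⟩
/-- See `alt1`. -/
def alt2 : alternatingGroup (Fin 6) := ⟨Equiv.swap 3 4 * Equiv.swap 4 5, by rw [Equiv.Perm.mem_alternatingGroup]; decide +kernel⟩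

theorem alt_facts : alt1 ^ 3 = 1 ∧ alt2 ^ 3 = 1 ∧ alt1 * alt2 = alt2 * alt1 ∧
    ∀ i j k l : Fin 3, alt1 ^ (i : ℕ) * alt2 ^ (j : ℕ) = alt1 ^ (k : ℕ) * alt2 ^ (l : ℕ) → i = k ∧ j = l := by
  decide +kernel

namespace Frame

variable {G : Type u} [Group G] [Finite G] (F : Frame G)

/-- The first four-group. -/
def V₁ : Subgroup G := F.box fourA ⊥

theorem mem_V₁ {g : G} : g ∈ F.V₁ ↔ ∃ x ∈ fourA, g = F.f (x, 1) := by
  rw [V₁, F.mem_box]
  constructor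
  · rintro ⟨x, hx, y, hy, e⟩
    exact ⟨x, hx, by rw [e, Subgroup.mem_bot.1 hy]⟩
  · rintro ⟨x, hx, e⟩
    exact ⟨x, hx, 1, rfl, e⟩

/-- The centraliser of the first four-group. -/
def Y : Subgroup G := Subgroup.centralizer ({F.t, F.f (pa2, 1)} : Set G)

theorem mem_Y {g : G} : g ∈ F.Y ↔ g * F.t = F.t * g ∧ g * F.f (pa2, 1) = F.f (pa2, 1) * g := by
  rw [Y, Subgroup.mem_centralizer_iff]
  simp only [Set.mem_insert_iff, Set.mem_singleton_iff, forall_eq_or_imp, forall_eq]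
  exact and_congr eq_comm eq_comm

theorem Y_comm {g : G} (hg : g ∈ F.Y) {x : P4} (hx : x ∈ fourA) : Commute g (F.f (x, 1)) := by
  obtain ⟨h1, h2⟩ := F.mem_Y.1 hg
  rcases lift_facts.2.2.1 x hx with rfl | rfl | rfl | rfl
  · rw [F.one_pair]; exact Commute.one_right g
  · exact h1
  · exact h2
  · rw [show F.f (pa * pa2, 1) = F.t * F.f (pa2, 1) by rw [t, ← map_mul, Prod.mk_mul_mk, mul_one]]
    exact (show Commute g F.t from h1).mul_right h2

theorem f_mem_Y {x y : P4} : F.f (x, y) ∈ F.Y ↔ x ∈ fourA := by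
  rw [F.mem_Y, t, F.commute_iff, F.commute_iff]
  exact ⟨fun h => centralizer_fourA x h.1.1 h.2.1, fun h =>
    ⟨⟨comm_four x h pa basic_mem.2.2.2.2.1, by simp⟩, ⟨comm_four x h pa2 basic_mem.2.2.2.2.2.2.2.1, by simp⟩⟩⟩

theorem V₁_le_Y : F.V₁ ≤ F.Y := fun g hg => by
  obtain ⟨x, hx, rfl⟩ := F.mem_V₁.1 hg
  exact F.f_mem_Y.2 hx

/-- The first four-group inside its centraliser. -/
def VY : Subgroup F.Y := F.V₁.subgroupOf F.Y

theorem mem_VY {g : F.Y} : g ∈ F.VY ↔ ∃ x ∈ fourA, (g : G) = F.f (x, 1) := F.mem_V₁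

instance VY_normal : F.VY.Normal := ⟨fun n hn g => by
  obtain ⟨x, hx, e⟩ := F.mem_VY.1 hn
  refine F.mem_VY.2 ⟨x, hx, ?_⟩
  show (g : G) * n * (g : G)⁻¹ = _
  rw [e, (F.Y_comm g.2 hx).eq, mul_inv_cancel_right]⟩

/-- The symmetric group in the quotient. -/
def ι : P4 →* F.Y ⧸ F.VY :=
  (QuotientGroup.mk' F.VY).comp
    ((F.f.comp (MonoidHom.inr P4 P4)).codRestrict F.Y fun _ => F.f_mem_Y.2 (one_mem _))

theorem ι_apply (y : P4) :
    F.ι y = QuotientGroup.mk' F.VY ⟨F.f (1, y), F.f_mem_Y.2 (one_mem _)⟩ := rfl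

theorem class_mod {g : F.Y} {y : P4} (h : QuotientGroup.mk' F.VY g = F.ι y) :
    ∃ x ∈ fourA, (g : G) = F.f (x, y) := by
  rw [ι_apply, QuotientGroup.mk'_eq_mk'] at h
  obtain ⟨n, hn, e⟩ := h
  obtain ⟨x, hx, en⟩ := F.mem_VY.1 hn
  refine ⟨x⁻¹, inv_mem hx, ?_⟩
  have e' : (g : G) * n = F.f (1, y) := congrArg Subtype.val e
  rw [eq_mul_inv_of_mul_eq e', en, ← map_inv, ← map_mul, Prod.inv_mk, Prod.mk_mul_mk]
  simp

theorem ι_inj : Function.Injective F.ι := by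
  refine (injective_iff_map_eq_one F.ι).2 fun y hy => ?_
  obtain ⟨x, -, e⟩ := F.class_mod (g := 1) (y := y) (by rw [hy, map_one])
  exact (congrArg Prod.snd (F.inj (e.symm.trans (map_one F.f).symm)))

/-- The data of the quotient, from a mover. -/
noncomputable def quo (hg : ∃ g : G, g * F.t = F.t * g ∧ g * F.f (pa2, 1) = F.f (pa2, 1) * g ∧
      (g * F.t' * g⁻¹ = F.u₂ ∨ g * F.t' * g⁻¹ = F.f (1, pb * pa))) : Quo (F.Y ⧸ F.VY) where
  ι := F.ι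
  inj := F.ι_inj
  cent := by
    intro q hq
    obtain ⟨g, rfl⟩ := QuotientGroup.mk'_surjective F.VY q
    set τ : F.Y := ⟨F.f (1, pa), F.f_mem_Y.2 (one_mem _)⟩
    have h : QuotientGroup.mk' F.VY (g * τ * g⁻¹) = F.ι pa := by
      rw [map_mul, map_mul, map_inv]
      exact mul_inv_eq_iff_eq_mul.2 hq
    obtain ⟨x, hx, e⟩ := F.class_mod h
    have e' : (g : G) * F.t' * (g : G)⁻¹ = F.f (x, pa) := e
    have hx1 : x = 1 := by
      by_contra hne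
      rcases F.cj_two (fourA_le hx) (sq_fourA x hx) hne basic_mem.1 pa_sq pa_ne_one with
        ⟨-, -, h'⟩ | ⟨⟨-, hn⟩ | ⟨hn, -⟩, -⟩ | ⟨hn, -⟩
      · exact F.not_t_z ((F.t_cj_t'.trans ⟨g, e'⟩).trans h')
      · exact hn basic_mem.2.2.2.2.1
      · exact hn hx
      · exact hn hx
    subst hx1
    obtain ⟨p, hp, d, hd, eg⟩ := F.mem_box.1
      (F.mem_T0_of_comm (F.mem_Y.1 g.2).1 (mul_inv_eq_iff_eq_mul.1 e'))
    have hpA : p ∈ fourA := (F.f_mem_Y (y := d)).1 (eg ▸ g.2)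
    refine ⟨d, hd, ?_⟩
    rw [ι_apply, QuotientGroup.mk'_eq_mk']
    refine ⟨⟨F.f (p⁻¹, 1), F.f_mem_Y.2 (inv_mem hpA)⟩, F.mem_VY.2 ⟨_, inv_mem hpA, rfl⟩, Subtype.ext ?_⟩
    show (g : G) * F.f (p⁻¹, 1) = F.f (1, d)
    rw [eg, ← map_mul, Prod.mk_mul_mk, mul_inv_cancel, mul_one]
  fus := by
    obtain ⟨g, h1, h2, h3⟩ := hg
    refine ⟨QuotientGroup.mk' F.VY ⟨g, F.mem_Y.2 ⟨h1, h2⟩⟩, ?_⟩
    rcases h3 with h3 | h3
    · left
      rw [ι_apply, ι_apply, ← map_inv, ← map_mul, ← map_mul]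
      exact congrArg _ (Subtype.ext h3)
    · right
      rw [ι_apply, ι_apply, ← map_inv, ← map_mul, ← map_mul]
      exact congrArg _ (Subtype.ext h3)

theorem conj_Y (p : P4) {g : G} (hg : g ∈ F.Y) : F.f (p, 1) * g * (F.f (p, 1))⁻¹ ∈ F.Y := by
  have key : ∀ x ∈ fourA, Commute (F.f (p, 1) * g * (F.f (p, 1))⁻¹) (F.f (x, 1)) := by
    intro x hx
    have h := (F.Y_comm hg (lift_facts.1 p⁻¹ x hx)).map (MulAut.conj (F.f (p, 1))).toMonoidHom
    have e : (MulAut.conj (F.f (p, 1))).toMonoidHom (F.f (p⁻¹ * x * p⁻¹⁻¹, 1)) = F.f (x, 1) := by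
      show F.f (p, 1) * _ * (F.f (p, 1))⁻¹ = _
      rw [F.f_conj]
      simp [mul_assoc]
    rwa [e] at h
  exact F.mem_Y.2 ⟨(key pa basic_mem.2.2.2.2.1).eq, (key pa2 basic_mem.2.2.2.2.2.2.2.1).eq⟩

/-- Conjugation by `(p, 1)` on the centraliser. -/
def conjY (p : P4) : F.Y ≃* F.Y where
  toFun g := ⟨F.f (p, 1) * g * (F.f (p, 1))⁻¹, F.conj_Y p g.2⟩
  invFun g := ⟨(F.f (p, 1))⁻¹ * g * F.f (p, 1), by
    have h := F.conj_Y p⁻¹ g.2
    rwa [show F.f (p⁻¹, 1) = (F.f (p, 1))⁻¹ by rw [← map_inv, Prod.inv_mk, inv_one], inv_inv] at h⟩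
  left_inv g := Subtype.ext (by show (F.f (p, 1))⁻¹ * (F.f (p, 1) * g * (F.f (p, 1))⁻¹) * F.f (p, 1) = g; group)
  right_inv g := Subtype.ext (by show F.f (p, 1) * ((F.f (p, 1))⁻¹ * g * F.f (p, 1)) * (F.f (p, 1))⁻¹ = g; group)
  map_mul' g h := Subtype.ext (by
    show F.f (p, 1) * ((g : G) * h) * (F.f (p, 1))⁻¹ =
      F.f (p, 1) * g * (F.f (p, 1))⁻¹ * (F.f (p, 1) * h * (F.f (p, 1))⁻¹)
    group)

theorem conjY_map (p : P4) : F.VY.map (F.conjY p).toMonoidHom = F.VY := by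
  refine Subgroup.eq_of_le_of_card_ge ?_
    (le_of_eq (Subgroup.card_map_of_injective (F.conjY p).injective).symm)
  rintro _ ⟨n, hn, rfl⟩
  obtain ⟨x, hx, e⟩ := F.mem_VY.1 hn
  refine F.mem_VY.2 ⟨p * x * p⁻¹, lift_facts.1 p x hx, ?_⟩
  show F.f (p, 1) * (n : G) * (F.f (p, 1))⁻¹ = _
  rw [e, F.f_conj]
  simp

/-- The induced automorphism of the quotient. -/
noncomputable def φ (p : P4) : F.Y ⧸ F.VY ≃* F.Y ⧸ F.VY :=
  QuotientGroup.congr F.VY F.VY (F.conjY p) (F.conjY_map p)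

theorem φ_mk (p : P4) (g : F.Y) :
    F.φ p (QuotientGroup.mk' F.VY g) = QuotientGroup.mk' F.VY (F.conjY p g) := rfl

theorem φ_ι (p y : P4) : F.φ p (F.ι y) = F.ι y := by
  rw [ι_apply, φ_mk]
  refine congrArg _ (Subtype.ext ?_)
  show F.f (p, 1) * F.f (1, y) * (F.f (p, 1))⁻¹ = F.f (1, y)
  rw [F.f_conj]; simp

theorem φ_cube (q : F.Y ⧸ F.VY) : F.φ pc (F.φ pc (F.φ pc q)) = q := by
  obtain ⟨g, rfl⟩ := QuotientGroup.mk'_surjective F.VY q
  rw [φ_mk, φ_mk, φ_mk]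
  refine congrArg _ (Subtype.ext ?_)
  show F.f (pc, 1) * (F.f (pc, 1) * (F.f (pc, 1) * (g : G) * (F.f (pc, 1))⁻¹) * (F.f (pc, 1))⁻¹) *
    (F.f (pc, 1))⁻¹ = (g : G)
  have e : F.f (pc, 1) * F.f (pc, 1) * F.f (pc, 1) = 1 := by
    rw [← map_mul, ← map_mul, Prod.mk_mul_mk, Prod.mk_mul_mk, pc_cube, mul_one, mul_one, F.one_pair]
  calc _ = (F.f (pc, 1) * F.f (pc, 1) * F.f (pc, 1)) * (g : G) *
        (F.f (pc, 1) * F.f (pc, 1) * F.f (pc, 1))⁻¹ := by group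
    _ = (g : G) := by rw [e]; simp

/-- Elements of order three lift. -/
theorem exists_lift {q : F.Y ⧸ F.VY} (h3 : q ^ 3 = 1) :
    ∃ g : F.Y, QuotientGroup.mk' F.VY g = q ∧ g ^ 3 = 1 := by
  obtain ⟨g, rfl⟩ := QuotientGroup.mk'_surjective F.VY q
  rw [← map_pow] at h3
  obtain ⟨x, hx, e⟩ := F.mem_VY.1 ((QuotientGroup.eq_one_iff _).1 h3)
  refine ⟨g ^ 4, ?_, Subtype.ext ?_⟩
  · rw [map_pow, pow_succ, ← map_pow, h3, one_mul]
  · have e' : (g : G) ^ 3 = F.f (x, 1) := e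
    show ((g : G) ^ 4) ^ 3 = 1
    rw [← pow_mul, show 4 * 3 = 3 * 4 from rfl, pow_mul, e', ← map_pow, Prod.pow_mk, one_pow,
      show x ^ 4 = 1 by rw [pow_succ, pow_succ, pow_two, sq_fourA x hx, one_mul, sq_fourA x hx], F.one_pair]

/-- An element fixing a coset of an element of order three centralises it. -/
theorem comm_lift (g : G) {y : G} (hy : y ∈ F.Y) (h3 : y ^ 3 = 1) (h : y⁻¹ * (g * y * g⁻¹) ∈ F.V₁) :
    g * y = y * g := by
  obtain ⟨x, hx, e⟩ := F.mem_V₁.1 h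
  have e1 : g * y * g⁻¹ = y * F.f (x, 1) := by rw [← e, mul_inv_cancel_left]
  have e2 : (g * y * g⁻¹) ^ 3 = 1 := by rw [conj_pow, h3, mul_one, mul_inv_cancel]
  rw [e1, (F.Y_comm hy hx).mul_pow, h3, one_mul, ← map_pow, Prod.pow_mk, one_pow] at e2
  have hx3 : x ^ 3 = 1 := congrArg Prod.fst (F.inj (e2.trans (map_one F.f).symm))
  have hx1 : x = 1 := by
    rw [pow_succ, pow_two, sq_fourA x hx, one_mul] at hx3
    exact hx3
  rw [hx1, F.one_pair, mul_one] at e1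
  exact mul_inv_eq_iff_eq_mul.1 e1

theorem comm_of_fixed (p : P4) {g : F.Y} (h3 : g ^ 3 = 1)
    (h : F.φ p (QuotientGroup.mk' F.VY g) = QuotientGroup.mk' F.VY g) :
    F.f (p, 1) * (g : G) = (g : G) * F.f (p, 1) := by
  refine F.comm_lift (F.f (p, 1)) g.2 (congrArg Subtype.val h3) ?_
  rw [φ_mk] at h
  exact (QuotientGroup.eq.1 h.symm : g⁻¹ * F.conjY p g ∈ F.VY)

/-- The quotient is not alternating of degree six: the 2-local `N(V₁)` would have rank three at the prime three. -/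
theorem not_alt {hg} (e : F.Y ⧸ F.VY ≃* alternatingGroup (Fin 6)) (hQ : (F.quo hg).ι = F.ι) : False := by
  classical
  obtain ⟨a1, a2, a12, ainj⟩ := alt_facts
  have hfix : ∀ q, F.φ pc q = q := (F.quo hg).fixed_of_alt e (F.φ pc)
    (fun p => by rw [hQ]; exact F.φ_ι pc p) F.φ_cube
  obtain ⟨x, ex, hx⟩ := F.exists_lift (q := e.symm alt1) (by rw [← map_pow, a1, map_one])
  obtain ⟨y, ey, hy⟩ := F.exists_lift (q := e.symm alt2) (by rw [← map_pow, a2, map_one])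
  set γ := F.f (pc, 1)
  have cγx : Commute γ (x : G) := F.comm_of_fixed pc hx (hfix _)
  have cγy : Commute γ (y : G) := F.comm_of_fixed pc hy (hfix _)
  have cxy : Commute (x : G) (y : G) := by
    refine F.comm_lift (x : G) y.2 (congrArg Subtype.val hy) ?_
    have : QuotientGroup.mk' F.VY (y⁻¹ * (x * y * x⁻¹)) = 1 := by
      rw [map_mul, map_mul, map_mul, map_inv, map_inv, ex, ey, ← map_mul e.symm alt1 alt2, a12, map_mul,
        mul_inv_cancel_right, inv_mul_cancel]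
    exact ((QuotientGroup.eq_one_iff (y⁻¹ * (x * y * x⁻¹) : F.Y)).1 this : _ ∈ F.VY)
  have γ3 : γ ^ 3 = 1 := by
    rw [← map_pow, Prod.pow_mk, one_pow, pow_succ, pow_two, pc_cube, F.one_pair]
  have x3 : (x : G) ^ 3 = 1 := congrArg Subtype.val hx
  have y3 : (y : G) ^ 3 = 1 := congrArg Subtype.val hy
  let A : Subgroup G := {
    carrier := {g | g ^ 3 = 1 ∧ ∃ i j l : ℕ, g = γ ^ i * (x : G) ^ j * (y : G) ^ l}
    one_mem' := ⟨one_pow 3, 0, 0, 0, by simp⟩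
    mul_mem' := by
      rintro g h ⟨g3, i, j, l, rfl⟩ ⟨h3, i', j', l', rfl⟩
      have e : γ ^ i * (x : G) ^ j * (y : G) ^ l * (γ ^ i' * (x : G) ^ j' * (y : G) ^ l') =
          γ ^ (i + i') * (x : G) ^ (j + j') * (y : G) ^ (l + l') := by
        rw [pow_add, pow_add, pow_add]
        calc γ ^ i * (x : G) ^ j * (y : G) ^ l * (γ ^ i' * (x : G) ^ j' * (y : G) ^ l')
              = γ ^ i * (x : G) ^ j * ((y : G) ^ l * γ ^ i') * (x : G) ^ j' * (y : G) ^ l' := by group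
          _ = γ ^ i * ((x : G) ^ j * γ ^ i') * ((y : G) ^ l * (x : G) ^ j') * (y : G) ^ l' := by
            rw [← (cγy.pow_pow i' l).eq]; group
          _ = _ := by
            rw [← (cγx.pow_pow i' j).eq, ← (cxy.pow_pow j' l).eq]; group
      refine ⟨?_, _, _, _, e⟩
      rw [e, Commute.mul_pow ((cγy.pow_pow _ _).mul_left (cxy.pow_pow _ _)), (cγx.pow_pow _ _).mul_pow,
        ← pow_mul, ← pow_mul, ← pow_mul, mul_comm (i + i'), mul_comm (j + j'), mul_comm (l + l'), pow_mul,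
        pow_mul, pow_mul, γ3, x3, y3]
      simp
    inv_mem' := by
      rintro g ⟨g3, i, j, l, rfl⟩
      refine ⟨by rw [inv_pow, g3, inv_one], 2 * i, 2 * j, 2 * l, ?_⟩
      rw [inv_eq_of_mul_eq_one_right (a := γ ^ i * (x : G) ^ j * (y : G) ^ l)
        (b := (γ ^ i * (x : G) ^ j * (y : G) ^ l) ^ 2) (by rw [← pow_succ', g3]),
        Commute.mul_pow ((cγy.pow_pow _ _).mul_left (cxy.pow_pow _ _)), (cγx.pow_pow _ _).mul_pow,
        ← pow_mul, ← pow_mul, ← pow_mul, mul_comm i, mul_comm j, mul_comm l] }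
  have hAcomm : IsMulCommutative A := ⟨⟨fun g h => by
    obtain ⟨-, i, j, l, eg⟩ := g.2
    obtain ⟨-, i', j', l', eh⟩ := h.2
    refine Subtype.ext (show (g : G) * h = h * g from ?_)
    have c : ∀ w : G, Commute w γ → Commute w (x : G) → Commute w (y : G) →
        Commute w (γ ^ i' * (x : G) ^ j' * (y : G) ^ l') := fun w h1 h2 h3 =>
      ((h1.pow_right _).mul_right (h2.pow_right _)).mul_right (h3.pow_right _)
    rw [eg, eh]
    exact (((c γ (Commute.refl γ) cγx cγy).pow_left i).mul_left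
      ((c (x : G) cγx.symm (Commute.refl _) cxy).pow_left j)).mul_left
      ((c (y : G) cγy.symm cxy.symm (Commute.refl _)).pow_left l)⟩⟩
  have hV2 : IsPGroup 2 F.V₁ := F.box_isPGroup fourA_le bot_le
  have hloc : Cfsg.IsTwoLocal (Subgroup.normalizer (F.V₁ : Set G)) := by
    refine ⟨F.V₁, hV2, fun h => F.t_ne_one ?_, rfl⟩
    exact Subgroup.mem_bot.1 (h ▸ F.mem_V₁.2 ⟨pa, basic_mem.2.2.2.2.1, rfl⟩)
  have hYN : F.Y ≤ Subgroup.normalizer (F.V₁ : Set G) := fun g hg => by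
    rw [Subgroup.mem_normalizer_iff_map_conj_eq]
    refine Subgroup.eq_of_le_of_card_ge ?_
      (le_of_eq (Subgroup.card_map_of_injective (MulAut.conj g).injective).symm)
    rintro _ ⟨w, hw, rfl⟩
    obtain ⟨p, hp, rfl⟩ := F.mem_V₁.1 hw
    show g * F.f (p, 1) * g⁻¹ ∈ F.V₁
    rwa [(F.Y_comm hg hp).eq, mul_inv_cancel_right]
  have hγN : γ ∈ Subgroup.normalizer (F.V₁ : Set G) := by
    rw [Subgroup.mem_normalizer_iff_map_conj_eq]
    refine Subgroup.eq_of_le_of_card_ge ?_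
      (le_of_eq (Subgroup.card_map_of_injective (MulAut.conj γ).injective).symm)
    rintro _ ⟨w, hw, rfl⟩
    obtain ⟨p, hp, rfl⟩ := F.mem_V₁.1 hw
    exact F.mem_V₁.2 ⟨pc * p * pc⁻¹, lift_facts.1 pc p hp, by
      show γ * F.f (p, 1) * γ⁻¹ = _; rw [F.f_conj]; simp⟩
  have hAN : A ≤ Subgroup.normalizer (F.V₁ : Set G) := by
    rintro g ⟨-, i, j, l, rfl⟩
    exact mul_mem (mul_mem (pow_mem hγN _) (pow_mem (hYN x.2) _)) (pow_mem (hYN y.2) _)
  have hexp : ∀ a ∈ A.subgroupOf (Subgroup.normalizer (F.V₁ : Set G)), a ^ 3 = 1 := fun a ha =>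
    Subtype.ext (by rw [SubmonoidClass.coe_pow]; exact ha.1)
  have hr := F.hqt 3 Nat.prime_three (by norm_num) _ hloc (A.subgroupOf _)
    ⟨⟨fun g h => Subtype.ext (Subtype.ext (show (g.1.1 : G) * h.1.1 = h.1.1 * g.1.1 from
      congrArg Subtype.val (hAcomm.is_comm.comm (⟨g.1.1, g.2⟩ : A) ⟨h.1.1, h.2⟩)))⟩⟩ hexp
  rw [Nat.card_congr (Subgroup.subgroupOfEquivOfLe hAN).toEquiv] at hr
  let ψ : Fin 3 × Fin 3 × Fin 3 → A := fun q => ⟨γ ^ (q.1 : ℕ) * (x : G) ^ (q.2.1 : ℕ) * (y : G) ^ (q.2.2 : ℕ),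
    ⟨by rw [Commute.mul_pow ((cγy.pow_pow _ _).mul_left (cxy.pow_pow _ _)), (cγx.pow_pow _ _).mul_pow,
        ← pow_mul, ← pow_mul, ← pow_mul, mul_comm (q.1 : ℕ), mul_comm (q.2.1 : ℕ), mul_comm (q.2.2 : ℕ),
        pow_mul, pow_mul, pow_mul, γ3, x3, y3]
        simp, _, _, _, rfl⟩⟩
  have hψ : Function.Injective ψ := by
    rintro ⟨i, j, l⟩ ⟨i', j', l'⟩ hh
    have h0 : γ ^ (i : ℕ) * (x : G) ^ (j : ℕ) * (y : G) ^ (l : ℕ) =
        γ ^ (i' : ℕ) * (x : G) ^ (j' : ℕ) * (y : G) ^ (l' : ℕ) := congrArg Subtype.val hh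
    have h1 : ((γ ^ (i : ℕ))⁻¹ * γ ^ (i' : ℕ) : G) =
        ((x ^ (j : ℕ) * y ^ (l : ℕ)) * (x ^ (j' : ℕ) * y ^ (l' : ℕ))⁻¹ : F.Y) := by
      simp only [Subgroup.coe_mul, Subgroup.coe_inv, SubmonoidClass.coe_pow]
      calc (γ ^ (i : ℕ))⁻¹ * γ ^ (i' : ℕ) = (γ ^ (i : ℕ))⁻¹ * (γ ^ (i' : ℕ) * (x : G) ^ (j' : ℕ) *
            (y : G) ^ (l' : ℕ)) * ((x : G) ^ (j' : ℕ) * (y : G) ^ (l' : ℕ))⁻¹ := by group
        _ = _ := by rw [← h0]; group
    have hi : i = i' := by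
      have hm : (γ ^ (i : ℕ))⁻¹ * γ ^ (i' : ℕ) ∈ F.Y := h1 ▸ Subtype.prop _
      rw [← map_pow, ← map_pow, ← map_inv, ← map_mul] at hm
      exact lift_facts.2.2.2 i i' ((F.f_mem_Y (y := ((1 : P4) ^ (i : ℕ))⁻¹ * 1 ^ (i' : ℕ))).1 hm)
    subst hi
    rw [inv_mul_cancel] at h1
    have h2 : (1 : F.Y) = (x ^ (j : ℕ) * y ^ (l : ℕ)) * (x ^ (j' : ℕ) * y ^ (l' : ℕ))⁻¹ := Subtype.ext h1
    have h3 := congrArg (fun g => e (QuotientGroup.mk' F.VY g)) h2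
    simp only [map_one, map_mul, map_inv, map_pow, ex, ey, MulEquiv.apply_symm_apply] at h3
    obtain ⟨hj, hl⟩ := ainj _ _ _ _ (mul_inv_eq_one.1 h3.symm)
    rw [hj, hl]
  have h27 := Nat.card_le_card_of_injective ψ hψ
  simp only [Nat.card_prod, Nat.card_fin] at h27
  omega

/-- An element of order three centralising `(b, 1)` and the first four-group and moving `(1, a)` to `(1, b)`. -/
theorem exists_rot (hu : Cj F.u₁ F.t) :
    ∃ k : G, k * F.t = F.t * k ∧ k * F.u₁ = F.u₁ * k ∧ k * F.t' * k⁻¹ = F.u₂ := by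
  have hg := F.exists_mover hu
  set Q := F.quo hg with hQ
  have hι : Q.ι = F.ι := rfl
  have h168 : Nat.card (F.Y ⧸ F.VY) = 168 := by
    rcases Q.card_or_alt with h | ⟨⟨e⟩⟩
    · exact h
    · exact (F.not_alt e hι).elim
  obtain ⟨q, hq, hq3⟩ := Q.exists_rot
  have hc := Q.rot_fixed hq (F.φ pc) (fun p => by rw [hι]; exact F.φ_ι pc p) (F.φ_cube q)
  have hb := Q.rot_fixed_small h168 hq (F.φ pb) (fun p => by rw [hι]; exact F.φ_ι pb p)
  obtain ⟨k, rfl, hk3⟩ := F.exists_lift hq3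
  have c1 := F.comm_of_fixed pc hk3 hc
  have c2 := F.comm_of_fixed pb hk3 hb
  refine ⟨k, (F.mem_Y.1 k.2).1, c2.symm, ?_⟩
  obtain ⟨x, hx, e⟩ := F.class_mod (g := k * ⟨F.f (1, pa), F.f_mem_Y.2 (one_mem _)⟩ * k⁻¹) (y := pb) (by
    rw [map_mul, map_mul, map_inv]
    exact hq.1)
  have e' : (k : G) * F.t' * (k : G)⁻¹ = F.f (x, pb) := e
  have h4 : F.f (pc, 1) * F.f (x, pb) * (F.f (pc, 1))⁻¹ = F.f (x, pb) := by
    rw [← e', show F.f (pc, 1) * ((k : G) * F.t' * (k : G)⁻¹) * (F.f (pc, 1))⁻¹ =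
      (F.f (pc, 1) * (k : G)) * F.t' * (F.f (pc, 1) * (k : G))⁻¹ by group, c1,
      show (k : G) * F.f (pc, 1) * F.t' * ((k : G) * F.f (pc, 1))⁻¹ =
        (k : G) * (F.f (pc, 1) * F.t' * (F.f (pc, 1))⁻¹) * (k : G)⁻¹ by group, t', F.f_conj]
    simp
  rw [F.f_conj, F.f_eq_iff, Prod.mk.injEq] at h4
  rw [e', lift_facts.2.1 x hx h4.1]
  rfl

end Frame

end Cfsg.Lib.QTWreath
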