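import Cfsg.Agent.QTKE.Wreath.OneClass
import Cfsg.Prelude.Def_QuasithinSetup

/-!
No simple quasithin group of even characteristic has a maximal 2-local isomorphic to the wreath product of
the symmetric group of degree four by a group of order two.
-/

set_option autoImplicit false
set_option linter.unusedSectionVars false

namespace Cfsg.Lib.QTWreath

open Subgroup
open scoped Pointwise

universe u

/-- The two blocks. -/
abbrev blockL : Set (Fin 4 ⊕ Fin 4) := Set.range Sum.inl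
/-- The two blocks. -/
abbrev blockR : Set (Fin 4 ⊕ Fin 4) := Set.range Sum.inr

/-- The interchange of the two blocks. -/
def swapBlocks : Equiv.Perm (Fin 4 ⊕ Fin 4) := Equiv.sumComm (Fin 4) (Fin 4)

theorem swap_mem : swapBlocks ∈ Cfsg.blockStabilizerS4wr2 := by
  rw [Cfsg.blockStabilizerS4wr2, MulAction.mem_stabilizer_iff, ← Set.image_smul, Set.image_pair]
  have h1 : swapBlocks • blockL = blockR := by
    ext x
    rw [Set.mem_smul_set]
    constructor
    · rintro ⟨_, ⟨a, rfl⟩, rfl⟩; exact ⟨a, rfl⟩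
    · rintro ⟨a, rfl⟩; exact ⟨Sum.inl a, ⟨a, rfl⟩, rfl⟩
  have h2 : swapBlocks • blockR = blockL := by
    ext x
    rw [Set.mem_smul_set]
    constructor
    · rintro ⟨_, ⟨a, rfl⟩, rfl⟩; exact ⟨a, rfl⟩
    · rintro ⟨a, rfl⟩; exact ⟨Sum.inr a, ⟨a, rfl⟩, rfl⟩
  rw [show swapBlocks • (Set.range Sum.inl : Set (Fin 4 ⊕ Fin 4)) = Set.range Sum.inr from h1,
    show swapBlocks • (Set.range Sum.inr : Set (Fin 4 ⊕ Fin 4)) = Set.range Sum.inl from h2, Set.pair_comm]

theorem congr_mem (p : P4 × P4) :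
    Equiv.Perm.sumCongrHom (Fin 4) (Fin 4) p ∈ Cfsg.blockStabilizerS4wr2 := by
  rw [Cfsg.blockStabilizerS4wr2, MulAction.mem_stabilizer_iff, ← Set.image_smul, Set.image_pair]
  congr 1
  · ext x
    rw [Set.mem_smul_set]
    constructor
    · rintro ⟨_, ⟨a, rfl⟩, rfl⟩; exact ⟨p.1 a, rfl⟩
    · rintro ⟨a, rfl⟩
      exact ⟨Sum.inl (p.1.symm a), ⟨_, rfl⟩, congrArg Sum.inl (p.1.apply_symm_apply a)⟩
  · congr 1
    ext x
    rw [Set.mem_smul_set]
    constructor
    · rintro ⟨_, ⟨a, rfl⟩, rfl⟩; exact ⟨p.2 a, rfl⟩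
    · rintro ⟨a, rfl⟩
      exact ⟨Sum.inr (p.2.symm a), ⟨_, rfl⟩, congrArg Sum.inr (p.2.apply_symm_apply a)⟩

theorem block_cases {σ : Equiv.Perm (Fin 4 ⊕ Fin 4)} (h : σ ∈ Cfsg.blockStabilizerS4wr2) :
    ∃ p, σ = Equiv.Perm.sumCongrHom (Fin 4) (Fin 4) p ∨
      σ = Equiv.Perm.sumCongrHom (Fin 4) (Fin 4) p * swapBlocks := by
  have key : ∀ τ : Equiv.Perm (Fin 4 ⊕ Fin 4), τ • blockL = blockL →
      ∃ p, τ = Equiv.Perm.sumCongrHom (Fin 4) (Fin 4) p := fun τ hτ => by
    obtain ⟨p, hp⟩ := Equiv.Perm.mem_sumCongrHom_range_of_perm_mapsTo_inl (σ := τ) fun x hx => by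
      show τ x ∈ blockL
      rw [← hτ]
      exact Set.smul_mem_smul_set hx
    exact ⟨p, hp.symm⟩
  have hσ : σ • blockL ∈ ({blockL, blockR} : Set (Set (Fin 4 ⊕ Fin 4))) := by
    rw [Cfsg.blockStabilizerS4wr2, MulAction.mem_stabilizer_iff] at h
    have h1 : σ • blockL ∈ σ • ({blockL, blockR} : Set (Set (Fin 4 ⊕ Fin 4))) :=
      Set.smul_mem_smul_set (Or.inl rfl)
    rwa [h] at h1
  rcases hσ with e | e
  · obtain ⟨p, hp⟩ := key σ e
    exact ⟨p, Or.inl hp⟩
  · have e' : (swapBlocks * σ) • blockL = blockL := by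
      rw [mul_smul, show σ • blockL = blockR from e]
      ext x
      rw [Set.mem_smul_set]
      constructor
      · rintro ⟨_, ⟨a, rfl⟩, rfl⟩; exact ⟨a, rfl⟩
      · rintro ⟨a, rfl⟩; exact ⟨Sum.inr a, ⟨a, rfl⟩, rfl⟩
    obtain ⟨⟨a, b⟩, hp⟩ := key _ e'
    refine ⟨(b, a), Or.inr ?_⟩
    have hsq : swapBlocks * swapBlocks = 1 := by ext (x | x) <;> rfl
    calc σ = swapBlocks * (swapBlocks * σ) := by rw [← mul_assoc, hsq, one_mul]
      _ = swapBlocks * Equiv.Perm.sumCongrHom (Fin 4) (Fin 4) (a, b) := by rw [hp]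
      _ = _ := by ext (x | x) <;> rfl

/-- The main result. -/
theorem no_wreath {G : Type u} [Group G] [Finite G] [IsSimpleGroup G]
    (hG : ¬ IsMulCommutative G) (hQ : Cfsg.IsQTKE G) (T : Sylow 2 G) (M : Subgroup G)
    (hM : M ∈ Cfsg.maxTwoLocalsContaining (T : Subgroup G))
    (hW : Nonempty (↥M ≃* ↥Cfsg.blockStabilizerS4wr2)) : False := by
  classical
  haveI : Fact (Nat.Prime 2) := ⟨Nat.prime_two⟩
  obtain ⟨e⟩ := hW
  let f : P4 × P4 →* G := M.subtype.comp (e.symm.toMonoidHom.comp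
    ((Equiv.Perm.sumCongrHom (Fin 4) (Fin 4)).codRestrict Cfsg.blockStabilizerS4wr2 congr_mem))
  let s : G := (e.symm ⟨swapBlocks, swap_mem⟩ : M)
  have hinj : Function.Injective f := fun p q h =>
    Equiv.Perm.sumCongrHom_injective (congrArg Subtype.val (e.symm.injective (Subtype.ext h)))
  have hout : ∀ p, s ≠ f p := fun p h => by
    have h1 := congrArg Subtype.val (e.symm.injective (Subtype.ext h))
    have h2 := Equiv.congr_fun h1 (Sum.inl 0)
    simp [swapBlocks] at h2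
  have hmem : ∀ g, g ∈ M ↔ ∃ p, g = f p ∨ g = f p * s := by
    refine fun g => ⟨fun hg => ?_, ?_⟩
    · obtain ⟨p, hp⟩ := block_cases (e ⟨g, hg⟩).2
      refine ⟨p, hp.imp (fun h => ?_) fun h => ?_⟩
      · exact congrArg Subtype.val ((e.symm_apply_apply ⟨g, hg⟩).symm.trans (congrArg e.symm
          (Subtype.ext h : e ⟨g, hg⟩ = ⟨_, congr_mem p⟩)))
      · have h' : e ⟨g, hg⟩ = ⟨_, congr_mem p⟩ * ⟨swapBlocks, swap_mem⟩ := Subtype.ext h
        have h2 := (e.symm_apply_apply ⟨g, hg⟩).symm.trans (congrArg e.symm h')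
        rw [map_mul] at h2
        exact congrArg Subtype.val h2
    · rintro ⟨p, rfl | rfl⟩
      · exact SetLike.coe_mem _
      · exact M.mul_mem (SetLike.coe_mem _) (SetLike.coe_mem _)
  have hcard : Nat.card M = 1152 := by
    let ψ : (P4 × P4) × Bool → M := fun q =>
      ⟨if q.2 then f q.1 * s else f q.1, (hmem _).2 ⟨q.1, by by_cases h : q.2 <;> simp [h]⟩⟩
    have hψ : Function.Bijective ψ := by
      refine ⟨fun ⟨p, i⟩ ⟨q, j⟩ h => ?_, fun ⟨g, hg⟩ => ?_⟩
      · have h' := congrArg (fun g : M => (g : G)) h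
        cases i <;> cases j <;> simp only [ψ, Bool.false_eq_true, if_false, if_true] at h'
        · rw [hinj h']
        · exact absurd (show s = f (q⁻¹ * p) by rw [map_mul, map_inv, h', inv_mul_cancel_left]) (hout _)
        · exact absurd (show s = f (p⁻¹ * q) by rw [map_mul, map_inv, ← h', inv_mul_cancel_left]) (hout _)
        · rw [hinj (mul_right_cancel h')]
      · obtain ⟨p, rfl | rfl⟩ := (hmem g).1 hg
        · exact ⟨(p, false), rfl⟩
        · exact ⟨(p, true), rfl⟩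
    rw [← Nat.card_eq_of_bijective ψ hψ, Nat.card_prod, Nat.card_prod, Nat.card_perm, Nat.card_fin]
    simp [Nat.factorial]
  have hsyl : ∀ Q : Subgroup G, IsPGroup 2 Q → Nat.card Q ≤ 128 := by
    intro Q hQ2
    obtain ⟨S, hS⟩ := hQ2.exists_le_sylow
    refine (Subgroup.card_le_of_le hS).trans ?_
    have h1 : Nat.card (T : Subgroup G) ∣ 1152 := hcard ▸ Subgroup.card_dvd_of_le hM.2
    obtain ⟨n, hn⟩ := T.isPGroup'.exists_card_eq
    rw [S.card_eq_multiplicity, ← T.card_eq_multiplicity]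
    rw [hn] at h1 ⊢
    have h2 : 2 ^ n ∣ 128 :=
      (Nat.Coprime.pow_left n (show Nat.Coprime 2 9 by norm_num)).dvd_of_dvd_mul_right
        (show 2 ^ n ∣ 128 * 9 from h1)
    exact Nat.le_of_dvd (by norm_num) h2
  let F : Frame G := {
    f := f
    s := s
    inj := hinj
    sq := congrArg Subtype.val (show e.symm ⟨swapBlocks, swap_mem⟩ * e.symm ⟨swapBlocks, swap_mem⟩ = 1 by
      rw [← map_mul, ← map_one e.symm]
      exact congrArg e.symm (Subtype.ext (by ext (x | x) <;> rfl)))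
    swap := fun x y => congrArg Subtype.val (show e.symm ⟨swapBlocks, swap_mem⟩ *
        e.symm ⟨_, congr_mem (x, y)⟩ * e.symm ⟨swapBlocks, swap_mem⟩ = e.symm ⟨_, congr_mem (y, x)⟩ by
      rw [← map_mul, ← map_mul]
      exact congrArg e.symm (Subtype.ext (by ext (a | a) <;> rfl)))
    out := hout
    M := M
    M_mem := hmem
    hmax := hM.1
    hev := hQ.2.2
    hqt := hQ.1
    hsyl := hsyl }
  refine F.absurd_frame fun N hN hi => ?_
  rcases hN.eq_bot_or_eq_top with h | h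
  · refine hG ?_
    rw [h, Subgroup.index_bot] at hi
    haveI := isCyclic_of_prime_card (α := G) (p := 2) hi
    exact ⟨⟨fun a b => IsCyclic.commGroup.mul_comm a b⟩⟩
  · rw [h, Subgroup.index_top] at hi
    omega

end Cfsg.Lib.QTWreath
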