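import Cfsg.Agent.QTKE.Wreath.Conj

/-!
If a one-sided transposition is conjugate to `t`, the centraliser of the first four-group moves `t'` to it.
-/

set_option autoImplicit false
set_option linter.unusedSectionVars false
set_option linter.style.haveILetI false

namespace Cfsg.Lib.QTWreath

open Subgroup

universe u

theorem mover_facts : pa2 * pb * pa2⁻¹ = pb * pa ∧ pa2 * pa * pa2⁻¹ = pa ∧
    (∀ x ∈ fourA, x ≠ 1 → ∃ g : P4, g * x * g⁻¹ = pa) ∧
    (∀ d ∈ dih, ∀ x ∈ fourB, d * x * d⁻¹ ∈ fourB) := by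
  decide +kernel

namespace Frame

variable {G : Type u} [Group G] [Finite G] (F : Frame G)

theorem swap_image (h : G) (x y : P4) :
    h * F.s * F.f (x, y) * (h * F.s)⁻¹ = h * F.f (y, x) * h⁻¹ := by
  rw [← F.s_conj x y]; group

/-- If `v` is conjugate to `t` then `u₁` is conjugate to `z`. -/
theorem u_z_of_v_t (hv : Cj F.v F.t) : Cj F.u₁ F.z := by
  obtain ⟨h, hh, hQ⟩ := F.into_T0 (Q := F.box dih fourB) (F.box_isPGroup le_rfl fourB_le) (x := F.v) (by
    rintro q hq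
    obtain ⟨x, hx, y, hy, rfl⟩ := F.mem_box.1 hq
    exact (F.commute_iff x y pa pb).2 ⟨hx, comm_fourB y hy pb basic_mem.2.2.2.2.2.2.1⟩) hv
  have hd := F.image_derived_right (h := h * F.s) fun y hy => by
    rw [F.swap_image]; exact hQ _ (F.f_mem_box.2 ⟨hy, one_mem _⟩)
  rw [t', F.swap_image] at hd
  rcases hd with e | e | e
  · exfalso
    have e' : F.t = F.v := (MulAut.conj h).injective (e.trans hh.symm)
    exact (show pb ≠ 1 by decide +kernel) (congrArg Prod.snd (F.inj e')).symm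
  · refine (show Cj F.u₁ F.u₂ from F.cj_swap pb 1).trans ⟨h, ?_⟩
    rw [show F.u₂ = F.t * F.v by rw [u₂, t, v, ← map_mul, Prod.mk_mul_mk, pa_sq, one_mul],
      show h * (F.t * F.v) * h⁻¹ = (h * F.f (pa, 1) * h⁻¹) * (h * F.v * h⁻¹) by rw [t]; group, e, hh,
      ← F.t_mul_t']
    exact ((F.T0_comm_t F.t'_mem_T0).1)
  · exact absurd ⟨h, e⟩ F.not_t_z

/-- If `u₁` is conjugate to `t`, an element centralising the first four-group moves `t'` to `(1, b)` or `(1, ba)`. -/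
theorem exists_mover (hu : Cj F.u₁ F.t) :
    ∃ g : G, g * F.t = F.t * g ∧ g * F.f (pa2, 1) = F.f (pa2, 1) * g ∧
      (g * F.t' * g⁻¹ = F.u₂ ∨ g * F.t' * g⁻¹ = F.f (1, pb * pa)) := by
  classical
  obtain ⟨d2, d1, hrot, hnorm⟩ := mover_facts
  obtain ⟨maD, ma2D, mbD, -, maA, maB, mbB, ma2A, mbaB⟩ := basic_mem
  have hvt : ¬ Cj F.v F.t := fun hv => F.not_t_z (hu.symm.trans (F.u_z_of_v_t hv))
  obtain ⟨h, hh, hQ⟩ := F.into_T0 (Q := F.box fourB dih) (F.box_isPGroup fourB_le le_rfl) (x := F.u₁) (by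
    rintro q hq
    obtain ⟨x, hx, y, hy, rfl⟩ := F.mem_box.1 hq
    exact (F.commute_iff x y pb 1).2 ⟨comm_fourB x hx pb mbB, by simp⟩) hu
  have hR : ∀ y ∈ dih, h * F.f (1, y) * h⁻¹ ∈ F.T0 := fun y hy => hQ _ (F.f_mem_box.2 ⟨one_mem _, hy⟩)
  have ht' : h * F.t' * h⁻¹ = F.t' := by
    rcases F.image_derived_right hR with e | e | e
    · exfalso
      have e' : F.t' = F.u₁ := (MulAut.conj h).injective (e.trans hh.symm)
      exact pa_ne_one (congrArg Prod.snd (F.inj e'))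
    · exact e
    · exact absurd (F.t_cj_t'.trans ⟨h, e⟩) F.not_t_z
  obtain ⟨x, hx, y, hy, exy⟩ := F.mem_box.1 (hQ F.t (F.f_mem_box.2 ⟨maB, one_mem _⟩))
  have hy' : y = 1 ∨ y = pa := F.second_of_comm hR ht' (x := x) hy fun d hd => by
    rw [← exy]
    exact (show Commute (F.f (1, d)) F.t from (F.commute_iff 1 d pa 1).2 ⟨by simp, by simp⟩).map
      (MulAut.conj h).toMonoidHom
  have hx2 : x * x = 1 := (F.invol_pair (by
    rw [← exy, show h * F.t * h⁻¹ * (h * F.t * h⁻¹) = h * (F.t * F.t) * h⁻¹ by group, t, ← map_mul,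
      Prod.mk_mul_mk, pa_sq, one_mul, F.one_pair, mul_one, mul_inv_cancel])).1
  have hx1 : x ≠ 1 := by
    rintro rfl
    rcases hy' with rfl | rfl
    · rw [F.one_pair, conj_eq_one_iff] at exy
      exact F.t_ne_one exy
    · exact F.t_ne_t' ((MulAut.conj h).injective (exy.trans ht'.symm))
  have hy1 : y = 1 := by
    refine hy'.resolve_right fun e => F.not_t_z ?_
    subst e
    have hz : Cj F.z (F.f (x, 1)) := ⟨h, by
      rw [← F.t_mul_t', show h * (F.t * F.t') * h⁻¹ = (h * F.t * h⁻¹) * (h * F.t' * h⁻¹) by group, exy,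
        ht', t', ← map_mul, Prod.mk_mul_mk, mul_one, pa_sq]⟩
    rcases F.cj_left hx hx2 hx1 with ⟨-, e, -⟩ | ⟨-, e, -⟩
    · exact ((hz.trans e)).symm
    · exact ((hz.trans e).trans hu).symm
  subst hy1
  have hxA : x ∉ fourA := fun hA => by
    obtain ⟨γ, hγ⟩ := hrot x hA hx1
    obtain ⟨r, hrB, hrA, er⟩ := F.not_fixed (h := F.f (γ, 1) * h) (by
      rw [show F.f (γ, 1) * h * F.t * (F.f (γ, 1) * h)⁻¹ = F.f (γ, 1) * (h * F.t * h⁻¹) * (F.f (γ, 1))⁻¹ by
        group, exy, F.f_conj, hγ]; simp [t]) (by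
      rw [show F.f (γ, 1) * h * F.t' * (F.f (γ, 1) * h)⁻¹ = F.f (γ, 1) * (h * F.t' * h⁻¹) * (F.f (γ, 1))⁻¹ by
        group, ht', t', F.f_conj]; simp)
    rw [show F.f (γ, 1) * h * F.u₁ * (F.f (γ, 1) * h)⁻¹ = F.f (γ, 1) * (h * F.u₁ * h⁻¹) * (F.f (γ, 1))⁻¹ by
      group, hh, t, F.f_conj] at er
    exact hrA ((show γ * pa * γ⁻¹ = r from congrArg Prod.fst (F.inj er)) ▸ comm_four_cases.2.2 γ pa maA)
  -- the image lies in the same subgroup
  have hbox : ∀ q ∈ F.box fourB dih, h * q * h⁻¹ ∈ F.box fourB dih := by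
    intro q hq
    obtain ⟨p, hp, r, hr, rfl⟩ := F.mem_box.1 hq
    obtain ⟨p', hp', r', hr', e⟩ := F.mem_box.1 (hQ _ hq)
    rw [e]
    refine F.f_mem_box.2 ⟨?_, hr'⟩
    have c : Commute (h * F.f (p, r) * h⁻¹) (h * F.t * h⁻¹) :=
      (show Commute (F.f (p, r)) F.t from
        (F.commute_iff p r pa 1).2 ⟨comm_fourB p hp pa maB, by simp⟩).map (MulAut.conj h).toMonoidHom
    rw [e, exy] at c
    have c' := ((F.commute_iff p' r' x 1).1 c).1
    rcases invol_cases x hx hx2 with h' | h' | h' | h' | h' | h'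
    · exact absurd h' hx1
    · exact absurd (h' ▸ maA) hxA
    · exact absurd (h' ▸ ma2A) hxA
    · exact absurd (h' ▸ mul_mem maA ma2A) hxA
    · exact centralizer_fourB p' hp' (h' ▸ c')
    · exact comm_four_cases.1 p' hp' (h' ▸ c')
  -- a three-cycle on the one-sided involutions of the first component
  obtain ⟨q, qu, qt, qt', qbox⟩ : ∃ q : G, q * F.u₁ * q⁻¹ = F.t ∧ q * F.t * q⁻¹ = F.f (pb * pa, 1) ∧
      q * F.t' * q⁻¹ = F.t' ∧ ∀ w ∈ F.box fourB dih, q * w * q⁻¹ ∈ F.box fourB dih := by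
    have hxB : x = pb ∨ x = pb * pa := by
      rcases invol_cases x hx hx2 with h' | h' | h' | h' | h' | h'
      · exact absurd h' hx1
      · exact absurd (h' ▸ maA) hxA
      · exact absurd (h' ▸ ma2A) hxA
      · exact absurd (h' ▸ mul_mem maA ma2A) hxA
      · exact Or.inl h'
      · exact Or.inr h'
    rcases hxB with rfl | rfl
    · have hc : ∀ w : G, F.f (pa2, 1) * h * w * (F.f (pa2, 1) * h)⁻¹ =
          F.f (pa2, 1) * (h * w * h⁻¹) * (F.f (pa2, 1))⁻¹ := fun w => by group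
      refine ⟨F.f (pa2, 1) * h, ?_, ?_, ?_, fun w hw => ?_⟩
      · rw [hc, hh, t, F.f_conj, d1]; simp
      · rw [hc, exy, F.f_conj, d2]; simp
      · rw [hc, ht', t', F.f_conj]; simp
      · rw [hc]
        obtain ⟨p, hp, r, hr, e⟩ := F.mem_box.1 (hbox w hw)
        rw [e, F.f_conj]
        exact F.f_mem_box.2 ⟨hnorm pa2 ma2D p hp, by simpa using hr⟩
    · exact ⟨h, hh, exy, ht', hbox⟩
  have qba : q * F.f (pb * pa, 1) * q⁻¹ = F.u₁ := by
    rw [show F.f (pb * pa, 1) = F.u₁ * F.t by rw [u₁, t, ← map_mul, Prod.mk_mul_mk, one_mul],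
      show q * (F.u₁ * F.t) * q⁻¹ = (q * F.u₁ * q⁻¹) * (q * F.t * q⁻¹) by group, qu, qt, u₁, t, ← map_mul,
      Prod.mk_mul_mk, one_mul, show pa * (pb * pa) = pb by decide +kernel]
  -- its square fixes both elementary subgroups
  have hel : ∀ i, i = 1 ∨ i = 3 → ∃ j, (j = 1 ∨ j = 3) ∧
      (F.el i).map (MulAut.conj q).toMonoidHom = F.el j := by
    intro i hi
    have hsub : F.el i ≤ F.box fourB dih := by
      rcases hi with rfl | rfl
      · exact Subgroup.map_mono (Subgroup.prod_mono le_rfl fourB_le)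
      · exact Subgroup.map_mono (Subgroup.prod_mono le_rfl fourA_le)
    obtain ⟨j, hj⟩ := F.el_image (h := q) i fun w hw =>
      F.T0_le_T (Subgroup.map_mono (Subgroup.prod_mono fourB_le le_rfl) (qbox w (hsub hw)))
    refine ⟨j, ?_, hj⟩
    have hle : F.el j ≤ F.box fourB dih := by
      rw [← hj]
      rintro _ ⟨w, hw, rfl⟩
      exact qbox w (hsub hw)
    fin_cases j
    · exact absurd (F.f_mem_box.1 (hle (F.f_mem_box.2 ⟨ma2A, one_mem _⟩ : F.f (pa2, 1) ∈ F.el 0))).1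
        four_test.2.1
    · exact Or.inl rfl
    · exact absurd (F.f_mem_box.1 (hle (F.f_mem_box.2 ⟨ma2A, one_mem _⟩ : F.f (pa2, 1) ∈ F.el 2))).1
        four_test.2.1
    · exact Or.inr rfl
  have hq2 : ∀ w ∈ F.el 3, q * q * w * (q * q)⁻¹ ∈ F.el 3 := by
    obtain ⟨j, hj, ej⟩ := hel 3 (Or.inr rfl)
    obtain ⟨i, hi, ei⟩ := hel j hj
    intro w hw
    have h1 : q * (q * w * q⁻¹) * q⁻¹ ∈ F.el i := ei ▸ ⟨_, ej ▸ ⟨w, hw, rfl⟩, rfl⟩
    rw [show q * q * w * (q * q)⁻¹ = q * (q * w * q⁻¹) * q⁻¹ by group]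
    rcases hj with rfl | rfl
    · rcases hi with rfl | rfl
      · exact absurd ((Subgroup.map_injective (MulAut.conj q).injective) (ej.trans ei.symm)) (F.el_ne (by decide))
      · exact h1
    · exact ej ▸ ⟨_, ej ▸ ⟨w, hw, rfl⟩, rfl⟩
  set k := q * q with hk
  have hkc : ∀ w : G, k * w * k⁻¹ = q * (q * w * q⁻¹) * q⁻¹ := fun w => by rw [hk]; group
  have kt : k * F.t * k⁻¹ = F.u₁ := by rw [hkc, qt, qba]
  have ku : k * F.u₁ * k⁻¹ = F.f (pb * pa, 1) := by rw [hkc, qu, qt]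
  have kba : k * F.f (pb * pa, 1) * k⁻¹ = F.t := by rw [hkc, qba, qu]
  have kt' : k * F.t' * k⁻¹ = F.t' := by rw [hkc, qt', qt']
  have hkA : ∀ y, y = pa2 ∨ y = pa * pa2 →
      ∃ y', (y' = pa2 ∨ y' = pa * pa2) ∧ k * F.f (1, y) * k⁻¹ = F.f (1, y') := by
    intro y hy
    have hyA : y ∈ fourA := by
      rcases hy with rfl | rfl
      exacts [ma2A, mul_mem maA ma2A]
    have hy1 : y ≠ 1 ∧ y ≠ pa := by
      rcases hy with rfl | rfl <;> decide +kernel
    obtain ⟨p, hp, r, hr, e⟩ := F.mem_box.1 (hq2 (F.f (1, y)) (F.f_mem_box.2 ⟨one_mem _, hyA⟩))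
    refine ⟨r, ?_, ?_⟩
    swap
    · rw [e]
      suffices p = 1 by rw [this]
      by_contra hp1
      have hcj : Cj (F.f (1, y)) (F.f (p, r)) := ⟨k, e⟩
      have hyt : Cj (F.f (1, y)) F.t := by
        rcases F.cj_left (fourA_le hyA) (sq_fourA y hyA) hy1.1 with ⟨-, -, h'⟩ | ⟨hn, -⟩
        exacts [h', absurd hyA hn]
      by_cases hr1 : r = 1
      · subst hr1
        rcases hp with h' | h' | h' | h'
        · exact hp1 h'
        all_goals subst h'
        · exact hy1.1 (congrArg Prod.snd (F.inj ((MulAut.conj k).injective (e.trans kba.symm)))).symm.symm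
        · exact hy1.1 (congrArg Prod.snd (F.inj ((MulAut.conj k).injective (e.trans kt.symm))))
        · exact hy1.1 (congrArg Prod.snd (F.inj ((MulAut.conj k).injective (e.trans ku.symm))))
      · rcases F.cj_two (fourB_le hp) (sq_fourB p hp) hp1 (fourA_le hr) (sq_fourA r hr) hr1 with
          ⟨-, -, h'⟩ | ⟨-, h'⟩ | ⟨-, hn, -⟩
        · exact F.not_t_z ((hyt.symm.trans hcj).trans h')
        · exact hvt ((hcj.trans h').symm.trans hyt)
        · exact hn hr
    · rcases hr with h' | h' | h' | h'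
      · exfalso
        subst h'
        rcases hp with h' | h' | h' | h' <;> subst h'
        · rw [F.one_pair, conj_eq_one_iff] at e
          exact hy1.1 (congrArg Prod.snd (F.inj (e.trans F.one_pair.symm)))
        · exact hy1.1 (congrArg Prod.snd (F.inj ((MulAut.conj k).injective (e.trans kba.symm))))
        · exact hy1.1 (congrArg Prod.snd (F.inj ((MulAut.conj k).injective (e.trans kt.symm))))
        · exact hy1.1 (congrArg Prod.snd (F.inj ((MulAut.conj k).injective (e.trans ku.symm))))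
      · exfalso
        subst h'
        have e2 : k * F.f (1, y * pa) * k⁻¹ = F.f (p, 1) := by
          rw [show F.f (1, y * pa) = F.f (1, y) * F.t' by rw [t', ← map_mul, Prod.mk_mul_mk, one_mul],
            show k * (F.f (1, y) * F.t') * k⁻¹ = (k * F.f (1, y) * k⁻¹) * (k * F.t' * k⁻¹) by group, e, kt', t',
            ← map_mul, Prod.mk_mul_mk, pa_sq, mul_one]
        have hne : y * pa ≠ 1 := fun e3 => hy1.2 (by
          rw [eq_inv_of_mul_eq_one_left e3]; exact inv_eq_of_mul_eq_one_right pa_sq)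
        rcases hp with h' | h' | h' | h' <;> subst h'
        · rw [F.one_pair, conj_eq_one_iff] at e2
          exact hne (congrArg Prod.snd (F.inj (e2.trans F.one_pair.symm)))
        · exact hne (congrArg Prod.snd (F.inj ((MulAut.conj k).injective (e2.trans kba.symm))))
        · exact hne (congrArg Prod.snd (F.inj ((MulAut.conj k).injective (e2.trans kt.symm))))
        · exact hne (congrArg Prod.snd (F.inj ((MulAut.conj k).injective (e2.trans ku.symm))))
      · exact Or.inl h'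
      · exact Or.inr h'
  have hk2 : k * k * F.f (1, pa2) * (k * k)⁻¹ = F.f (1, pa2) := by
    obtain ⟨y, hy, e⟩ := hkA pa2 (Or.inl rfl)
    obtain ⟨y', hy', e'⟩ := hkA y hy
    rw [show k * k * F.f (1, pa2) * (k * k)⁻¹ = k * (k * F.f (1, pa2) * k⁻¹) * k⁻¹ by group, e, e']
    rcases hy with rfl | rfl
    · rw [← e, e']
    · rcases hy' with rfl | rfl
      · rfl
      · exfalso
        have := congrArg Prod.snd (F.inj ((MulAut.conj k).injective (e.trans e'.symm)))
        exact (show pa2 ≠ pa * pa2 by decide +kernel) this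
  have hk2' : k * k * F.t' * (k * k)⁻¹ = F.t' := by
    rw [show k * k * F.t' * (k * k)⁻¹ = k * (k * F.t' * k⁻¹) * k⁻¹ by group, kt', kt']
  refine ⟨F.s * (k * k) * F.s⁻¹, ?_, ?_, Or.inr ?_⟩
  · rw [← mul_inv_eq_iff_eq_mul, show F.s * (k * k) * F.s⁻¹ * F.t * (F.s * (k * k) * F.s⁻¹)⁻¹ =
      F.s * (k * k * (F.s⁻¹ * F.t * F.s) * (k * k)⁻¹) * F.s⁻¹ by group, F.s_inv,
      show F.s * F.t * F.s = F.t' from F.swap pa 1, hk2', show F.s * F.t' * F.s = F.t from F.swap 1 pa]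
  · rw [← mul_inv_eq_iff_eq_mul, show F.s * (k * k) * F.s⁻¹ * F.f (pa2, 1) * (F.s * (k * k) * F.s⁻¹)⁻¹ =
      F.s * (k * k * (F.s⁻¹ * F.f (pa2, 1) * F.s) * (k * k)⁻¹) * F.s⁻¹ by group, F.s_inv, F.swap, hk2, F.swap]
  · rw [show F.s * (k * k) * F.s⁻¹ * F.t' * (F.s * (k * k) * F.s⁻¹)⁻¹ =
      F.s * (k * (k * (F.s⁻¹ * F.t' * F.s) * k⁻¹) * k⁻¹) * F.s⁻¹ by group, F.s_inv,
      show F.s * F.t' * F.s = F.t from F.swap 1 pa, kt, ku, F.swap]

end Frame

end Cfsg.Lib.QTWreath
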