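import Cfsg.Agent.QTKE.Wreath.TwoClass

/-!
The transposition types `u₁` and `v` are conjugate neither to each other nor to `t`, `z` or `w`;
transfer then gives the contradiction.
-/

set_option autoImplicit false
set_option linter.unusedSectionVars false
set_option linter.style.haveILetI false

namespace Cfsg.Lib.QTWreath

open Subgroup

universe u

theorem one_rot : ∀ x ∈ fourA, x ≠ 1 → ∃ g : P4, g * x * g⁻¹ = pa := by decide +kernel

theorem one_eqs : pa2 * pb * pa2⁻¹ = pb * pa ∧ pa2 * pa * pa2⁻¹ = pa ∧ pa * (pb * pa) = pb ∧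
    pb * pa2 * pb⁻¹ = pa * pa2 := by decide +kernel

theorem one_norm : ∀ d ∈ dih, ∀ x ∈ fourB, d * x * d⁻¹ ∈ fourB := by decide +kernel

theorem sign_facts :
    (∀ x ∈ dih, x * x = 1 → (Equiv.Perm.sign x = 1 ↔ x ∈ fourA)) ∧
      Equiv.Perm.sign pa = 1 ∧ Equiv.Perm.sign pb = -1 := by decide +kernel

theorem comm_transposition : ∀ d ∈ dih, ∀ x ∈ fourB, x ∉ fourA → d * x = x * d → d ∈ fourB := by
  decide +kernel

theorem r_facts : (pb * pa2) * (pb * pa2) = pa ∧ pa2 * pb ≠ pb * pa2 := by decide +kernel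

theorem conj_pa : ∀ d ∈ dih, d * pa * d⁻¹ = pa := by decide +kernel

namespace Frame

variable {G : Type u} [Group G] [Finite G] (F : Frame G)

theorem f_ne_one {x y : P4} (h : x ≠ 1 ∨ y ≠ 1) : F.f (x, y) ≠ 1 := by
  intro e
  have e' := F.inj (e.trans (map_one F.f).symm)
  exact h.elim (fun h => h (congrArg Prod.fst e')) fun h => h (congrArg Prod.snd e')

theorem u₁_sq : F.u₁ * F.u₁ = 1 := by rw [u₁, ← map_mul, Prod.mk_mul_mk, pb_sq, one_mul, F.one_pair]

theorem v_sq : F.v * F.v = 1 := by rw [v, ← map_mul, Prod.mk_mul_mk, pb_sq, pa_sq, F.one_pair]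

/-- The base normalises each elementary subgroup. -/
theorem T0_normalizes_el3 {g : G} (hg : g ∈ F.T0) : ∀ q ∈ F.el 3, g * q * g⁻¹ ∈ F.el 3 := by
  intro q hq
  obtain ⟨a, ha, b, hb, rfl⟩ := F.mem_box.1 hg
  obtain ⟨x, hx, y, hy, rfl⟩ := F.mem_box.1 hq
  rw [F.f_conj]
  refine F.f_mem_box.2 ⟨?_, comm_four_cases.2.2 b y hy⟩
  exact one_norm a ha x hx

/-- The involution `u₁` is not conjugate to `z`. -/
theorem not_u_z (hut : ¬ Cj F.u₁ F.t) : ¬ Cj F.u₁ F.z := by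
  classical
  haveI : Fact (Nat.Prime 2) := ⟨Nat.prime_two⟩
  intro hu
  have hrot := one_rot
  have hnorm := one_norm
  obtain ⟨d2, d1, eab, hb2⟩ := one_eqs
  obtain ⟨maD, ma2D, mbD, -, maA, maB, mbB, ma2A, mbaB⟩ := basic_mem
  obtain ⟨hh0, hhu0, hQT⟩ := F.into_T (Q := F.box fourB dih) (F.box_isPGroup fourB_le le_rfl) (x := F.u₁) (by
    rintro q hq
    obtain ⟨x, hx, y, hy, rfl⟩ := F.mem_box.1 hq
    exact (F.commute_iff x y pb 1).2 ⟨comm_fourB x hx pb mbB, by simp⟩) hu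
  have hQ0 := F.box_into_T0 (h := hh0) (Or.inr rfl) hQT
  obtain ⟨h, hh, hQ, ht'⟩ : ∃ h : G, h * F.u₁ * h⁻¹ = F.z ∧
      (∀ q ∈ F.box fourB dih, h * q * h⁻¹ ∈ F.T0) ∧ h * F.t' * h⁻¹ = F.t' := by
    rcases F.image_derived_right (h := hh0) fun y hy => hQ0 _ (F.f_mem_box.2 ⟨one_mem _, hy⟩) with e | e | e
    · refine ⟨F.s * hh0, ?_, fun q hq => ?_, ?_⟩
      · rw [show F.s * hh0 * F.u₁ * (F.s * hh0)⁻¹ = F.s * (hh0 * F.u₁ * hh0⁻¹) * F.s⁻¹ by group, hhu0, F.s_z]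
      · rw [show F.s * hh0 * q * (F.s * hh0)⁻¹ = F.s * (hh0 * q * hh0⁻¹) * F.s⁻¹ by group]
        exact (Subgroup.mem_normalizer_iff.1 (F.T_le_normalizer_T0 F.s_mem_T) _).1 (hQ0 q hq)
      · rw [show F.s * hh0 * F.t' * (F.s * hh0)⁻¹ = F.s * (hh0 * F.t' * hh0⁻¹) * F.s⁻¹ by group, e, F.s_t]
    · exact ⟨hh0, hhu0, hQ0, e⟩
    · exfalso
      have e' : F.t' = F.u₁ := (MulAut.conj hh0).injective (e.trans hhu0.symm)
      exact pa_ne_one (congrArg Prod.snd (F.inj e'))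
  have hR : ∀ y ∈ dih, h * F.f (1, y) * h⁻¹ ∈ F.T0 := fun y hy => hQ _ (F.f_mem_box.2 ⟨one_mem _, hy⟩)
  obtain ⟨x, hx, y, hy, exy⟩ := F.mem_box.1 (hQ F.t (F.f_mem_box.2 ⟨maB, one_mem _⟩))
  have hy' : y = 1 ∨ y = pa := F.second_of_comm hR ht' (x := x) hy fun d _ => by
    rw [← exy]
    exact (show Commute (F.f (1, d)) F.t from (F.commute_iff 1 d pa 1).2 ⟨by simp, by simp⟩).map
      (MulAut.conj h).toMonoidHom
  have hsq : F.f (x, y) * F.f (x, y) = 1 := cj_mul_self ⟨h, exy⟩ F.t_sq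
  obtain ⟨hx2, -⟩ := F.invol_pair hsq
  have hx1 : x ≠ 1 := by
    rintro rfl
    rcases hy' with rfl | rfl
    · rw [F.one_pair, conj_eq_one_iff] at exy
      exact F.t_ne_one exy
    · exact F.t_ne_t' ((MulAut.conj h).injective (exy.trans ht'.symm))
  have htc : Cj F.t (F.f (x, y)) := ⟨h, exy⟩
  obtain rfl : y = pa := by
    refine hy'.resolve_left fun e => ?_
    subst e
    rcases F.cj_left hx hx2 hx1 with ⟨hA, -, -⟩ | ⟨-, e, -⟩
    · obtain ⟨γ, hγ⟩ := hrot x hA hx1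
      obtain ⟨r, -, -, er⟩ := F.not_fixed (h := F.f (γ, 1) * h) (by
        rw [show F.f (γ, 1) * h * F.t * (F.f (γ, 1) * h)⁻¹ = F.f (γ, 1) * (h * F.t * h⁻¹) * (F.f (γ, 1))⁻¹ by
          group, exy, F.f_conj, hγ]; simp [t]) (by
        rw [show F.f (γ, 1) * h * F.t' * (F.f (γ, 1) * h)⁻¹ = F.f (γ, 1) * (h * F.t' * h⁻¹) * (F.f (γ, 1))⁻¹ by
          group, ht', t', F.f_conj]; simp)
      rw [show F.f (γ, 1) * h * F.u₁ * (F.f (γ, 1) * h)⁻¹ = F.f (γ, 1) * (h * F.u₁ * h⁻¹) * (F.f (γ, 1))⁻¹ by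
        group, hh, z, F.f_conj] at er
      exact pa_ne_one (by simpa using congrArg Prod.snd (F.inj er))
    · exact hut ((htc.trans e).symm)
  obtain ⟨hxA, hvt⟩ : x ∉ fourA ∧ Cj F.v F.t := by
    rcases F.cj_two hx hx2 hx1 maD pa_sq pa_ne_one with ⟨-, -, e⟩ | ⟨⟨-, hn⟩ | ⟨hn, -⟩, e⟩ | ⟨-, hn, -⟩
    · exact absurd (htc.trans e) F.not_t_z
    · exact absurd maA hn
    · exact ⟨hn, (htc.trans e).symm⟩
    · exact absurd maA hn
  have hxB : x = pb ∨ x = pb * pa := by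
    rcases invol_cases x hx hx2 with h' | h' | h' | h' | h' | h'
    · exact absurd h' hx1
    · exact absurd (h' ▸ maA) hxA
    · exact absurd (h' ▸ ma2A) hxA
    · exact absurd (h' ▸ mul_mem maA ma2A) hxA
    · exact Or.inl h'
    · exact Or.inr h'
  have hbox : ∀ q ∈ F.box fourB dih, h * q * h⁻¹ ∈ F.box fourB dih := by
    intro q hq
    obtain ⟨p, hp, r, hr, rfl⟩ := F.mem_box.1 hq
    obtain ⟨p', hp', r', hr', e⟩ := F.mem_box.1 (hQ _ hq)
    rw [e]
    refine F.f_mem_box.2 ⟨?_, hr'⟩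
    have c : Commute (h * F.f (p, r) * h⁻¹) (h * F.t * h⁻¹) :=
      (show Commute (F.f (p, r)) F.t from
        (F.commute_iff p r pa 1).2 ⟨comm_fourB p hp pa maB, by simp⟩).map (MulAut.conj h).toMonoidHom
    rw [e, exy] at c
    exact comm_transposition p' hp' x (by rcases hxB with rfl | rfl; exacts [mbB, mbaB]) hxA
      ((F.commute_iff p' r' x pa).1 c).1
  obtain ⟨q, qu, qt, qt', qbox⟩ : ∃ q : G, q * F.u₁ * q⁻¹ = F.z ∧ q * F.t * q⁻¹ = F.f (pb * pa, pa) ∧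
      q * F.t' * q⁻¹ = F.t' ∧ ∀ w ∈ F.box fourB dih, q * w * q⁻¹ ∈ F.box fourB dih := by
    rcases hxB with rfl | rfl
    · have hc : ∀ w : G, F.f (pa2, 1) * h * w * (F.f (pa2, 1) * h)⁻¹ =
          F.f (pa2, 1) * (h * w * h⁻¹) * (F.f (pa2, 1))⁻¹ := fun w => by group
      refine ⟨F.f (pa2, 1) * h, ?_, ?_, ?_, fun w hw => ?_⟩
      · rw [hc, hh, z, F.f_conj, d1]; simp
      · rw [hc, exy, F.f_conj, d2]; simp
      · rw [hc, ht', t', F.f_conj]; simp
      · rw [hc]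
        obtain ⟨p, hp, r, hr, e⟩ := F.mem_box.1 (hbox w hw)
        rw [e, F.f_conj]
        exact F.f_mem_box.2 ⟨hnorm pa2 ma2D p hp, by simpa using hr⟩
    · exact ⟨h, hh, exy, ht', hbox⟩
  have qz : q * F.z * q⁻¹ = F.f (pb * pa, 1) := by
    rw [← F.t_mul_t', show q * (F.t * F.t') * q⁻¹ = (q * F.t * q⁻¹) * (q * F.t' * q⁻¹) by group, qt, qt', t',
      ← map_mul, Prod.mk_mul_mk, mul_one, pa_sq]
  have qba : q * F.f (pb * pa, 1) * q⁻¹ = F.u₁ := by
    rw [show F.f (pb * pa, 1) = F.u₁ * F.t by rw [u₁, t, ← map_mul, Prod.mk_mul_mk, one_mul],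
      show q * (F.u₁ * F.t) * q⁻¹ = (q * F.u₁ * q⁻¹) * (q * F.t * q⁻¹) by group, qu, qt, u₁, z, ← map_mul,
      Prod.mk_mul_mk, pa_sq, eab]
  have hel : ∀ i, i = 1 ∨ i = 3 → ∃ j, (j = 1 ∨ j = 3) ∧
      (F.el i).map (MulAut.conj q).toMonoidHom = F.el j := by
    intro i hi
    have hsub : F.el i ≤ F.box fourB dih := by
      rcases hi with rfl | rfl
      · exact Subgroup.map_mono (Subgroup.prod_mono le_rfl fourB_le)
      · exact Subgroup.map_mono (Subgroup.prod_mono le_rfl fourA_le)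
    obtain ⟨j, hj⟩ := F.el_image (h := q) i fun w hw =>
      F.T0_le_T (Subgroup.map_mono (Subgroup.prod_mono fourB_le le_rfl) (qbox w (hsub hw)))
    refine ⟨j, ?_, hj⟩
    have hle : F.el j ≤ F.box fourB dih := by
      rw [← hj]
      rintro _ ⟨w, hw, rfl⟩
      exact qbox w (hsub hw)
    fin_cases j
    · exact absurd (F.f_mem_box.1 (hle (F.f_mem_box.2 ⟨ma2A, one_mem _⟩ : F.f (pa2, 1) ∈ F.el 0))).1
        four_test.2.1
    · exact Or.inl rfl
    · exact absurd (F.f_mem_box.1 (hle (F.f_mem_box.2 ⟨ma2A, one_mem _⟩ : F.f (pa2, 1) ∈ F.el 2))).1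
        four_test.2.1
    · exact Or.inr rfl
  have hq2 : ∀ w ∈ F.el 3, q * q * w * (q * q)⁻¹ ∈ F.el 3 := by
    obtain ⟨j, hj, ej⟩ := hel 3 (Or.inr rfl)
    obtain ⟨i, hi, ei⟩ := hel j hj
    intro w hw
    have h1 : q * (q * w * q⁻¹) * q⁻¹ ∈ F.el i := ei ▸ ⟨_, ej ▸ ⟨w, hw, rfl⟩, rfl⟩
    rw [show q * q * w * (q * q)⁻¹ = q * (q * w * q⁻¹) * q⁻¹ by group]
    rcases hj with rfl | rfl
    · rcases hi with rfl | rfl
      · exact absurd ((Subgroup.map_injective (MulAut.conj q).injective) (ej.trans ei.symm)) (F.el_ne (by decide))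
      · exact h1
    · exact ej ▸ ⟨_, ej ▸ ⟨w, hw, rfl⟩, rfl⟩
  set k := q * q with hk
  have hkc : ∀ w : G, k * w * k⁻¹ = q * (q * w * q⁻¹) * q⁻¹ := fun w => by rw [hk]; group
  have kz : k * F.z * k⁻¹ = F.u₁ := by rw [hkc, qz, qba]
  have ku : k * F.u₁ * k⁻¹ = F.f (pb * pa, 1) := by rw [hkc, qu, qz]
  have kba : k * F.f (pb * pa, 1) * k⁻¹ = F.z := by rw [hkc, qba, qu]
  have hkn : ∀ w, w ∈ F.el 3 ↔ k * w * k⁻¹ ∈ F.el 3 := by
    have e : (F.el 3).map (MulAut.conj k).toMonoidHom = F.el 3 := by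
      refine Subgroup.eq_of_le_of_card_ge ?_
        (le_of_eq (Subgroup.card_map_of_injective (MulAut.conj k).injective).symm)
      rintro _ ⟨w, hw, rfl⟩
      exact hq2 w hw
    exact Subgroup.mem_normalizer_iff.1 (Subgroup.mem_normalizer_iff_map_conj_eq.2 e)
  -- the elements of the class of `z` in the third elementary subgroup
  have hpts : ∀ g ∈ F.el 3, Cj g F.z → g = F.z ∨ g = F.f (pa, pa2) ∨ g = F.f (pa, pa * pa2) ∨
      g = F.u₁ ∨ g = F.f (pb * pa, 1) := by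
    intro g hg hgz
    obtain ⟨a, ha, b, hb, rfl⟩ := F.mem_box.1 hg
    by_cases hb1 : b = 1
    · subst hb1
      rcases ha with rfl | rfl | rfl | rfl
      · obtain ⟨g, hg⟩ := hgz
        rw [F.one_pair, mul_one, mul_inv_cancel] at hg
        exact absurd hg.symm F.z_ne_one
      · exact absurd hgz F.not_t_z
      · exact Or.inr (Or.inr (Or.inr (Or.inl rfl)))
      · exact Or.inr (Or.inr (Or.inr (Or.inr rfl)))
    by_cases ha1 : a = 1
    · subst ha1
      rcases F.cj_left (fourA_le hb) (sq_fourA b hb) hb1 with ⟨-, -, e⟩ | ⟨hn, -⟩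
      · exact absurd (e.symm.trans hgz) F.not_t_z
      · exact absurd hb hn
    by_cases haA : a ∈ fourA
    · rcases meet_four a haA ha with rfl | rfl
      · exact absurd rfl ha1
      rcases hb with rfl | rfl | rfl | rfl
      · exact absurd rfl hb1
      · exact Or.inl rfl
      · exact Or.inr (Or.inl rfl)
      · exact Or.inr (Or.inr (Or.inl rfl))
    · rcases F.cj_two (fourB_le ha) (sq_fourB a ha) ha1 (fourA_le hb) (sq_fourA b hb) hb1 with
        ⟨hn, -⟩ | ⟨-, e⟩ | ⟨-, hn, -⟩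
      · exact absurd hn haA
      · exact absurd (hvt.symm.trans (e.symm.trans hgz)) F.not_t_z
      · exact absurd hb hn
  -- the local group and its orbit of length four
  set p2 := F.f (pa, pa2) with hp2
  set p3 := F.f (pa, pa * pa2) with hp3
  have hp2mem : p2 ∈ F.el 3 := F.f_mem_box.2 ⟨maB, ma2A⟩
  have hpz : ∀ b ∈ fourA, b ≠ 1 → Cj (F.f (pa, b)) F.z := fun b hb hb1 => by
    rcases F.cj_two maD pa_sq pa_ne_one (fourA_le hb) (sq_fourA b hb) hb1 with
      ⟨-, -, h'⟩ | ⟨⟨-, hn⟩ | ⟨hn, -⟩, -⟩ | ⟨hn, -⟩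
    exacts [h', absurd hb hn, absurd maA hn, absurd maA hn]
  set C := Subgroup.normalizer ((F.el 3 : Subgroup G) : Set G) ⊓ Subgroup.centralizer ({F.z} : Set G) with hC
  have hT0C : F.T0 ≤ C := fun g hg => by
    refine ⟨?_, Subgroup.mem_centralizer_singleton_iff.2 (F.T_comm_z (F.T0_le_T hg))⟩
    show g ∈ Subgroup.normalizer ((F.el 3 : Subgroup G) : Set G)
    rw [Subgroup.mem_normalizer_iff_map_conj_eq]
    refine Subgroup.eq_of_le_of_card_ge ?_
      (le_of_eq (Subgroup.card_map_of_injective (MulAut.conj g).injective).symm)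
    rintro _ ⟨w, hw, rfl⟩
    exact F.T0_normalizes_el3 hg w hw
  set c2 := F.f (1, pc) with hc2
  have hc2n : c2 ∈ Subgroup.normalizer ((F.el 3 : Subgroup G) : Set G) := by
    rw [Subgroup.mem_normalizer_iff_map_conj_eq]
    refine Subgroup.eq_of_le_of_card_ge ?_
      (le_of_eq (Subgroup.card_map_of_injective (MulAut.conj c2).injective).symm)
    rintro _ ⟨w, hw, rfl⟩
    obtain ⟨a, ha, b, hb, rfl⟩ := F.mem_box.1 hw
    show c2 * F.f (a, b) * c2⁻¹ ∈ F.el 3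
    rw [hc2, F.f_conj]
    exact F.f_mem_box.2 ⟨by simpa using ha, comm_four_cases.2.2 pc b hb⟩
  have heC : k⁻¹ * c2 * k ∈ C := by
    have hkN : k ∈ Subgroup.normalizer ((F.el 3 : Subgroup G) : Set G) := Subgroup.mem_normalizer_iff.2 hkn
    refine ⟨(Subgroup.normalizer _).mul_mem ((Subgroup.normalizer _).mul_mem ((Subgroup.normalizer _).inv_mem hkN) hc2n) hkN,
      Subgroup.mem_centralizer_singleton_iff.2 ?_⟩
    have h1 : c2 * F.u₁ * c2⁻¹ = F.u₁ := by rw [hc2, u₁, F.f_conj]; simp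
    calc k⁻¹ * c2 * k * F.z = k⁻¹ * (c2 * (k * F.z * k⁻¹) * c2⁻¹) * c2 * k := by group
      _ = F.z * (k⁻¹ * c2 * k) := by rw [kz, h1, ← kz]; group
  letI : MulAction C G := MulAction.compHom G ((MulAut.conj : G →* MulAut G).comp C.subtype)
  have hsmul : ∀ (c : C) (g : G), c • g = (c : G) * g * (c : G)⁻¹ := fun c g => rfl
  have h23 : p3 ∈ MulAction.orbit C p2 := ⟨⟨F.f (1, pb), hT0C (F.f_mem_box.2 ⟨one_mem _, mbD⟩)⟩, by
    show F.f (1, pb) * p2 * (F.f (1, pb))⁻¹ = p3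
    rw [hp2, F.f_conj, hb2, hp3]; simp⟩
  -- the three-cycle conjugate of `c2` moves one of the two points to the second factor's complement
  have hk23 : k * p2 * k⁻¹ = p2 ∨ k * p2 * k⁻¹ = p3 := by
    have hcj : Cj (k * p2 * k⁻¹) F.z := (Cj.mk' k p2).symm.trans (hpz pa2 ma2A (by decide +kernel))
    have hi : ∀ a b : G, k * a * k⁻¹ = b → k * p2 * k⁻¹ = b → p2 = a := fun a b h1 h2 =>
      (MulAut.conj k).injective (h2.trans h1.symm)
    rcases hpts _ ((hkn p2).1 hp2mem) hcj with e | e | e | e | e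
    · exact absurd (hi _ _ kba e) fun e => by
        exact (show pa2 ≠ 1 by decide +kernel) (congrArg Prod.snd (F.inj e))
    · exact Or.inl e
    · exact Or.inr e
    · exact absurd (hi _ _ kz e) fun e => by
        exact (show pa2 ≠ pa by decide +kernel) (congrArg Prod.snd (F.inj e))
    · exact absurd (hi _ _ ku e) fun e => by
        exact (show pa2 ≠ 1 by decide +kernel) (congrArg Prod.snd (F.inj e))
  have hb5 : F.f (pb * pa, 1) ∈ MulAction.orbit C p2 := by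
    -- some power of the cycle sends `k p2` to `z`
    obtain ⟨n, hn⟩ : ∃ n : ℕ, c2 ^ n * (k * p2 * k⁻¹) * (c2 ^ n)⁻¹ = F.z := by
      have key : ∀ b, (b = pa2 ∨ b = pa * pa2) → ∃ n : ℕ, pc ^ n * b * (pc ^ n)⁻¹ = pa := by
        intro b hb
        rcases hb with rfl | rfl
        · exact (show ∃ n : Fin 3, pc ^ (n : ℕ) * pa2 * (pc ^ (n : ℕ))⁻¹ = pa by decide +kernel).elim
            fun n h => ⟨n, h⟩
        · exact (show ∃ n : Fin 3, pc ^ (n : ℕ) * (pa * pa2) * (pc ^ (n : ℕ))⁻¹ = pa by decide +kernel).elim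
            fun n h => ⟨n, h⟩
      rcases hk23 with e | e <;> rw [e]
      · obtain ⟨n, hn⟩ := key pa2 (Or.inl rfl)
        exact ⟨n, by rw [hc2, ← map_pow, Prod.pow_mk, one_pow, hp2, F.f_conj, hn]; simp [z]⟩
      · obtain ⟨n, hn⟩ := key (pa * pa2) (Or.inr rfl)
        exact ⟨n, by rw [hc2, ← map_pow, Prod.pow_mk, one_pow, hp3, F.f_conj, hn]; simp [z]⟩
    refine ⟨(⟨_, heC⟩ : C) ^ n, ?_⟩
    show ((⟨k⁻¹ * c2 * k, heC⟩ : C) ^ n : C).1 * p2 * ((⟨k⁻¹ * c2 * k, heC⟩ : C) ^ n : C).1⁻¹ = _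
    rw [show ((⟨k⁻¹ * c2 * k, heC⟩ : C) ^ n : C).1 = k⁻¹ * c2 ^ n * k⁻¹⁻¹ by
        rw [SubmonoidClass.coe_pow, ← conj_pow, inv_inv],
      show k⁻¹ * c2 ^ n * k⁻¹⁻¹ * p2 * (k⁻¹ * c2 ^ n * k⁻¹⁻¹)⁻¹ =
        k⁻¹ * (c2 ^ n * (k * p2 * k⁻¹) * (c2 ^ n)⁻¹) * k by group, hn, ← kba]
    group
  have hb4 : F.u₁ ∈ MulAction.orbit C p2 := by
    obtain ⟨c, hc⟩ := hb5
    refine ⟨(⟨F.f (pa2, 1), hT0C (F.f_mem_box.2 ⟨ma2D, one_mem _⟩)⟩ : C) * c, ?_⟩
    show ((⟨F.f (pa2, 1), _⟩ : C) * c) • p2 = F.u₁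
    rw [mul_smul, show c • p2 = F.f (pb * pa, 1) from hc, hsmul, F.f_conj,
      show pa2 * (pb * pa) * pa2⁻¹ = pb by decide +kernel]
    simp [u₁]
  have horb : MulAction.orbit C p2 = {p2, p3, F.u₁, F.f (pb * pa, 1)} := by
    refine Set.Subset.antisymm ?_ ?_
    · rintro _ ⟨c, rfl⟩
      have h1 : (c : G) * p2 * (c : G)⁻¹ ∈ F.el 3 := (Subgroup.mem_normalizer_iff.1 c.2.1 p2).1 hp2mem
      have hne : (c : G) * p2 * (c : G)⁻¹ ≠ F.z := fun e => by
        have h2 : (c : G) * F.z * (c : G)⁻¹ = F.z :=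
          mul_inv_eq_iff_eq_mul.2 (Subgroup.mem_centralizer_singleton_iff.1 c.2.2)
        have e' : p2 = F.z := (MulAut.conj (c : G)).injective (e.trans h2.symm)
        exact (show pa2 ≠ pa by decide +kernel) (congrArg Prod.snd (F.inj e'))
      rcases hpts _ h1 ((Cj.mk' (c : G) p2).symm.trans (hpz pa2 ma2A (by decide +kernel))) with e | e | e | e | e
      · exact absurd e hne
      all_goals simp [hsmul, e]
    · rintro g (rfl | rfl | rfl | rfl)
      exacts [MulAction.mem_orbit_self _, h23, hb4, hb5]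
  have hn4 : (MulAction.orbit C p2).ncard = 4 := by
    rw [horb, hp2, hp3, u₁]
    rw [Set.ncard_insert_of_notMem, Set.ncard_insert_of_notMem, Set.ncard_pair]
    · simp only [ne_eq, F.f_eq_iff]; decide +kernel
    · simp only [Set.mem_insert_iff, Set.mem_singleton_iff, F.f_eq_iff]; decide +kernel
    · simp only [Set.mem_insert_iff, Set.mem_singleton_iff, F.f_eq_iff]; decide +kernel
  have hdiv : 128 ∣ Nat.card C := by
    have h1 := Subgroup.card_mul_index (MulAction.stabilizer C p2)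
    rw [MulAction.index_stabilizer, hn4] at h1
    have hle : F.box dih fourA ≤ C :=
      (Subgroup.map_mono (Subgroup.prod_mono le_rfl fourA_le)).trans hT0C
    have h2 : (F.box dih fourA).subgroupOf C ≤ MulAction.stabilizer C p2 := by
      intro c hc
      obtain ⟨a, ha, b, hb, e⟩ := F.mem_box.1 hc
      show (c : G) * p2 * (c : G)⁻¹ = p2
      rw [show (c : G) = F.f (a, b) from e, hp2, F.f_conj, conj_pa a ha,
        comm_four b hb pa2 ma2A, mul_inv_cancel_right]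
    have h3 := Subgroup.card_dvd_of_le h2
    rw [Nat.card_congr (Subgroup.subgroupOfEquivOfLe hle).toEquiv, F.card_box, card_dih, card_fourA] at h3
    rw [← h1]
    exact Nat.mul_dvd_mul h3 (dvd_refl 4)
  obtain ⟨S, hS⟩ := (F.isPGroup_T0.of_equiv (Subgroup.subgroupOfEquivOfLe hT0C).symm).exists_le_sylow
  have hScard : 128 ∣ Nat.card (S : Subgroup C) :=
    S.pow_dvd_card_of_pow_dvd_card (n := 7) (by simpa using hdiv)
  have e := F.eq_T_of_T0_le (S.isPGroup'.map C.subtype) (fun g hg => ⟨⟨g, hT0C hg⟩, hS hg, rfl⟩) (by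
    rw [Subgroup.card_map_of_injective C.subtype_injective]
    have := Nat.le_of_dvd Nat.card_pos hScard
    omega)
  obtain ⟨⟨g, hg⟩, -, hge⟩ := (e.symm ▸ F.s_mem_T : F.s ∈ (S : Subgroup C).map C.subtype)
  obtain rfl : g = F.s := hge
  have := (Subgroup.mem_normalizer_iff.1 hg.1 F.u₁).1 (F.f_mem_box.2 ⟨mbB, one_mem _⟩)
  rw [u₁, F.s_conj] at this
  exact four_test.2.2.2 (F.f_mem_box.1 this).2

/-- The involution `v` is not conjugate to `t`. -/
theorem not_v_t (hut : ¬ Cj F.u₁ F.t) : ¬ Cj F.v F.t := fun h => F.not_u_z hut (F.u_z_of_v_t h)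

/-- The involution `v` is not conjugate to `z`. -/
theorem not_v_z (hut : ¬ Cj F.u₁ F.t) : ¬ Cj F.v F.z := by
  intro hv
  obtain ⟨h, hh, hQ⟩ := F.into_T (Q := F.box dih fourB) (F.box_isPGroup le_rfl fourB_le) (x := F.v) (by
    rintro q hq
    obtain ⟨x, hx, y, hy, rfl⟩ := F.mem_box.1 hq
    exact (F.commute_iff x y pa pb).2 ⟨hx, comm_fourB y hy pb basic_mem.2.2.2.2.2.2.1⟩) hv
  have h0 := F.box_into_T0 (h := h * F.s) (Or.inr rfl) fun q hq => by
    obtain ⟨x, hx, y, hy, rfl⟩ := F.mem_box.1 hq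
    rw [F.swap_image]
    exact hQ _ (F.f_mem_box.2 ⟨hy, hx⟩)
  have hd := F.image_derived_right (h := h * F.s) fun y hy => h0 _ (F.f_mem_box.2 ⟨one_mem _, hy⟩)
  rw [t', F.swap_image] at hd
  have hmul : h * F.u₂ * h⁻¹ = (h * F.f (pa, 1) * h⁻¹) * F.z := by
    rw [show F.u₂ = F.t * F.v by rw [u₂, t, v, ← map_mul, Prod.mk_mul_mk, pa_sq, one_mul], ← hh, t]
    group
  rcases hd with e | e | e
  · refine hut (((show Cj F.u₁ F.u₂ from F.cj_swap pb 1).trans ⟨h, ?_⟩).trans F.t_cj_t'.symm)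
    rw [hmul, e, ← F.t_mul_t', ← mul_assoc, F.t_sq, one_mul]
  · refine hut ((show Cj F.u₁ F.u₂ from F.cj_swap pb 1).trans ⟨h, ?_⟩)
    rw [hmul, e, ← F.t_mul_t', t, t', ← map_mul, ← map_mul]
    congr 1
    simp [pa_sq]
  · have e' : F.f (pa, 1) = F.v := (MulAut.conj h).injective (e.trans hh.symm)
    exact (show pb ≠ 1 by decide +kernel) (congrArg Prod.snd (F.inj e')).symm

/-- An involution of the Sylow subgroup whose centraliser there has index at most two lies in the centre of the base. -/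
theorem big_cent {y : G} (hy : y ∈ F.T) (hy1 : y ≠ 1)
    (hc : 64 ≤ Nat.card (F.T ⊓ Subgroup.centralizer ({y} : Set G) : Subgroup G)) :
    y = F.t ∨ y = F.t' ∨ y = F.z := by
  set C := F.T ⊓ Subgroup.centralizer ({y} : Set G)
  have hsq : ∀ g ∈ F.T, Commute (g * g) y := by
    intro g hg
    have h1 := Subgroup.card_mul_index (C.subgroupOf F.T)
    rw [Nat.card_congr (Subgroup.subgroupOfEquivOfLe (inf_le_left : C ≤ F.T)).toEquiv, F.card_T] at h1
    have hi : (C.subgroupOf F.T).index = 1 ∨ (C.subgroupOf F.T).index = 2 := by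
      have : (C.subgroupOf F.T).index ≤ 2 := by
        by_contra hgt
        push Not at hgt
        exact absurd ((Nat.mul_le_mul hc hgt).trans_eq h1) (by norm_num)
      have h0 : (C.subgroupOf F.T).index ≠ 0 := Subgroup.index_ne_zero_of_finite
      omega
    have hm : (⟨g * g, mul_mem hg hg⟩ : F.T) ∈ C.subgroupOf F.T := by
      rcases hi with hi | hi
      · rw [Subgroup.index_eq_one] at hi
        rw [hi]; exact Subgroup.mem_top _
      · exact Subgroup.mul_self_mem_of_index_two hi ⟨g, hg⟩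
    exact (Subgroup.mem_centralizer_singleton_iff.1 hm.2)
  have hdiag : ∀ d ∈ dih, Commute (F.f (d, d)) y := fun d hd => by
    have := hsq (F.f (d, 1) * F.s) (F.T.mul_mem (F.T0_le_T (F.f_mem_box.2 ⟨hd, one_mem _⟩)) F.s_mem_T)
    rwa [show F.f (d, 1) * F.s * (F.f (d, 1) * F.s) = F.f (d, 1) * (F.s * F.f (d, 1) * F.s) by group,
      F.swap, ← map_mul, Prod.mk_mul_mk, mul_one, one_mul] at this
  have ht : Commute F.t y := by
    have := hsq (F.f (pb * pa2, 1))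
      (F.T0_le_T (F.f_mem_box.2 ⟨dih.mul_mem basic_mem.2.2.1 basic_mem.2.1, one_mem _⟩))
    rwa [← map_mul, Prod.mk_mul_mk, r_facts.1, one_mul] at this
  obtain ⟨p, hp, q, hq, rfl | rfl⟩ := F.mem_T.1 hy
  · have hpc : p = 1 ∨ p = pa := center_dih p hp fun d hd =>
      ((F.commute_iff d d p q).1 (hdiag d hd)).1.symm
    have hqc : q = 1 ∨ q = pa := center_dih q hq fun d hd =>
      ((F.commute_iff d d p q).1 (hdiag d hd)).2.symm
    rcases hpc with rfl | rfl <;> rcases hqc with rfl | rfl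
    · exact absurd F.one_pair hy1
    · exact Or.inr (Or.inl rfl)
    · exact Or.inl rfl
    · exact Or.inr (Or.inr rfl)
  · exfalso
    have h4 := ht.eq
    rw [t, mul_assoc (F.f (p, q)), F.s_move, ← mul_assoc, ← mul_assoc, ← map_mul, ← map_mul] at h4
    have h5 := congrArg Prod.snd (F.inj (mul_right_cancel h4))
    simp at h5
    exact pa_ne_one h5

/-- Conjugates of `u₁` and of `v` have centralisers with Sylow subgroups of order at most thirty-two. -/
theorem card_le_32 {x : G} (hx2 : x * x = 1) (hx1 : x ≠ 1) (ht : ¬ Cj x F.t) (hz : ¬ Cj x F.z)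
    {Q : Subgroup G} (hQ : IsPGroup 2 Q) (hQx : ∀ q ∈ Q, q * x = x * q) : Nat.card Q ≤ 32 := by
  haveI : Fact (Nat.Prime 2) := ⟨Nat.prime_two⟩
  by_contra hgt
  have hX : IsPGroup 2 (Subgroup.zpowers x) := IsPGroup.of_card (n := 1) (by
    rw [Nat.card_zpowers, orderOf_eq_prime (by rw [pow_two, hx2]) hx1, pow_one])
  have hQn : Q ≤ Subgroup.normalizer (Subgroup.zpowers x : Set G) := fun q hq => by
    rw [Subgroup.mem_normalizer_iff_map_conj_eq, MonoidHom.map_zpowers]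
    show Subgroup.zpowers (q * x * q⁻¹) = _
    rw [hQx q hq, mul_inv_cancel_right]
  obtain ⟨h, hh⟩ := F.conj_into_T (isPGroup_sup hQ hX hQn)
  have hxT : h * x * h⁻¹ ∈ F.T := hh x (le_sup_right (a := Q) (Subgroup.mem_zpowers x))
  have hle : Q.map (MulAut.conj h).toMonoidHom ≤ F.T ⊓ Subgroup.centralizer ({h * x * h⁻¹} : Set G) := by
    rintro _ ⟨q, hq, rfl⟩
    refine ⟨hh q (le_sup_left (b := Subgroup.zpowers x) hq), Subgroup.mem_centralizer_singleton_iff.2 ?_⟩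
    exact ((show Commute q x from hQx q hq).map (MulAut.conj h).toMonoidHom).eq
  have h64 : 64 ≤ Nat.card Q := by
    obtain ⟨n, hn⟩ := hQ.exists_card_eq
    rw [hn] at hgt ⊢
    rcases Nat.lt_or_ge n 6 with h6 | h6
    · exact absurd (Nat.pow_le_pow_right (by norm_num : 0 < 2) (Nat.lt_succ_iff.1 h6)) (by norm_num at hgt ⊢; omega)
    · exact le_trans (le_of_eq (by norm_num)) (Nat.pow_le_pow_right (by norm_num : 0 < 2) h6)
  have hc := (h64.trans_eq (Subgroup.card_map_of_injective (MulAut.conj h).injective).symm).trans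
    (Subgroup.card_le_of_le hle)
  have hne : h * x * h⁻¹ ≠ 1 := fun e => hx1 (conj_eq_one_iff.1 e)
  rcases F.big_cent hxT hne hc with e | e | e
  · exact ht ⟨h, e⟩
  · exact ht ((show Cj x F.t' from ⟨h, e⟩).trans F.t_cj_t'.symm)
  · exact hz ⟨h, e⟩

/-- A maximal 2-subgroup of the centraliser absorbs all others. -/
theorem into_box {x : G} (hx2 : x * x = 1) (hx1 : x ≠ 1) (ht : ¬ Cj x F.t) (hz : ¬ Cj x F.z)
    {B : Subgroup G} (hB : IsPGroup 2 B) (hBx : ∀ q ∈ B, q * x = x * q) (hBc : Nat.card B = 32)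
    {y : G} {Q : Subgroup G} (hQ : IsPGroup 2 Q) (hQy : ∀ q ∈ Q, q * y = y * q) (hy : Cj y x) :
    ∃ h : G, h * y * h⁻¹ = x ∧ ∀ q ∈ Q, h * q * h⁻¹ ∈ B := by
  haveI : Fact (Nat.Prime 2) := ⟨Nat.prime_two⟩
  obtain ⟨g, hg⟩ := hy
  set C := Subgroup.centralizer ({x} : Set G)
  have hQC : Q.map (MulAut.conj g).toMonoidHom ≤ C := by
    rintro _ ⟨q, hq, rfl⟩
    refine Subgroup.mem_centralizer_singleton_iff.2 ?_
    rw [← hg]
    exact ((show Commute q y from hQy q hq).map (MulAut.conj g).toMonoidHom).eq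
  have hBC : B ≤ C := fun w hw => Subgroup.mem_centralizer_singleton_iff.2 (hBx w hw)
  obtain ⟨P, hP⟩ := ((hQ.map (MulAut.conj g).toMonoidHom).of_equiv
    (Subgroup.subgroupOfEquivOfLe hQC).symm).exists_le_sylow
  obtain ⟨S, hS⟩ := (hB.of_equiv (Subgroup.subgroupOfEquivOfLe hBC).symm).exists_le_sylow
  obtain ⟨c, hc⟩ := MulAction.exists_smul_eq C P S
  have hle : (S : Subgroup C).map C.subtype ≤ B := by
    have h1 : B ≤ (S : Subgroup C).map C.subtype := fun w hw => ⟨⟨w, hBC hw⟩, hS hw, rfl⟩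
    refine (eq_of_le_of_card_ge h1 ?_).ge
    rw [hBc]
    refine F.card_le_32 hx2 hx1 ht hz (S.isPGroup'.map _) ?_
    rintro _ ⟨⟨w, hw⟩, -, rfl⟩
    exact Subgroup.mem_centralizer_singleton_iff.1 hw
  refine ⟨c.1 * g, ?_, fun q hq => hle ⟨c * ⟨_, hQC ⟨q, hq, rfl⟩⟩ * c⁻¹, ?_, ?_⟩⟩
  · rw [show c.1 * g * y * (c.1 * g)⁻¹ = c.1 * (g * y * g⁻¹) * c.1⁻¹ by group, hg,
      Subgroup.mem_centralizer_singleton_iff.1 c.2, mul_inv_cancel_right]
  · rw [← hc]
    exact Subgroup.smul_mem_pointwise_smul (⟨_, hQC ⟨q, hq, rfl⟩⟩ : C) (MulAut.conj c) _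
      (hP (show (⟨_, hQC ⟨q, hq, rfl⟩⟩ : C) ∈ (Q.map (MulAut.conj g).toMonoidHom).subgroupOf C from
        ⟨q, hq, rfl⟩))
  · show c.1 * (g * q * g⁻¹) * c.1⁻¹ = c.1 * g * q * (c.1 * g)⁻¹
    group

/-- An involution with a centraliser of order thirty-two containing two elementary subgroups of order sixteen
is not conjugate to `w`. -/
theorem not_cj_w {x : G} (hx2 : x * x = 1) (hx1 : x ≠ 1) (ht : ¬ Cj x F.t) (hz : ¬ Cj x F.z)
    {P Q : Subgroup P4} (hP : P ≤ dih) (hQ : Q ≤ dih) (hcard : Nat.card P * Nat.card Q = 32)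
    (hx : ∀ q ∈ F.box P Q, q * x = x * q) {i j : Fin 4} (hij : i ≠ j) (hi : F.el i ≤ F.box P Q)
    (hj : F.el j ≤ F.box P Q) : ¬ Cj x F.w := by
  intro hxw
  haveI : Fact (Nat.Prime 2) := ⟨Nat.prime_two⟩
  obtain ⟨-, -, -, -, maA, -, mbB, ma2A, -⟩ := basic_mem
  set R := F.T ⊓ Subgroup.centralizer ({F.w} : Set G) with hR
  obtain ⟨h, hh, hhR⟩ := F.into_box hx2 hx1 ht hz (B := F.box P Q) (F.box_isPGroup hP hQ) hx
    ((F.card_box P Q).trans hcard) (Q := R) (F.isPGroup_T.to_le inf_le_left)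
    (fun q hq => Subgroup.mem_centralizer_singleton_iff.1 hq.2) hxw.symm
  have hw1 : F.el 1 ≤ R := by
    intro g hg
    refine ⟨F.T0_le_T (F.el_le 1 hg), Subgroup.mem_centralizer_singleton_iff.2 ?_⟩
    exact (F.el_elem 1).2 g hg F.w (F.f_mem_box.2 ⟨mbB, mbB⟩)
  have hsR : F.s ∈ R := ⟨F.s_mem_T, Subgroup.mem_centralizer_singleton_iff.2 (F.s_move pb pb)⟩
  have himg : ∀ q ∈ F.box P Q, h⁻¹ * q * h ∈ R := by
    have hsub : R.map (MulAut.conj h).toMonoidHom ≤ F.box P Q := by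
      rintro _ ⟨q, hq, rfl⟩
      exact hhR q hq
    have hlt : 16 < Nat.card R := by
      have h1 := Subgroup.card_le_of_le hw1
      rw [F.card_el] at h1
      rcases lt_or_eq_of_le h1 with h2 | h2
      · exact h2
      · exfalso
        have e := Subgroup.eq_of_le_of_card_ge hw1 (by rw [F.card_el]; exact h2.ge)
        exact F.s_not_mem_T0 (F.el_le 1 (e.symm ▸ hsR))
    have hR32 : Nat.card (F.box P Q) ≤ Nat.card (R.map (MulAut.conj h).toMonoidHom) := by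
      rw [Subgroup.card_map_of_injective (MulAut.conj h).injective, F.card_box, hcard]
      have h3 := Subgroup.card_dvd_of_le hw1
      rw [F.card_el] at h3
      omega
    have e := Subgroup.eq_of_le_of_card_ge hsub hR32
    intro q hq
    obtain ⟨r, hr, rfl⟩ := (e.symm ▸ hq : q ∈ R.map (MulAut.conj h).toMonoidHom)
    show h⁻¹ * (h * r * h⁻¹) * h ∈ R
    rwa [show h⁻¹ * (h * r * h⁻¹) * h = r by group]
  have key : ∀ l, F.el l ≤ F.box P Q → (F.el l).map (MulAut.conj h⁻¹).toMonoidHom = F.el 1 := by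
    intro l hl
    obtain ⟨m, hm⟩ := F.el_image (h := h⁻¹) l fun g hg => by
      rw [inv_inv]; exact (himg g (hl hg)).1
    have hmR : F.el m ≤ R := by
      rw [← hm]
      rintro _ ⟨g, hg, rfl⟩
      show h⁻¹ * g * h⁻¹⁻¹ ∈ R
      rw [inv_inv]
      exact himg g (hl hg)
    rw [hm]
    have hbad : ∀ a b, F.f (a, b) ∈ F.el m → a * pb = pb * a ∧ b * pb = pb * b := fun a b hab =>
      (F.commute_iff a b pb pb).1 (Subgroup.mem_centralizer_singleton_iff.1 (hmR hab).2)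
    fin_cases m
    · exact absurd (hbad pa2 1 (F.f_mem_box.2 ⟨ma2A, one_mem _⟩)).1 r_facts.2
    · rfl
    · exact absurd (hbad pa2 1 (F.f_mem_box.2 ⟨ma2A, one_mem _⟩)).1 r_facts.2
    · exact absurd (hbad 1 pa2 (F.f_mem_box.2 ⟨one_mem _, ma2A⟩)).2 r_facts.2
  exact F.el_ne hij (Subgroup.map_injective (MulAut.conj h⁻¹).injective ((key i hi).trans (key j hj).symm))

theorem not_u_w (hut : ¬ Cj F.u₁ F.t) : ¬ Cj F.u₁ F.w :=
  F.not_cj_w F.u₁_sq (F.f_ne_one (Or.inl (by decide +kernel))) hut (F.not_u_z hut) fourB_le le_rfl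
    (by rw [card_fourB, card_dih]) (by
      intro q hq
      obtain ⟨x, hx, y, hy, rfl⟩ := F.mem_box.1 hq
      exact (F.commute_iff x y pb 1).2 ⟨comm_fourB x hx pb basic_mem.2.2.2.2.2.2.1, by simp⟩)
    (i := 1) (j := 3) (by decide) (Subgroup.map_mono (Subgroup.prod_mono le_rfl fourB_le))
    (Subgroup.map_mono (Subgroup.prod_mono le_rfl fourA_le))

theorem not_v_w (hut : ¬ Cj F.u₁ F.t) : ¬ Cj F.v F.w :=
  F.not_cj_w F.v_sq (F.f_ne_one (Or.inl pa_ne_one)) (F.not_v_t hut) (F.not_v_z hut) le_rfl fourB_le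
    (by rw [card_fourB, card_dih]) (by
      intro q hq
      obtain ⟨x, hx, y, hy, rfl⟩ := F.mem_box.1 hq
      exact (F.commute_iff x y pa pb).2 ⟨hx, comm_fourB y hy pb basic_mem.2.2.2.2.2.2.1⟩)
    (i := 1) (j := 2) (by decide) (Subgroup.map_mono (Subgroup.prod_mono fourB_le le_rfl))
    (Subgroup.map_mono (Subgroup.prod_mono fourA_le le_rfl))

theorem not_u_v (hut : ¬ Cj F.u₁ F.t) : ¬ Cj F.u₁ F.v := by
  intro huv
  obtain ⟨maD, ma2D, mbD, -, maA, maB, mbB, ma2A, -⟩ := basic_mem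
  obtain ⟨h, hh, hhB⟩ := F.into_box F.u₁_sq (F.f_ne_one (Or.inl (by decide +kernel))) hut (F.not_u_z hut)
    (B := F.box fourB dih) (F.box_isPGroup fourB_le le_rfl) (by
      intro q hq
      obtain ⟨x, hx, y, hy, rfl⟩ := F.mem_box.1 hq
      exact (F.commute_iff x y pb 1).2 ⟨comm_fourB x hx pb mbB, by simp⟩)
    (by rw [F.card_box, card_fourB, card_dih]) (y := F.v) (Q := F.box dih fourB)
    (F.box_isPGroup le_rfl fourB_le) (by
      intro q hq
      obtain ⟨x, hx, y, hy, rfl⟩ := F.mem_box.1 hq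
      exact (F.commute_iff x y pa pb).2 ⟨hx, comm_fourB y hy pb mbB⟩) huv.symm
  have hleB : F.box fourB dih ≤ F.T0 := Subgroup.map_mono (Subgroup.prod_mono fourB_le le_rfl)
  have hd := F.image_derived_right (h := h * F.s) fun y hy => by
    rw [F.swap_image]; exact hleB (hhB _ (F.f_mem_box.2 ⟨hy, one_mem _⟩))
  rw [t', F.swap_image] at hd
  have ht : h * F.t * h⁻¹ = F.t' := by
    rcases hd with e | e | e
    · exfalso
      obtain ⟨p, hp, q, hq, e1⟩ := F.mem_box.1 (hhB _ (F.f_mem_box.2 ⟨ma2D, one_mem _⟩ : F.f (pa2, 1) ∈ _))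
      obtain ⟨p', hp', q', hq', e2⟩ := F.mem_box.1 (hhB _ (F.f_mem_box.2 ⟨mbD, one_mem _⟩ : F.f (pb, 1) ∈ _))
      have h3 : h * F.t * h⁻¹ = (h * F.f (pa2, 1) * h⁻¹) * (h * F.f (pb, 1) * h⁻¹) *
          (h * F.f (pa2, 1) * h⁻¹)⁻¹ * (h * F.f (pb, 1) * h⁻¹)⁻¹ := by
        rw [show F.t = F.f (pa2, 1) * F.f (pb, 1) * (F.f (pa2, 1))⁻¹ * (F.f (pb, 1))⁻¹ by
          rw [F.f_conj, ← map_inv, ← map_mul, Prod.inv_mk, Prod.mk_mul_mk, comm_gen]; simp [t]]
        group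
      rw [e1, e2, show h * F.t * h⁻¹ = F.t from e, t, F.f_conj, ← map_inv, ← map_mul, Prod.inv_mk,
        Prod.mk_mul_mk] at h3
      refine pa_ne_one ((congrArg Prod.fst (F.inj h3)).trans ?_)
      show p * p' * p⁻¹ * p'⁻¹ = 1
      rw [comm_fourB p hp p' hp']; group
    · exact e
    · exact absurd ⟨h, e⟩ F.not_t_z
  obtain ⟨x, hx, y, hy, exy⟩ := F.mem_box.1 (hhB F.t' (F.f_mem_box.2 ⟨one_mem _, maB⟩))
  have hR : ∀ d ∈ dih, h * F.s * F.f (1, d) * (h * F.s)⁻¹ ∈ F.T0 := fun d hd => by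
    rw [F.swap_image]; exact hleB (hhB _ (F.f_mem_box.2 ⟨hd, one_mem _⟩))
  have hy' : y = 1 ∨ y = pa := F.second_of_comm hR (by rw [t', F.swap_image]; exact ht) (x := x) hy fun d hd => by
    rw [F.swap_image, ← exy]
    exact (show Commute (F.f (d, 1)) F.t' from (F.commute_iff d 1 1 pa).2 ⟨by simp, by simp⟩).map
      (MulAut.conj h).toMonoidHom
  have hcj : Cj F.t (F.f (x, y)) := F.t_cj_t'.trans ⟨h, exy⟩
  have hne : F.f (x, y) ≠ 1 := fun e => F.t'_ne_one (conj_eq_one_iff.1 (exy.trans e))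
  have hxy : x = pa ∧ y = 1 := by
    rcases hy' with rfl | rfl
    · have hx1 : x ≠ 1 := fun e => hne (by rw [e, F.one_pair])
      rcases F.cj_left (fourB_le hx) (sq_fourB x hx) hx1 with ⟨hA, -, -⟩ | ⟨-, e, -⟩
      · exact ⟨(meet_four x hA hx).resolve_left hx1, rfl⟩
      · exact absurd ((hcj.trans e).symm) hut
    · exfalso
      by_cases hx1 : x = 1
      · subst hx1
        exact F.t_ne_t' ((MulAut.conj h).injective (exy.trans (show F.f (1, pa) = _ from ht.symm))).symm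
      rcases F.cj_two (fourB_le hx) (sq_fourB x hx) hx1 maD pa_sq pa_ne_one with
        ⟨-, -, e⟩ | ⟨-, e⟩ | ⟨-, hn, -⟩
      · exact F.not_t_z (hcj.trans e)
      · exact F.not_v_t hut (hcj.trans e).symm
      · exact hn maA
  obtain ⟨rfl, rfl⟩ := hxy
  have h1 : F.s * h * F.t * (F.s * h)⁻¹ = F.t := by
    rw [show F.s * h * F.t * (F.s * h)⁻¹ = F.s * (h * F.t * h⁻¹) * F.s⁻¹ by group, ht, F.s_t']
  have h2 : F.s * h * F.t' * (F.s * h)⁻¹ = F.t' := by
    rw [show F.s * h * F.t' * (F.s * h)⁻¹ = F.s * (h * F.t' * h⁻¹) * F.s⁻¹ by group, exy]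
    exact F.s_t
  obtain ⟨p, hp, q, hq, eg⟩ := F.mem_box.1
    (F.mem_T0_of_comm (mul_inv_eq_iff_eq_mul.1 h1) (mul_inv_eq_iff_eq_mul.1 h2))
  have h3 : F.s * h * F.v * (F.s * h)⁻¹ = F.u₂ := by
    rw [show F.s * h * F.v * (F.s * h)⁻¹ = F.s * (h * F.v * h⁻¹) * F.s⁻¹ by group, hh, u₁, F.s_conj]
    rfl
  rw [eg, v, u₂, F.f_conj, conj_pa p hp] at h3
  exact pa_ne_one (congrArg Prod.fst (F.inj h3))

/-- The subgroup of index two of the Sylow subgroup given by the product of the two signs. -/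
def signKer : Subgroup G where
  carrier := {g | ∃ x ∈ dih, ∃ y ∈ dih, Equiv.Perm.sign x = Equiv.Perm.sign y ∧
    (g = F.f (x, y) ∨ g = F.f (x, y) * F.s)}
  one_mem' := ⟨1, one_mem _, 1, one_mem _, rfl, Or.inl F.one_pair.symm⟩
  mul_mem' := by
    rintro g g' ⟨x, hx, y, hy, e, rfl | rfl⟩ ⟨p, hp, q, hq, e', rfl | rfl⟩
    · exact ⟨x * p, dih.mul_mem hx hp, y * q, dih.mul_mem hy hq, by simp [e, e'],
        Or.inl (by rw [← map_mul]; rfl)⟩
    · exact ⟨x * p, dih.mul_mem hx hp, y * q, dih.mul_mem hy hq, by simp [e, e'],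
        Or.inr (by rw [← mul_assoc, ← map_mul]; rfl)⟩
    · exact ⟨x * q, dih.mul_mem hx hq, y * p, dih.mul_mem hy hp, by simp [e, e'],
        Or.inr (by rw [mul_assoc, F.s_move, ← mul_assoc, ← map_mul]; rfl)⟩
    · exact ⟨x * q, dih.mul_mem hx hq, y * p, dih.mul_mem hy hp, by simp [e, e'],
        Or.inl (by
          rw [show F.f (x, y) * F.s * (F.f (p, q) * F.s) = F.f (x, y) * (F.s * F.f (p, q) * F.s) by group,
            F.swap, ← map_mul]
          rfl)⟩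
  inv_mem' := by
    rintro g ⟨x, hx, y, hy, e, rfl | rfl⟩
    · exact ⟨x⁻¹, dih.inv_mem hx, y⁻¹, dih.inv_mem hy, by simp [e], Or.inl (by rw [← map_inv]; rfl)⟩
    · refine ⟨y⁻¹, dih.inv_mem hy, x⁻¹, dih.inv_mem hx, by simp [e], Or.inr ?_⟩
      rw [_root_.mul_inv_rev, F.s_inv, ← map_inv]
      exact F.s_move x⁻¹ y⁻¹

theorem signKer_le : F.signKer ≤ F.T := fun _ ⟨x, hx, y, hy, _, h⟩ => F.mem_T.2 ⟨x, hx, y, hy, h⟩

theorem not_mem_signKer {x y : P4} (h : Equiv.Perm.sign x ≠ Equiv.Perm.sign y) : F.f (x, y) ∉ F.signKer := by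
  rintro ⟨p, -, q, -, e, e' | e'⟩
  · obtain ⟨rfl, rfl⟩ := Prod.mk.injEq .. ▸ F.inj e'
    exact h e
  · exact F.mul_s_not_mem (p, q) ⊤ ⊤ (e' ▸ F.f_mem_box.2 ⟨trivial, trivial⟩)

theorem card_signKer : Nat.card F.signKer = 64 := by
  have hi : (F.signKer.subgroupOf F.T).index = 2 := by
    rw [Subgroup.index_eq_two_iff]
    have hu : F.f (pb, 1) ∈ F.T := F.T0_le_T (F.f_mem_box.2 ⟨basic_mem.2.2.1, one_mem _⟩)
    refine ⟨⟨_, hu⟩, fun ⟨g, hg⟩ => ?_⟩
    obtain ⟨x, hx, y, hy, he⟩ := F.mem_T.1 hg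
    have hmul : g * F.f (pb, 1) = F.f (x * pb, y) ∨ g * F.f (pb, 1) = F.f (x, y * pb) * F.s := by
      rcases he with rfl | rfl
      · left; rw [← map_mul, Prod.mk_mul_mk, mul_one]
      · right; rw [mul_assoc, F.s_move, ← mul_assoc, ← map_mul, Prod.mk_mul_mk, mul_one]
    have hns : ∀ p q, Equiv.Perm.sign p ≠ Equiv.Perm.sign q → F.f (p, q) * F.s ∉ F.signKer := by
      rintro p q hpq ⟨p', -, q', -, e, e' | e'⟩
      · exact F.mul_s_not_mem (p, q) ⊤ ⊤ (e'.symm ▸ F.f_mem_box.2 ⟨trivial, trivial⟩)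
      · obtain ⟨rfl, rfl⟩ := Prod.mk.injEq .. ▸ F.inj (mul_right_cancel e')
        exact hpq e
    simp only [Subgroup.mem_subgroupOf, MulMemClass.mk_mul_mk]
    rcases Int.units_eq_one_or (Equiv.Perm.sign x) with sx | sx <;>
      rcases Int.units_eq_one_or (Equiv.Perm.sign y) with sy | sy
    · refine Or.inr ⟨⟨x, hx, y, hy, sx.trans sy.symm, he⟩, ?_⟩
      rcases hmul with e | e <;> rw [e]
      · exact F.not_mem_signKer (by simp [sx, sy, sign_facts.2.2])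
      · exact hns _ _ (by simp [sx, sy, sign_facts.2.2])
    · refine Or.inl ⟨?_, fun hm => ?_⟩
      · rcases hmul with e | e
        · exact ⟨_, dih.mul_mem hx basic_mem.2.2.1, y, hy, by simp [sx, sy, sign_facts.2.2], Or.inl e⟩
        · exact ⟨x, hx, _, dih.mul_mem hy basic_mem.2.2.1, by simp [sx, sy, sign_facts.2.2], Or.inr e⟩
      · rcases he with rfl | rfl
        · exact F.not_mem_signKer (by simp [sx, sy]) hm
        · exact hns _ _ (by simp [sx, sy]) hm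
    · refine Or.inl ⟨?_, fun hm => ?_⟩
      · rcases hmul with e | e
        · exact ⟨_, dih.mul_mem hx basic_mem.2.2.1, y, hy, by simp [sx, sy, sign_facts.2.2], Or.inl e⟩
        · exact ⟨x, hx, _, dih.mul_mem hy basic_mem.2.2.1, by simp [sx, sy, sign_facts.2.2], Or.inr e⟩
      · rcases he with rfl | rfl
        · exact F.not_mem_signKer (by simp [sx, sy]) hm
        · exact hns _ _ (by simp [sx, sy]) hm
    · refine Or.inr ⟨⟨x, hx, y, hy, sx.trans sy.symm, he⟩, ?_⟩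
      rcases hmul with e | e <;> rw [e]
      · exact F.not_mem_signKer (by simp [sx, sy, sign_facts.2.2])
      · exact hns _ _ (by simp [sx, sy, sign_facts.2.2])
  have h1 := Subgroup.card_mul_index (F.signKer.subgroupOf F.T)
  rw [Nat.card_congr (Subgroup.subgroupOfEquivOfLe F.signKer_le).toEquiv, hi, F.card_T] at h1
  omega

include F in
/-- The contradiction. -/
theorem absurd_frame (hno : ∀ N : Subgroup G, N.Normal → N.index ≠ 2) : False := by
  have hut := F.not_u_t hno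
  have key : ∀ x y, x ∈ dih → y ∈ dih → Equiv.Perm.sign x ≠ Equiv.Perm.sign y →
      F.f (x, y) * F.f (x, y) = 1 → ¬ Cj (F.f (x, y)) F.t → ¬ Cj (F.f (x, y)) F.z →
      ¬ Cj (F.f (x, y)) F.w → Cj (F.f (x, y)) F.s := by
    intro x y hx hy hs h2 nt nz nw
    have h1 : F.f (x, y) ≠ 1 := fun e => hs (by
      have e' := F.inj (e.trans (map_one F.f).symm)
      rw [show x = 1 from congrArg Prod.fst e', show y = 1 from congrArg Prod.snd e'])
    obtain ⟨g, hg, hcj⟩ := F.transfer hno F.signKer_le F.card_signKer h2 h1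
      (F.T0_le_T (F.f_mem_box.2 ⟨hx, hy⟩)) (F.not_mem_signKer hs)
    by_cases hg0 : g ∈ F.T0
    · exfalso
      obtain ⟨p, hp, q, hq, hpq, e | e⟩ := hg
      · subst e
        have hsq := cj_mul_self hcj h2
        obtain ⟨hp2, hq2⟩ := F.invol_pair hsq
        by_cases hp1 : p = 1
        · subst hp1
          have hq1 : q ≠ 1 := by
            rintro rfl
            obtain ⟨c, hc⟩ := hcj
            rw [F.one_pair, conj_eq_one_iff] at hc
            exact h1 hc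
          rcases F.cj_left hq hq2 hq1 with ⟨-, -, e⟩ | ⟨hn, -, -⟩
          · exact nt (hcj.trans e)
          · exact hn ((sign_facts.1 q hq hq2).1 (hpq.symm.trans (map_one _)))
        by_cases hq1 : q = 1
        · subst hq1
          rcases F.cj_left hp hp2 hp1 with ⟨-, e, -⟩ | ⟨hn, -, -⟩
          · exact nt (hcj.trans e)
          · exact hn ((sign_facts.1 p hp hp2).1 (hpq.trans (map_one _)))
        rcases F.cj_two hp hp2 hp1 hq hq2 hq1 with ⟨-, -, e⟩ | ⟨⟨ha, hb⟩ | ⟨ha, hb⟩, -⟩ | ⟨-, -, e⟩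
        · exact nz (hcj.trans e)
        · exact hb ((sign_facts.1 q hq hq2).1 (hpq.symm.trans ((sign_facts.1 p hp hp2).2 ha)))
        · exact ha ((sign_facts.1 p hp hp2).1 (hpq.trans ((sign_facts.1 q hq hq2).2 hb)))
        · exact nw (hcj.trans e)
      · exact F.mul_s_not_mem (p, q) dih dih (e ▸ hg0)
    · exact hcj.trans (F.inv_out (F.signKer_le hg) hg0 (cj_mul_self hcj h2))
  have hus := key pb 1 basic_mem.2.2.1 (one_mem _) (by rw [sign_facts.2.2, map_one]; decide) F.u₁_sq hut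
    (F.not_u_z hut) (F.not_u_w hut)
  have hvs := key pa pb basic_mem.1 basic_mem.2.2.1 (by rw [sign_facts.2.2, sign_facts.2.1]; decide) F.v_sq
    (F.not_v_t hut) (F.not_v_z hut) (F.not_v_w hut)
  exact F.not_u_v hut (hus.trans hvs.symm)

end Frame

end Cfsg.Lib.QTWreath
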