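import Cfsg.Agent.QTKE.Wreath.Frame
import Cfsg.Agent.Components.Cores

/-!
The normaliser of the base, the classes of the two central involutions and the odd-order signalisers.
-/

set_option autoImplicit false
set_option linter.unusedSectionVars false
set_option linter.style.haveILetI false

namespace Cfsg.Lib.QTWreath

open Subgroup

universe u

theorem fourA_normal : ∀ x : P4, ∀ y ∈ fourA, x * y * x⁻¹ ∈ fourA := by decide +kernel

theorem center_conj : ∀ x : P4, (x * pa * x⁻¹ = 1 ∨ x * pa * x⁻¹ = pa) → x ∈ dih := by decide +kernel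

theorem meet_center : ∀ x ∈ dih, (∀ y ∈ dih, x * y = y * x) ↔ x ∈ fourA ∧ x ∈ fourB := by decide +kernel

/-- A normalised 2-group generates a 2-group with any 2-subgroup. -/
theorem isPGroup_sup {G : Type u} [Group G] {A B : Subgroup G} (hA : IsPGroup 2 A) (hB : IsPGroup 2 B)
    (h : A ≤ normalizer (B : Set G)) : IsPGroup 2 (A ⊔ B : Subgroup G) :=
  haveI : Fact (Nat.Prime 2) := ⟨Nat.prime_two⟩
  IsPGroup.to_sup_of_normal_right' hA hB h

/-- An element of odd order centralising a normal subgroup of index two of a 2-group centralises it. -/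
theorem commute_of_index_two {G : Type u} [Group G] [Finite G] {Q : Subgroup G} (hQ : IsPGroup 2 Q) {x q : G}
    (hx : Odd (orderOf x)) (hq : q ∈ Q) (h1 : Commute x (q⁻¹ * (x * q * x⁻¹)))
    (hmem : q⁻¹ * (x * q * x⁻¹) ∈ Q) : Commute x q := by
  set e := q⁻¹ * (x * q * x⁻¹) with he
  have hit : ∀ n : ℕ, x ^ n * q * (x ^ n)⁻¹ = q * e ^ n := by
    intro n
    induction n with
    | zero => simp
    | succ n ih =>
      calc x ^ (n + 1) * q * (x ^ (n + 1))⁻¹ = x * (x ^ n * q * (x ^ n)⁻¹) * x⁻¹ := by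
            rw [pow_succ']; group
        _ = (x * q * x⁻¹) * (x * e ^ n * x⁻¹) := by rw [ih]; group
        _ = q * e * e ^ n := by
          rw [show x * e ^ n * x⁻¹ = e ^ n by rw [(h1.pow_right n).eq, mul_inv_cancel_right],
            show x * q * x⁻¹ = q * e by rw [he]; group]
        _ = q * e ^ (n + 1) := by rw [mul_assoc, ← pow_succ']
  have h2 := hit (orderOf x)
  rw [pow_orderOf_eq_one, one_mul, inv_one, mul_one, left_eq_mul] at h2
  obtain ⟨k, hk⟩ := hQ ⟨e, hmem⟩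
  have hk' : e ^ 2 ^ k = 1 := by simpa using congrArg Subtype.val hk
  have he1 : e = 1 := by
    rw [← orderOf_eq_one_iff]
    exact Nat.eq_one_of_dvd_coprimes (((Nat.coprime_two_left.2 hx).pow_left k))
      (orderOf_dvd_of_pow_eq_one hk') (orderOf_dvd_of_pow_eq_one h2)
  rw [he, inv_mul_eq_one] at he1
  show x * q = q * x
  rw [← mul_inv_eq_iff_eq_mul, ← he1]

namespace Frame

variable {G : Type u} [Group G] [Finite G] (F : Frame G)

/-- The centre of the base. -/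
def InZ (g : G) : Prop := g ∈ F.T0 ∧ ∀ h ∈ F.T0, g * h = h * g

theorem inZ_iff {g : G} :
    F.InZ g ↔ ∃ x ∈ fourA, x ∈ fourB ∧ ∃ y ∈ fourA, y ∈ fourB ∧ g = F.f (x, y) := by
  constructor
  · rintro ⟨hg, hc⟩
    obtain ⟨x, hx, y, hy, rfl⟩ := F.mem_box.1 hg
    have hx' := (meet_center x hx).1 fun u hu =>
      ((F.commute_iff x y u 1).1 (hc _ (F.f_mem_box.2 ⟨hu, one_mem _⟩))).1
    have hy' := (meet_center y hy).1 fun v hv =>
      ((F.commute_iff x y 1 v).1 (hc _ (F.f_mem_box.2 ⟨one_mem _, hv⟩))).2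
    exact ⟨x, hx'.1, hx'.2, y, hy'.1, hy'.2, rfl⟩
  · rintro ⟨x, hxA, hxB, y, hyA, hyB, rfl⟩
    refine ⟨F.f_mem_box.2 ⟨fourA_le hxA, fourA_le hyA⟩, fun h hh => ?_⟩
    obtain ⟨u, hu, v, hv, rfl⟩ := F.mem_box.1 hh
    exact (F.commute_iff x y u v).2
      ⟨(meet_center x (fourA_le hxA)).2 ⟨hxA, hxB⟩ u hu, (meet_center y (fourA_le hyA)).2 ⟨hyA, hyB⟩ v hv⟩

theorem normalizer_E : Subgroup.normalizer ((F.el 0 : Subgroup G) : Set G) = F.M := by
  refine F.hmax.2 _ ⟨F.el 0, F.isPGroup_T0.to_le (F.el_le 0), ?_, rfl⟩ fun m hm => ?_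
  · intro h
    have := F.card_el 0
    rw [h, Subgroup.card_bot] at this
    omega
  · obtain ⟨⟨a, c⟩, hm | hm⟩ := (F.M_mem m).1 hm
    all_goals
      rw [Subgroup.mem_normalizer_iff_map_conj_eq]
      refine Subgroup.eq_of_le_of_card_ge ?_ (le_of_eq ?_)
    all_goals first
      | (rw [Subgroup.card_map_of_injective (MulAut.conj m).injective]) | skip
    · rintro _ ⟨g, hg, rfl⟩
      obtain ⟨x, hx, y, hy, rfl⟩ := F.mem_box.1 hg
      show m * _ * m⁻¹ ∈ F.el 0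
      rw [hm, F.f_conj]
      exact F.f_mem_box.2 ⟨fourA_normal a x hx, fourA_normal c y hy⟩
    · rintro _ ⟨g, hg, rfl⟩
      obtain ⟨x, hx, y, hy, rfl⟩ := F.mem_box.1 hg
      show m * _ * m⁻¹ ∈ F.el 0
      rw [hm, _root_.mul_inv_rev, show F.f (a, c) * F.s * F.f (x, y) * (F.s⁻¹ * (F.f (a, c))⁻¹) =
        F.f (a, c) * (F.s * F.f (x, y) * F.s⁻¹) * (F.f (a, c))⁻¹ by group, F.s_conj, F.f_conj]
      exact F.f_mem_box.2 ⟨fourA_normal a y hy, fourA_normal c x hx⟩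

theorem mem_T_of_mem_M {g : G} (hg : g ∈ F.M) (hn : g ∈ Subgroup.normalizer (F.T0 : Set G)) : g ∈ F.T := by
  have hz : ∀ h, F.InZ h → F.InZ (g * h * g⁻¹) := fun h hh =>
    ⟨(Subgroup.mem_normalizer_iff.1 hn h).1 hh.1, fun k hk => by
      have h1 := hh.2 _ ((Subgroup.mem_normalizer_iff.1 (inv_mem hn) k).1 hk)
      calc g * h * g⁻¹ * k = g * (h * (g⁻¹ * k * g⁻¹⁻¹)) * g⁻¹ := by group
        _ = k * (g * h * g⁻¹) := by rw [h1]; group⟩
  have h1 : F.InZ (F.f (pa, 1)) :=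
    F.inZ_iff.2 ⟨pa, by decide +kernel, by decide +kernel, 1, one_mem _, one_mem _, rfl⟩
  have h2 : F.InZ (F.f (1, pa)) :=
    F.inZ_iff.2 ⟨1, one_mem _, one_mem _, pa, by decide +kernel, by decide +kernel, rfl⟩
  obtain ⟨⟨a, c⟩, hm | hm⟩ := (F.M_mem g).1 hg
  · obtain ⟨x, hx, hx', _, _, _, ex⟩ := F.inZ_iff.1 (hz _ h1)
    obtain ⟨_, _, _, y, hy, hy', ey⟩ := F.inZ_iff.1 (hz _ h2)
    rw [hm, F.f_conj, F.f_eq_iff, Prod.mk.injEq] at ex ey
    exact F.mem_T.2 ⟨a, center_conj a (ex.1 ▸ meet_four x hx hx'), c,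
      center_conj c (ey.2 ▸ meet_four y hy hy'), Or.inl hm⟩
  · obtain ⟨_, _, _, y, hy, hy', ey⟩ := F.inZ_iff.1 (hz _ h1)
    obtain ⟨x, hx, hx', _, _, _, ex⟩ := F.inZ_iff.1 (hz _ h2)
    rw [hm, _root_.mul_inv_rev, show ∀ w : G, F.f (a, c) * F.s * w * (F.s⁻¹ * (F.f (a, c))⁻¹) =
      F.f (a, c) * (F.s * w * F.s⁻¹) * (F.f (a, c))⁻¹ from fun w => by group, F.s_conj, F.f_conj,
      F.f_eq_iff, Prod.mk.injEq] at ex ey
    exact F.mem_T.2 ⟨a, center_conj a (ex.1 ▸ meet_four x hx hx'), c,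
      center_conj c (ey.2 ▸ meet_four y hy hy'), Or.inr hm⟩

theorem T_le_normalizer_T0 : F.T ≤ Subgroup.normalizer (F.T0 : Set G) := by
  intro g hg
  rw [Subgroup.mem_normalizer_iff_map_conj_eq]
  refine Subgroup.eq_of_le_of_card_ge ?_
    (le_of_eq (Subgroup.card_map_of_injective (MulAut.conj g).injective).symm)
  rintro _ ⟨h, hh, rfl⟩
  obtain ⟨u, hu, v, hv, rfl⟩ := F.mem_box.1 hh
  obtain ⟨x, hx, y, hy, rfl | rfl⟩ := F.mem_T.1 hg
  · show F.f (x, y) * F.f (u, v) * (F.f (x, y))⁻¹ ∈ F.T0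
    rw [F.f_conj]
    exact F.f_mem_box.2 ⟨dih.mul_mem (dih.mul_mem hx hu) (dih.inv_mem hx),
      dih.mul_mem (dih.mul_mem hy hv) (dih.inv_mem hy)⟩
  · show F.f (x, y) * F.s * F.f (u, v) * (F.f (x, y) * F.s)⁻¹ ∈ F.T0
    rw [_root_.mul_inv_rev, show F.f (x, y) * F.s * F.f (u, v) * (F.s⁻¹ * (F.f (x, y))⁻¹) =
      F.f (x, y) * (F.s * F.f (u, v) * F.s⁻¹) * (F.f (x, y))⁻¹ by group, F.s_conj, F.f_conj]
    exact F.f_mem_box.2 ⟨dih.mul_mem (dih.mul_mem hx hv) (dih.inv_mem hx),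
      dih.mul_mem (dih.mul_mem hy hu) (dih.inv_mem hy)⟩

theorem normalizer_T0 : Subgroup.normalizer (F.T0 : Set G) = F.T := by
  classical
  haveI : Fact (Nat.Prime 2) := ⟨Nat.prime_two⟩
  set N := Subgroup.normalizer (F.T0 : Set G) with hN
  have hel : ∀ g ∈ N, ∀ i, ∃ j, (F.el i).map (MulAut.conj g).toMonoidHom = F.el j := by
    intro g hg i
    refine F.el_of_le_T0 ?_ ((Subgroup.card_map_of_injective (MulAut.conj g).injective).trans (F.card_el i)) ?_ ?_
    · rintro _ ⟨h, hh, rfl⟩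
      exact (Subgroup.mem_normalizer_iff.1 hg h).1 (F.el_le i hh)
    · rintro _ ⟨h, hh, rfl⟩
      rw [← map_mul, (F.el_elem i).1 h hh, map_one]
    · rintro _ ⟨h, hh, rfl⟩ _ ⟨k, hk, rfl⟩
      rw [← map_mul, ← map_mul, (F.el_elem i).2 h hh k hk]
  have hpg : IsPGroup 2 N := by
    intro ⟨g, hg⟩
    choose σ hσ using hel g hg
    have hinj : Function.Injective σ := fun i j e => by
      by_contra hne
      exact F.el_ne hne (Subgroup.map_injective (MulAut.conj g).injective ((hσ i).trans (e ▸ (hσ j).symm)))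
    let π := Equiv.ofBijective σ (Finite.injective_iff_bijective.1 hinj)
    have h4 : π ^ 4 = 1 := two_pow_fix fun i => by
      show σ _ = _
      refine F.opposite.2 ⟨fun e => ?_, fun w hw hw' => ?_⟩
      · exact (by decide : ∀ i : Fin 4, i ≠ ![1, 0, 3, 2] i) i (hinj e)
      · change w ∈ F.el (σ i) at hw
        rw [← hσ] at hw hw'
        obtain ⟨h, hh, rfl⟩ := hw
        obtain ⟨h', hh', e⟩ := hw'
        obtain rfl := (MulAut.conj g).injective e
        have hZ : F.InZ h' := F.inZ_iff.2 ((F.opposite.1 (rfl : ![(1 : Fin 4), 0, 3, 2] i = ![1, 0, 3, 2] i)).2 h' hh hh')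
        refine F.inZ_iff.1 ⟨(Subgroup.mem_normalizer_iff.1 hg h').1 hZ.1, fun k hk => ?_⟩
        have h1 := hZ.2 _ ((Subgroup.mem_normalizer_iff.1 (inv_mem hg) k).1 hk)
        show g * h' * g⁻¹ * k = k * (g * h' * g⁻¹)
        calc g * h' * g⁻¹ * k = g * (h' * (g⁻¹ * k * g⁻¹⁻¹)) * g⁻¹ := by group
          _ = k * (g * h' * g⁻¹) := by rw [h1]; group
    have hpow : ∀ n : ℕ, ∀ i, (F.el i).map (MulAut.conj (g ^ n)).toMonoidHom = F.el ((π ^ n) i) := by
      intro n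
      induction n with
      | zero =>
        intro i
        ext w
        simp
      | succ n ih =>
        intro i
        rw [pow_succ', pow_succ', map_mul, show (MulAut.conj g * MulAut.conj (g ^ n)).toMonoidHom =
          (MulAut.conj g).toMonoidHom.comp (MulAut.conj (g ^ n)).toMonoidHom from rfl,
          ← Subgroup.map_map, ih]
        exact hσ _
    have h5 := hpow 4 0
    rw [h4, Equiv.Perm.one_apply] at h5
    have hT : g ^ 4 ∈ F.T := F.mem_T_of_mem_M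
      (F.normalizer_E ▸ Subgroup.mem_normalizer_iff_map_conj_eq.2 h5) (pow_mem hg 4)
    obtain ⟨k, hk⟩ := F.isPGroup_T ⟨g ^ 4, hT⟩
    refine ⟨2 + k, Subtype.ext ?_⟩
    have hk' : (g ^ 4) ^ 2 ^ k = 1 := by simpa using congrArg Subtype.val hk
    show g ^ 2 ^ (2 + k) = 1
    rw [pow_add, pow_mul]
    exact hk'
  exact F.eq_T_of_le hpg F.T_le_normalizer_T0

theorem eq_T_of_T0_le {Q : Subgroup G} (hQ : IsPGroup 2 Q) (h : F.T0 ≤ Q) (hc : 64 < Nat.card Q) :
    Q = F.T := by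
  haveI : Fact (Nat.Prime 2) := ⟨Nat.prime_two⟩
  have h128 : Nat.card Q = 128 := by
    obtain ⟨k, hk⟩ := hQ.exists_card_eq
    have h1 := F.hsyl Q hQ
    rw [hk] at hc h1 ⊢
    have h2 : k ≤ 7 := (Nat.pow_le_pow_iff_right (le_refl 2)).1 (h1.trans_eq (by norm_num))
    interval_cases k <;> simp_all
  have hidx : (F.T0.subgroupOf Q).index = 2 := by
    have h1 := Subgroup.card_mul_index (F.T0.subgroupOf Q)
    rw [Nat.card_congr (Subgroup.subgroupOfEquivOfLe h).toEquiv, F.card_T0, h128] at h1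
    omega
  haveI := Subgroup.normal_of_index_eq_two hidx
  have hle : Q ≤ F.T := F.normalizer_T0 ▸ Subgroup.normal_subgroupOf_iff_le_normalizer h |>.1 inferInstance
  exact eq_of_le_of_card_ge hle (by rw [h128, F.card_T])

theorem t_mem_T0 : F.t ∈ F.T0 := F.f_mem_box.2 ⟨by decide +kernel, one_mem _⟩

theorem t'_mem_T0 : F.t' ∈ F.T0 := F.f_mem_box.2 ⟨one_mem _, by decide +kernel⟩

theorem t_ne_t' : F.t ≠ F.t' := fun e => pa_ne_one (congrArg Prod.fst (F.inj e))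

theorem t_mul_t' : F.t * F.t' = F.z := by rw [t, t', z, ← map_mul]; rfl

theorem s_t : F.s * F.t * F.s⁻¹ = F.t' := F.s_conj pa 1

theorem s_t' : F.s * F.t' * F.s⁻¹ = F.t := F.s_conj 1 pa

theorem s_z : F.s * F.z * F.s⁻¹ = F.z := F.s_conj pa pa

theorem T0_comm_t {g : G} (hg : g ∈ F.T0) : g * F.t = F.t * g ∧ g * F.t' = F.t' * g := by
  obtain ⟨x, hx, y, hy, rfl⟩ := F.mem_box.1 hg
  exact ⟨(F.commute_iff x y pa 1).2 ⟨hx, by simp⟩, (F.commute_iff x y 1 pa).2 ⟨by simp, hy⟩⟩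

theorem T_comm_z {g : G} (hg : g ∈ F.T) : g * F.z = F.z * g := by
  obtain ⟨x, hx, y, hy, rfl | rfl⟩ := F.mem_T.1 hg
  · exact (F.commute_iff x y pa pa).2 ⟨hx, hy⟩
  · rw [z, mul_assoc, F.s_move, ← mul_assoc, (F.commute_iff x y pa pa).2 ⟨hx, hy⟩, mul_assoc]

theorem card_le_of_comm_t {Q : Subgroup G} (hQ : IsPGroup 2 Q) (h : ∀ g ∈ Q, g * F.t = F.t * g) :
    Nat.card Q ≤ 64 := by
  haveI : Fact (Nat.Prime 2) := ⟨Nat.prime_two⟩
  set C := Subgroup.centralizer ({F.t} : Set G)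
  have hQC : Q ≤ C := fun g hg => Subgroup.mem_centralizer_singleton_iff.2 (h g hg)
  have hTC : F.T0 ≤ C := fun g hg => Subgroup.mem_centralizer_singleton_iff.2 (F.T0_comm_t hg).1
  obtain ⟨P, hP⟩ := (hQ.of_equiv (Subgroup.subgroupOfEquivOfLe hQC).symm).exists_le_sylow
  obtain ⟨S, hS⟩ := (F.isPGroup_T0.of_equiv (Subgroup.subgroupOfEquivOfLe hTC).symm).exists_le_sylow
  by_contra hgt
  have hcard : 64 < Nat.card ((S : Subgroup C).map C.subtype) := by
    rw [Subgroup.card_map_of_injective C.subtype_injective,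
      show Nat.card (S : Subgroup C) = Nat.card (P : Subgroup C) by
        rw [Sylow.card_eq_multiplicity, Sylow.card_eq_multiplicity]]
    have := Subgroup.card_le_of_le hP
    rw [Nat.card_congr (Subgroup.subgroupOfEquivOfLe hQC).toEquiv] at this
    omega
  have hle : F.T0 ≤ (S : Subgroup C).map C.subtype := fun g hg => ⟨⟨g, hTC hg⟩, hS hg, rfl⟩
  have e := F.eq_T_of_T0_le (S.isPGroup'.map _) hle hcard
  obtain ⟨⟨w, hw⟩, -, hw'⟩ := (e.symm ▸ F.s_mem_T : F.s ∈ (S : Subgroup C).map C.subtype)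
  obtain rfl : w = F.s := hw'
  have h1 := Subgroup.mem_centralizer_singleton_iff.1 hw
  have h2 := F.s_t
  rw [h1, mul_inv_cancel_right] at h2
  exact F.t_ne_t' h2

theorem t_not_conj_z (g : G) : g * F.t * g⁻¹ ≠ F.z := by
  intro e
  have hQ : IsPGroup 2 (F.T.map (MulAut.conj g⁻¹).toMonoidHom) := F.isPGroup_T.map _
  have := F.card_le_of_comm_t hQ (by
    rintro _ ⟨h, hh, rfl⟩
    show g⁻¹ * h * g⁻¹⁻¹ * F.t = F.t * (g⁻¹ * h * g⁻¹⁻¹)
    have h1 := F.T_comm_z hh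
    rw [← e] at h1
    calc g⁻¹ * h * g⁻¹⁻¹ * F.t = g⁻¹ * (h * (g * F.t * g⁻¹)) * g := by group
      _ = F.t * (g⁻¹ * h * g⁻¹⁻¹) := by rw [h1]; group)
  rw [Subgroup.card_map_of_injective (MulAut.conj g⁻¹).injective, F.card_T] at this
  omega

theorem conj_into_T {Q : Subgroup G} (hQ : IsPGroup 2 Q) :
    ∃ h : G, ∀ q ∈ Q, h * q * h⁻¹ ∈ F.T := by
  haveI : Fact (Nat.Prime 2) := ⟨Nat.prime_two⟩
  obtain ⟨P, hP⟩ := F.isPGroup_T.exists_le_sylow
  obtain ⟨S, hS⟩ := hQ.exists_le_sylow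
  obtain ⟨h, hh⟩ := MulAction.exists_smul_eq G S P
  refine ⟨h, fun q hq => ?_⟩
  rw [← F.eq_T_of_le P.isPGroup' hP]
  have h1 : h * q * h⁻¹ ∈ ((h • S : Sylow 2 G) : Subgroup G) :=
    Subgroup.smul_mem_pointwise_smul q (MulAut.conj h) _ (hS hq)
  rwa [hh] at h1

/-- A 2-subgroup centralising a conjugate of `t` is conjugate into the base. -/
theorem into_T0 {x : G} {Q : Subgroup G} (hQ : IsPGroup 2 Q) (hxQ : ∀ q ∈ Q, q * x = x * q)
    (hx : ∃ g : G, g * x * g⁻¹ = F.t) :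
    ∃ h : G, h * x * h⁻¹ = F.t ∧ ∀ q ∈ Q, h * q * h⁻¹ ∈ F.T0 := by
  haveI : Fact (Nat.Prime 2) := ⟨Nat.prime_two⟩
  obtain ⟨g, hg⟩ := hx
  set C := Subgroup.centralizer ({F.t} : Set G)
  have hQC : Q.map (MulAut.conj g).toMonoidHom ≤ C := by
    rintro _ ⟨q, hq, rfl⟩
    refine Subgroup.mem_centralizer_singleton_iff.2 ?_
    show g * q * g⁻¹ * F.t = F.t * (g * q * g⁻¹)
    rw [← hg]
    calc g * q * g⁻¹ * (g * x * g⁻¹) = g * (q * x) * g⁻¹ := by group
      _ = _ := by rw [hxQ q hq]; group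
  have hTC : F.T0 ≤ C := fun w hw => Subgroup.mem_centralizer_singleton_iff.2 (F.T0_comm_t hw).1
  obtain ⟨P, hP⟩ := ((hQ.map (MulAut.conj g).toMonoidHom).of_equiv
    (Subgroup.subgroupOfEquivOfLe hQC).symm).exists_le_sylow
  obtain ⟨S, hS⟩ := (F.isPGroup_T0.of_equiv (Subgroup.subgroupOfEquivOfLe hTC).symm).exists_le_sylow
  obtain ⟨c, hc⟩ := MulAction.exists_smul_eq C P S
  have hle : (S : Subgroup C).map C.subtype ≤ F.T0 := by
    have h1 : F.T0 ≤ (S : Subgroup C).map C.subtype := fun w hw => ⟨⟨w, hTC hw⟩, hS hw, rfl⟩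
    refine (eq_of_le_of_card_ge h1 ?_).ge
    rw [F.card_T0]
    refine F.card_le_of_comm_t (S.isPGroup'.map _) ?_
    rintro _ ⟨⟨w, hw⟩, -, rfl⟩
    exact Subgroup.mem_centralizer_singleton_iff.1 hw
  refine ⟨c.1 * g, ?_, fun q hq => hle ⟨c * ⟨_, hQC ⟨q, hq, rfl⟩⟩ * c⁻¹, ?_, ?_⟩⟩
  · rw [show c.1 * g * x * (c.1 * g)⁻¹ = c.1 * (g * x * g⁻¹) * c.1⁻¹ by group, hg,
      Subgroup.mem_centralizer_singleton_iff.1 c.2, mul_inv_cancel_right]
  · rw [← hc]
    exact Subgroup.smul_mem_pointwise_smul (⟨_, hQC ⟨q, hq, rfl⟩⟩ : C) (MulAut.conj c) _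
      (hP (show (⟨_, hQC ⟨q, hq, rfl⟩⟩ : C) ∈ (Q.map (MulAut.conj g).toMonoidHom).subgroupOf C from
        ⟨q, hq, rfl⟩))
  · show c.1 * (g * q * g⁻¹) * c.1⁻¹ = c.1 * g * q * (c.1 * g)⁻¹
    group

/-- A 2-subgroup centralising a conjugate of `z` is conjugate into the Sylow subgroup. -/
theorem into_T {x : G} {Q : Subgroup G} (hQ : IsPGroup 2 Q) (hxQ : ∀ q ∈ Q, q * x = x * q)
    (hx : ∃ g : G, g * x * g⁻¹ = F.z) :
    ∃ h : G, h * x * h⁻¹ = F.z ∧ ∀ q ∈ Q, h * q * h⁻¹ ∈ F.T := by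
  haveI : Fact (Nat.Prime 2) := ⟨Nat.prime_two⟩
  obtain ⟨g, hg⟩ := hx
  set C := Subgroup.centralizer ({F.z} : Set G)
  have hQC : Q.map (MulAut.conj g).toMonoidHom ≤ C := by
    rintro _ ⟨q, hq, rfl⟩
    refine Subgroup.mem_centralizer_singleton_iff.2 ?_
    show g * q * g⁻¹ * F.z = F.z * (g * q * g⁻¹)
    rw [← hg]
    calc g * q * g⁻¹ * (g * x * g⁻¹) = g * (q * x) * g⁻¹ := by group
      _ = _ := by rw [hxQ q hq]; group
  have hTC : F.T ≤ C := fun w hw => Subgroup.mem_centralizer_singleton_iff.2 (F.T_comm_z hw)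
  obtain ⟨P, hP⟩ := ((hQ.map (MulAut.conj g).toMonoidHom).of_equiv
    (Subgroup.subgroupOfEquivOfLe hQC).symm).exists_le_sylow
  obtain ⟨S, hS⟩ := (F.isPGroup_T.of_equiv (Subgroup.subgroupOfEquivOfLe hTC).symm).exists_le_sylow
  obtain ⟨c, hc⟩ := MulAction.exists_smul_eq C P S
  have hle : (S : Subgroup C).map C.subtype ≤ F.T :=
    (F.eq_T_of_le (S.isPGroup'.map _) fun w hw => ⟨⟨w, hTC hw⟩, hS hw, rfl⟩).le
  refine ⟨c.1 * g, ?_, fun q hq => hle ⟨c * ⟨_, hQC ⟨q, hq, rfl⟩⟩ * c⁻¹, ?_, ?_⟩⟩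
  · rw [show c.1 * g * x * (c.1 * g)⁻¹ = c.1 * (g * x * g⁻¹) * c.1⁻¹ by group, hg,
      Subgroup.mem_centralizer_singleton_iff.1 c.2, mul_inv_cancel_right]
  · rw [← hc]
    exact Subgroup.smul_mem_pointwise_smul (⟨_, hQC ⟨q, hq, rfl⟩⟩ : C) (MulAut.conj c) _
      (hP (show (⟨_, hQC ⟨q, hq, rfl⟩⟩ : C) ∈ (Q.map (MulAut.conj g).toMonoidHom).subgroupOf C from
        ⟨q, hq, rfl⟩))
  · show c.1 * (g * q * g⁻¹) * c.1⁻¹ = c.1 * g * q * (c.1 * g)⁻¹
    group

theorem z_ne_one : F.z ≠ 1 := fun e => pa_ne_one (congrArg Prod.fst (F.inj (e.trans (map_one F.f).symm)))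

theorem z_sq : F.z * F.z = 1 := by
  rw [z, ← map_mul, Prod.mk_mul_mk, pa_sq]
  exact map_one F.f

/-- The centraliser of `z` has no odd subgroup normalised by the base. -/
theorem odd_eq_one {W : Subgroup G} (hodd : Odd (Nat.card W)) (hWK : ∀ w ∈ W, w * F.z = F.z * w)
    (hn : F.T0 ≤ Subgroup.normalizer (W : Set G)) : W = ⊥ := by
  classical
  haveI : Fact (Nat.Prime 2) := ⟨Nat.prime_two⟩
  set K := Subgroup.centralizer ({F.z} : Set G) with hK
  have hTK : F.T ≤ K := fun w hw => Subgroup.mem_centralizer_singleton_iff.2 (F.T_comm_z hw)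
  have hWK' : W ≤ K := fun w hw => Subgroup.mem_centralizer_singleton_iff.2 (hWK w hw)
  have hz2 : IsPGroup 2 (Subgroup.zpowers F.z) := by
    refine F.isPGroup_T.to_le (Subgroup.zpowers_le.2 (F.mem_T.2 ⟨pa, ?_, pa, ?_, Or.inl rfl⟩)) <;>
      decide +kernel
  have hloc : Cfsg.IsTwoLocal K := by
    refine ⟨_, hz2, fun h => F.z_ne_one (Subgroup.mem_bot.1 (h ▸ Subgroup.mem_zpowers F.z)), ?_⟩
    refine le_antisymm (fun w hw => ?_) fun w hw => ?_
    · rw [Subgroup.mem_normalizer_iff_map_conj_eq, MonoidHom.map_zpowers]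
      show Subgroup.zpowers (w * F.z * w⁻¹) = _
      rw [Subgroup.mem_centralizer_singleton_iff.1 hw, mul_inv_cancel_right]
    · refine Subgroup.mem_centralizer_singleton_iff.2 ?_
      obtain ⟨i, hi⟩ := (Subgroup.mem_normalizer_iff.1 hw F.z).1 (Subgroup.mem_zpowers F.z)
      have hi' : F.z ^ i = w * F.z * w⁻¹ := hi
      rcases Int.even_or_odd i with ⟨k, hk⟩ | ⟨k, hk⟩
      · exfalso
        have h1 : w * F.z * w⁻¹ = 1 := by
          rw [← hi', hk, ← two_mul, zpow_mul, zpow_two, F.z_sq, one_zpow]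
        rw [conj_eq_one_iff] at h1
        exact F.z_ne_one h1
      · have h1 : w * F.z * w⁻¹ = F.z := by
          rw [← hi', hk, zpow_add, zpow_mul, zpow_two, F.z_sq, one_zpow, one_mul, zpow_one]
        exact mul_inv_eq_iff_eq_mul.1 h1
  obtain ⟨P, hP⟩ := F.isPGroup_T.exists_le_sylow
  have hPK : (P : Subgroup G) ≤ K := (F.eq_T_of_le P.isPGroup' hP).le.trans hTK
  have hchar := F.hev K hloc ⟨P, hPK⟩
  set Q := (Cfsg.pCore 2 ↥K).map K.subtype with hQdef
  have hQK : Q ≤ K := Subgroup.map_subtype_le _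
  have hKn : K ≤ Subgroup.normalizer (Q : Set G) :=
    (Subgroup.normal_subgroupOf_iff_le_normalizer hQK).1 (by
      rw [hQdef, Subgroup.subgroupOf, Subgroup.comap_map_eq_self_of_injective K.subtype_injective]
      infer_instance)
  have hQ2 : IsPGroup 2 Q := (Cfsg.Lib.Components.isPGroup_pCore (G := ↥K) 2).map _
  have hQT : Q ≤ F.T :=
    le_sup_right.trans_eq (F.eq_T_of_le (isPGroup_sup F.isPGroup_T hQ2 (hTK.trans hKn)) le_sup_left)
  have hWQ : ∀ w ∈ W, ∀ q ∈ Q, q ∈ F.T0 → Commute w q := by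
    intro w hw q hq hq0
    have h1 : w * q * w⁻¹ * q⁻¹ ∈ W := by
      rw [show w * q * w⁻¹ * q⁻¹ = w * (q * w⁻¹ * q⁻¹) by group]
      exact W.mul_mem hw ((Subgroup.mem_normalizer_iff.1 (hn hq0) _).1 (W.inv_mem hw))
    have h2 : w * q * w⁻¹ * q⁻¹ ∈ Q :=
      Q.mul_mem ((Subgroup.mem_normalizer_iff.1 (hKn (hWK' hw)) q).1 hq) (Q.inv_mem hq)
    have h3 : w * q * w⁻¹ * q⁻¹ = 1 := by
      obtain ⟨k, hk⟩ := hQ2 ⟨_, h2⟩
      rw [← orderOf_eq_one_iff]
      exact Nat.eq_one_of_dvd_coprimes ((Nat.coprime_two_left.2 hodd).pow_left k)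
        (orderOf_dvd_of_pow_eq_one (by simpa using congrArg Subtype.val hk))
        (Subgroup.orderOf_dvd_natCard _ h1)
    show w * q = q * w
    calc w * q = (w * q * w⁻¹ * q⁻¹) * (q * w) := by group
      _ = q * w := by rw [h3, one_mul]
  rw [Subgroup.eq_bot_iff_forall]
  intro w hw
  have hord : Odd (orderOf w) := hodd.of_dvd_nat (Subgroup.orderOf_dvd_natCard _ hw)
  have hall : ∀ q ∈ Q, Commute w q := by
    intro q hq
    by_cases hq0 : q ∈ F.T0
    · exact hWQ w hw q hq hq0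
    have h1 : w * q * w⁻¹ ∈ Q := (Subgroup.mem_normalizer_iff.1 (hKn (hWK' hw)) q).1 hq
    have hmem : q⁻¹ * (w * q * w⁻¹) ∈ Q := Q.mul_mem (Q.inv_mem hq) h1
    refine commute_of_index_two hQ2 hord hq (hWQ w hw _ hmem ?_) hmem
    have h2 : w * q * w⁻¹ ∉ F.T0 := fun hc => hq0 (by
      have h3 := (hWQ w hw _ h1 hc).eq
      have h4 : w * q * w⁻¹ = q := by
        calc w * q * w⁻¹ = w⁻¹ * (w * (w * q * w⁻¹)) := by group
          _ = q := by rw [h3]; group
      exact h4 ▸ hc)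
    obtain ⟨x, hx, y, hy, e | e⟩ := F.mem_T.1 (hQT hq)
    · exact absurd (e ▸ F.f_mem_box.2 ⟨hx, hy⟩) hq0
    obtain ⟨u, hu, v, hv, e' | e'⟩ := F.mem_T.1 (hQT h1)
    · exact absurd (e' ▸ F.f_mem_box.2 ⟨hu, hv⟩) h2
    rw [e', e, _root_.mul_inv_rev, show F.s⁻¹ * (F.f (x, y))⁻¹ * (F.f (u, v) * F.s) =
      F.s⁻¹ * ((F.f (x, y))⁻¹ * F.f (u, v)) * F.s by group, ← map_inv, ← map_mul, F.s_inv]
    exact (F.swap _ _).symm ▸ F.f_mem_box.2 ⟨dih.mul_mem (dih.inv_mem hy) hv, dih.mul_mem (dih.inv_mem hx) hu⟩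
  have hwQ : (⟨w, hWK' hw⟩ : K) ∈ Cfsg.pCore 2 ↥K := hchar (Subgroup.mem_centralizer_iff.2 fun q hq =>
    Subtype.ext ((hall q.1 ⟨q, hq, rfl⟩).eq.symm))
  obtain ⟨k, hk⟩ := hQ2 ⟨w, ⟨⟨w, hWK' hw⟩, hwQ, rfl⟩⟩
  rw [← orderOf_eq_one_iff]
  exact Nat.eq_one_of_dvd_coprimes ((Nat.coprime_two_left.2 hord).pow_left k)
    (orderOf_dvd_of_pow_eq_one (by simpa using congrArg Subtype.val hk)) dvd_rfl

/-- The centraliser of the centre of the base is the base. -/
theorem mem_T0_of_comm {g : G} (h1 : g * F.t = F.t * g) (h2 : g * F.t' = F.t' * g) : g ∈ F.T0 := by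
  classical
  haveI : Fact (Nat.Prime 2) := ⟨Nat.prime_two⟩
  set R := Subgroup.centralizer ({F.t, F.t'} : Set G) with hR
  have hmR : ∀ w, w ∈ R ↔ w * F.t = F.t * w ∧ w * F.t' = F.t' * w := fun w => by
    rw [hR, Subgroup.mem_centralizer_iff]
    simp only [Set.mem_insert_iff, Set.mem_singleton_iff, forall_eq_or_imp, forall_eq]
    exact and_congr eq_comm eq_comm
  have hT0R : F.T0 ≤ R := fun w hw => (hmR w).2 (F.T0_comm_t hw)
  set Z : Subgroup G := F.box (fourA ⊓ fourB) (fourA ⊓ fourB)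
  have hZmem : ∀ w ∈ Z, w ∈ F.T0 := fun w hw => by
    obtain ⟨x, hx, y, hy, rfl⟩ := F.mem_box.1 hw
    exact F.f_mem_box.2 ⟨fourA_le hx.1, fourA_le hy.1⟩
  have hZc : ∀ w ∈ Z, ∀ r ∈ R, r * w = w * r := by
    intro w hw r hr
    obtain ⟨x, hx, y, hy, rfl⟩ := F.mem_box.1 hw
    obtain ⟨e1, e2⟩ := (hmR r).1 hr
    have c1 : Commute r (F.f (x, 1)) := by
      rcases meet_four x hx.1 hx.2 with rfl | rfl
      · rw [show F.f (1, 1) = 1 from map_one F.f]; exact Commute.one_right _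
      · exact e1
    have c2 : Commute r (F.f (1, y)) := by
      rcases meet_four y hy.1 hy.2 with rfl | rfl
      · rw [show F.f (1, 1) = 1 from map_one F.f]; exact Commute.one_right _
      · exact e2
    have e : F.f (x, y) = F.f (x, 1) * F.f (1, y) := by
      rw [← map_mul, Prod.mk_mul_mk, mul_one, one_mul]
    rw [e]
    exact (c1.mul_right c2).eq
  haveI hN : (Z.subgroupOf R).Normal := ⟨fun w hw r => by
    have := hZc w.1 hw r.1 r.2
    show r.1 * w.1 * r.1⁻¹ ∈ Z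
    rw [this, mul_inv_cancel_right]
    exact hw⟩
  set π := QuotientGroup.mk' (Z.subgroupOf R)
  have hSR : IsPGroup 2 (F.T0.subgroupOf R) := F.isPGroup_T0.of_equiv (Subgroup.subgroupOfEquivOfLe hT0R).symm
  obtain ⟨S, hS⟩ := hSR.exists_le_sylow
  have hSeq : (S : Subgroup R) = F.T0.subgroupOf R := by
    refine (eq_of_le_of_card_ge hS ?_).symm
    rw [Nat.card_congr (Subgroup.subgroupOfEquivOfLe hT0R).toEquiv, F.card_T0,
      show Nat.card (S : Subgroup R) = Nat.card ((S : Subgroup R).map R.subtype) from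
        (Subgroup.card_map_of_injective R.subtype_injective).symm]
    exact F.card_le_of_comm_t (S.isPGroup'.map _) (by rintro _ ⟨⟨w, hw⟩, -, rfl⟩; exact ((hmR w).1 hw).1)
  let P := S.mapSurjective (QuotientGroup.mk'_surjective (Z.subgroupOf R))
  have hP : (P : Subgroup (R ⧸ Z.subgroupOf R)) = (F.T0.subgroupOf R).map π := by
    rw [← hSeq]; rfl
  have hZle : Z.subgroupOf R ≤ F.T0.subgroupOf R := fun w hw => hZmem w.1 hw
  have hnc : Subgroup.normalizer ((P : Subgroup (R ⧸ Z.subgroupOf R)) : Set (R ⧸ Z.subgroupOf R)) ≤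
      Subgroup.centralizer ((P : Subgroup (R ⧸ Z.subgroupOf R)) : Set (R ⧸ Z.subgroupOf R)) := by
    intro q hq
    obtain ⟨r, rfl⟩ := QuotientGroup.mk'_surjective _ q
    have hr : r.1 ∈ Subgroup.normalizer (F.T0 : Set G) := by
      rw [Subgroup.mem_normalizer_iff_map_conj_eq]
      refine Subgroup.eq_of_le_of_card_ge ?_
        (le_of_eq (Subgroup.card_map_of_injective (MulAut.conj r.1).injective).symm)
      rintro _ ⟨w, hw, rfl⟩
      have h3 := (Subgroup.mem_normalizer_iff.1 hq (π ⟨w, hT0R hw⟩)).1 (hP ▸ ⟨_, hw, rfl⟩)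
      rw [hP, ← map_inv, ← map_mul, ← map_mul] at h3
      obtain ⟨a, ha, ea⟩ := h3
      have h4 : a⁻¹ * (r * ⟨w, hT0R hw⟩ * r⁻¹) ∈ Z.subgroupOf R := (QuotientGroup.eq).1 ea
      have h5 := (F.T0.subgroupOf R).mul_mem ha (hZle h4)
      rw [mul_inv_cancel_left] at h5
      exact h5
    obtain ⟨x, hx, y, hy, e⟩ : ∃ x ∈ dih, ∃ y ∈ dih, r.1 = F.f (x, y) := by
      obtain ⟨x, hx, y, hy, e | e⟩ := F.mem_T.1 (F.normalizer_T0 ▸ hr)
      · exact ⟨x, hx, y, hy, e⟩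
      · exfalso
        have h4 : F.f (x, y) * F.s * F.t = F.t * (F.f (x, y) * F.s) := e ▸ ((hmR r.1).1 r.2).1
        rw [mul_assoc, show F.s * F.t = F.t' * F.s by rw [← F.s_t, inv_mul_cancel_right], ← mul_assoc,
          ← mul_assoc] at h4
        have h5 := mul_right_cancel h4
        rw [t, t', ← map_mul, ← map_mul, F.f_eq_iff, Prod.mk_mul_mk, Prod.mk_mul_mk, Prod.mk.injEq,
          mul_one] at h5
        exact pa_ne_one (right_eq_mul.1 h5.1)
    rw [Subgroup.mem_centralizer_iff]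
    intro q hq'
    obtain ⟨w, hw, rfl⟩ : q ∈ (F.T0.subgroupOf R).map π := hP ▸ hq'
    obtain ⟨u, hu, v, hv, ew⟩ := F.mem_box.1 hw
    rw [← map_mul, ← map_mul]
    refine (QuotientGroup.eq).2 ?_
    show (w.1 * r.1)⁻¹ * (r.1 * w.1) ∈ Z
    have key : ∀ a ∈ dih, ∀ c ∈ dih, (c * a)⁻¹ * (a * c) ∈ fourA ⊓ fourB := by
      intro a ha c hc
      rw [show (c * a)⁻¹ * (a * c) = a⁻¹ * c⁻¹ * a⁻¹⁻¹ * c⁻¹⁻¹ by group]
      rcases comm_dih a⁻¹ (dih.inv_mem ha) c⁻¹ (dih.inv_mem hc) with h5 | h5 <;> rw [h5]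
      · exact one_mem _
      · exact ⟨show pa ∈ fourA by decide +kernel, show pa ∈ fourB by decide +kernel⟩
    rw [show (w : G) = F.f (u, v) from ew, e, ← map_mul, ← map_mul, ← map_inv, ← map_mul]
    exact F.f_mem_box.2 ⟨key x hx u hu, key y hy v hv⟩
  set U := (MonoidHom.transferSylow P hnc).ker.comap π
  have hUodd : Odd (Nat.card (MonoidHom.transferSylow P hnc).ker) :=
    Nat.not_even_iff_odd.1 fun he => MonoidHom.not_dvd_card_ker_transferSylow P hnc (even_iff_two_dvd.1 he)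
  have hbig : ∀ w : R, Odd (orderOf w) → w ∈ U := fun w hw => by
    refine Subgroup.mem_comap.2 (MonoidHom.mem_ker.2 (orderOf_eq_one_iff.1 ?_))
    have d1 : orderOf (MonoidHom.transferSylow P hnc (π w)) ∣ orderOf w :=
      (orderOf_map_dvd (MonoidHom.transferSylow P hnc) (π w)).trans (orderOf_map_dvd π w)
    obtain ⟨k, hk⟩ := P.isPGroup' (MonoidHom.transferSylow P hnc (π w))
    exact Nat.eq_one_of_dvd_coprimes ((Nat.coprime_two_left.2 hw).pow_left k)
      (orderOf_dvd_of_pow_eq_one hk) d1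
  -- the elements of odd order form a subgroup
  have hpowU : ∀ u : U, (u : R) ^ Nat.card (MonoidHom.transferSylow P hnc).ker ∈ Z.subgroupOf R := fun u => by
    rw [← QuotientGroup.eq_one_iff, ← QuotientGroup.mk'_apply, map_pow]
    exact congrArg Subtype.val (pow_card_eq_one' (x := (⟨π u.1, u.2⟩ : (MonoidHom.transferSylow P hnc).ker)))
  set ι := (Subgroup.center U).index
  set e := Nat.card (MonoidHom.transferSylow P hnc).ker
  have hZU : ∀ w : U, (w : R) ∈ Z.subgroupOf R → w ∈ Subgroup.center U := fun w hw =>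
    Subgroup.mem_center_iff.2 fun r => Subtype.ext (Subtype.ext (hZc _ hw r.1.1 r.1.2))
  have hι : Odd ι := by
    have hZleU : Z.subgroupOf R ≤ U := fun w hw => by
      rw [Subgroup.mem_comap, show π w = 1 from (QuotientGroup.eq_one_iff w).2 hw]
      exact one_mem _
    have h3 : ((Z.subgroupOf R).subgroupOf U).index = e := by
      have h4 := Subgroup.relIndex_comap (H := (⊥ : Subgroup (R ⧸ Z.subgroupOf R))) π U
      rw [MonoidHom.comap_bot, QuotientGroup.ker_mk', Subgroup.map_comap_eq_self_of_surjective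
        (QuotientGroup.mk'_surjective _), Subgroup.relIndex_bot_left] at h4
      exact h4
    exact hUodd.of_dvd_nat (h3 ▸ Subgroup.index_dvd_of_le fun w hw => hZU w hw)
  set O : Subgroup R := Subgroup.closure {w | Odd (orderOf w)}
  have hOU : O ≤ U := (Subgroup.closure_le _).2 hbig
  have hOodd : Odd (Nat.card O) := by
    -- the power map into the centre
    let φ : U →* Subgroup.center U := MonoidHom.transferCenterPow U
    let ψ : U →* Subgroup.center U := MonoidHom.mk' (fun w => (φ w) ^ e) fun a b => by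
      rw [map_mul]
      exact Commute.mul_pow (Subtype.ext ((Subgroup.mem_center_iff.1 (φ a).2) (φ b).1).symm) e
    have hker : O.subgroupOf U ≤ ψ.ker := by
      have hO' : O.subgroupOf U = (Subgroup.closure {w : U | Odd (orderOf w)}) := by
        refine Subgroup.map_injective U.subtype_injective ?_
        rw [MonoidHom.map_closure, Subgroup.subgroupOf_map_subtype, inf_of_le_left hOU]
        refine congrArg Subgroup.closure (Set.ext fun w => ?_)
        exact ⟨fun hw => ⟨⟨w, hbig w hw⟩, by simpa using hw, rfl⟩,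
          by rintro ⟨⟨w, hw'⟩, hw, rfl⟩; simpa using hw⟩
      rw [hO', Subgroup.closure_le]
      intro w hw
      have h3 : ((ψ w : Subgroup.center U) : U) = w ^ (ι * e) := by
        show (((φ w) ^ e : Subgroup.center U) : U) = _
        rw [SubmonoidClass.coe_pow, MonoidHom.transferCenterPow_apply, ← pow_mul]
      refine MonoidHom.mem_ker.2 (Subtype.ext (h3.trans ?_))
      -- the power lies in the central 2-group and has odd order
      rw [mul_comm, pow_mul]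
      refine orderOf_eq_one_iff.1 ?_
      have hz : (((w ^ e) ^ ι : U) : R) ∈ Z.subgroupOf R := by
        rw [SubmonoidClass.coe_pow, SubmonoidClass.coe_pow]
        exact pow_mem (hpowU w) _
      obtain ⟨k, hk⟩ := F.isPGroup_T0 ⟨_, hZmem _ hz⟩
      refine Nat.eq_one_of_dvd_coprimes ((Nat.coprime_two_left.2 (show Odd (orderOf w) from hw)).pow_left k)
        (orderOf_dvd_of_pow_eq_one ?_) (orderOf_pow_dvd _ |>.trans (orderOf_pow_dvd _))
      exact Subtype.ext (Subtype.ext (by simpa using congrArg Subtype.val hk))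
    by_contra hev
    obtain ⟨w, hw⟩ := exists_prime_orderOf_dvd_card' (G := O) 2 (even_iff_two_dvd.1 (Nat.not_odd_iff_even.1 hev))
    set w' : U := ⟨w.1, hOU w.2⟩
    have hw2 : orderOf w' = 2 := by
      rw [← Subgroup.orderOf_coe, show (w' : R) = (w : R) from rfl, Subgroup.orderOf_coe, hw]
    have h4 : ψ w' = 1 := hker w.2
    have h5 : w' ^ (ι * e) = 1 := by
      have := congrArg (fun q : Subgroup.center U => (q : U)) h4
      rwa [show ((ψ w' : Subgroup.center U) : U) = w' ^ (ι * e) by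
        show (((φ w') ^ e : Subgroup.center U) : U) = _
        rw [SubmonoidClass.coe_pow, MonoidHom.transferCenterPow_apply, ← pow_mul]] at this
    have h6 := orderOf_dvd_of_pow_eq_one h5
    rw [hw2] at h6
    exact Nat.not_even_iff_odd.2 (hι.mul hUodd) (even_iff_two_dvd.2 h6)
  have hO : O.map R.subtype = ⊥ := by
    refine F.odd_eq_one (by rwa [Subgroup.card_map_of_injective R.subtype_injective]) ?_ ?_
    · rintro _ ⟨w, -, rfl⟩
      obtain ⟨e1, e2⟩ := (hmR w.1).1 w.2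
      rw [← F.t_mul_t']
      exact ((show Commute w.1 F.t from e1).mul_right (show Commute w.1 F.t' from e2)).eq
    · intro h hh
      rw [Subgroup.mem_normalizer_iff_map_conj_eq, MonoidHom.map_closure, MonoidHom.map_closure]
      congr 1
      ext w
      constructor
      · rintro ⟨_, ⟨v, hv, rfl⟩, rfl⟩
        refine ⟨⟨h, hT0R hh⟩ * v * ⟨h, hT0R hh⟩⁻¹, ?_, rfl⟩
        show Odd (orderOf (MulAut.conj (⟨h, hT0R hh⟩ : R) v))
        rwa [MulEquiv.orderOf_eq]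
      · rintro ⟨v, hv, rfl⟩
        refine ⟨_, ⟨(⟨h, hT0R hh⟩ : R)⁻¹ * v * ⟨h, hT0R hh⟩, ?_, rfl⟩, ?_⟩
        · show Odd (orderOf _)
          rw [show (⟨h, hT0R hh⟩ : R)⁻¹ * v * ⟨h, hT0R hh⟩ = MulAut.conj (⟨h, hT0R hh⟩ : R)⁻¹ v by simp,
            MulEquiv.orderOf_eq]
          exact hv
        · show h * (h⁻¹ * v.1 * h) * h⁻¹ = v.1
          group
  have hno : ∀ w : R, Odd (orderOf w) → w = 1 := fun w hw => by
    have : (w : G) ∈ O.map R.subtype := ⟨w, Subgroup.subset_closure hw, rfl⟩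
    rw [hO, Subgroup.mem_bot] at this
    exact Subtype.ext this
  have hRp : IsPGroup 2 R := fun w => by
    obtain ⟨k, m, hm, hkm⟩ := Nat.exists_eq_two_pow_mul_odd (orderOf_pos w).ne'
    refine ⟨k, hno _ ?_⟩
    rw [orderOf_pow_of_dvd (by positivity) ⟨m, hkm⟩, hkm, Nat.mul_div_cancel_left _ (by positivity)]
    exact hm
  have := eq_of_le_of_card_ge hT0R
    ((F.card_T0).symm ▸ F.card_le_of_comm_t hRp fun w hw => ((hmR w).1 hw).1)
  rw [this]
  exact (hmR g).2 ⟨h1, h2⟩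

end Frame

end Cfsg.Lib.QTWreath
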