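import Cfsg.Agent.QTKE.Wreath.Lift
import Cfsg.Agent.S0215

/-!
A one-sided transposition is not conjugate to `t`: otherwise the base has two classes of involutions, the
centraliser of `z` is the Sylow subgroup and transfer applies to `s`.
-/

set_option autoImplicit false
set_option linter.unusedSectionVars false
set_option linter.style.haveILetI false

namespace Cfsg.Lib.QTWreath

open Subgroup

universe u

theorem two_facts : (∀ x ∈ fourA, x ∈ dih ∧ x * x = 1) ∧
    (∀ x : P4, x * pa = 1 → x = pa) ∧ pa2 ≠ 1 ∧ pa * pa2 ≠ 1 ∧ pc * pc * pc = 1 := by decide +kernel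

namespace Frame

variable {G : Type u} [Group G] [Finite G] (F : Frame G)

theorem s_ne_one : F.s ≠ 1 := fun e => F.out 1 (e.trans (map_one F.f).symm)

theorem s_not_mem_T0 : F.s ∉ F.T0 := by
  rintro ⟨p, -, e⟩
  exact F.out p e.symm

theorem cj_mul_self {x y : G} (h : Cj x y) (h2 : x * x = 1) : y * y = 1 := by
  obtain ⟨g, rfl⟩ := h
  rw [show g * x * g⁻¹ * (g * x * g⁻¹) = g * (x * x) * g⁻¹ by group, h2, mul_one, mul_inv_cancel]

theorem t_sq : F.t * F.t = 1 := by
  rw [t, ← map_mul, Prod.mk_mul_mk, pa_sq, one_mul, F.one_pair]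

/-- No transposition of the first factor is conjugate to `t`. -/
theorem not_u_t (hno : ∀ N : Subgroup G, N.Normal → N.index ≠ 2) : ¬ Cj F.u₁ F.t := by
  classical
  haveI : Fact (Nat.Prime 2) := ⟨Nat.prime_two⟩
  intro hu
  obtain ⟨hA, hxa, ha2, ha3, hc3⟩ := two_facts
  obtain ⟨k, k1, k2, k3⟩ := F.exists_rot hu
  have hv : Cj F.v F.z := (show Cj F.z F.v from ⟨k, by
    rw [← F.t_mul_t', show k * (F.t * F.t') * k⁻¹ = (k * F.t * k⁻¹) * (k * F.t' * k⁻¹) by group, k3,
      k1, mul_inv_cancel_right, t, u₂, v, ← map_mul, Prod.mk_mul_mk, mul_one, one_mul]⟩).symm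
  have hw : Cj F.w F.z := by
    have e : k * F.f (pb, pa) * k⁻¹ = F.w := by
      rw [show F.f (pb, pa) = F.u₁ * F.t' by rw [u₁, t', ← map_mul, Prod.mk_mul_mk, mul_one, one_mul],
        show k * (F.u₁ * F.t') * k⁻¹ = (k * F.u₁ * k⁻¹) * (k * F.t' * k⁻¹) by group, k3, k2,
        mul_inv_cancel_right, u₁, u₂, w, ← map_mul, Prod.mk_mul_mk, mul_one, one_mul]
    exact ((show Cj (F.f (pb, pa)) F.w from ⟨k, e⟩).symm.trans (F.cj_swap pb pa)).trans hv
  have hone : ∀ x y, F.f (x, y) ∈ F.T0 → F.f (x, y) * F.f (x, y) = 1 → Cj (F.f (x, y)) F.t →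
      x = 1 ∨ y = 1 := by
    intro x y hm h2 ht
    by_contra hc
    push Not at hc
    obtain ⟨hx, hy⟩ := F.f_mem_box.1 hm
    obtain ⟨hx2, hy2⟩ := F.invol_pair h2
    rcases F.cj_two hx hx2 hc.1 hy hy2 hc.2 with ⟨-, -, h⟩ | ⟨-, h⟩ | ⟨-, -, h⟩
    · exact F.not_t_z (ht.symm.trans h)
    · exact F.not_t_z ((ht.symm.trans h).trans hv)
    · exact F.not_t_z ((ht.symm.trans h).trans hw)
  have hclass : ∀ g ∈ F.T0, g * g = 1 → g ≠ 1 → Cj g F.t ∨ Cj g F.z := by
    intro g hg h2 h1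
    rcases F.inv_T0_cases hg h2 h1 with h | h | h | h | h
    exacts [Or.inl h, Or.inl (h.trans hu), Or.inr h, Or.inr (h.trans hv), Or.inr (h.trans hw)]
  -- `s` is not conjugate to `t`
  have hst : ¬ Cj F.s F.t := by
    intro hs
    set Q := F.T ⊓ Subgroup.centralizer ({F.s} : Set G) with hQ
    obtain ⟨h, hh, hQ0⟩ := F.into_T0 (Q := Q) (F.isPGroup_T.to_le inf_le_left) (x := F.s)
      (fun q hq => Subgroup.mem_centralizer_singleton_iff.1 hq.2) hs
    have key : ∀ x ∈ fourA, x ≠ 1 → ∃ β, h * F.f (x, x) * h⁻¹ = F.f (pa, β) := by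
      intro x hx hx1
      obtain ⟨hxd, hx2⟩ := hA x hx
      have hsq : F.f (x, x) * F.f (x, x) = 1 := by rw [← map_mul, Prod.mk_mul_mk, hx2, F.one_pair]
      have hmem : h * F.f (x, x) * h⁻¹ ∈ F.T0 := hQ0 _ ⟨F.T0_le_T (F.f_mem_box.2 ⟨hxd, hxd⟩),
        Subgroup.mem_centralizer_singleton_iff.2 (F.s_move x x).symm⟩
      obtain ⟨α, hα, β, hβ, e⟩ := F.mem_box.1 hmem
      have hzx : Cj (F.f (x, x)) F.z := by
        rcases F.cj_two hxd hx2 hx1 hxd hx2 hx1 with ⟨-, -, h'⟩ | ⟨⟨-, hn⟩ | ⟨hn, -⟩, -⟩ | ⟨hn, -⟩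
        exacts [h', absurd hx hn, absurd hx hn, absurd hx hn]
      have he2 : F.f (α, β) * F.f (α, β) = 1 := cj_mul_self ⟨h, e⟩ hsq
      obtain ⟨hα2, hβ2⟩ := F.invol_pair he2
      have hz' : Cj (F.f (α, β)) F.z := ((show Cj (F.f (x, x)) _ from ⟨h, e⟩).symm).trans hzx
      have hne : F.f (α, β) ≠ 1 := by
        intro e'
        rw [e', conj_eq_one_iff] at e
        exact hx1 (congrArg Prod.fst (F.inj (e.trans (map_one F.f).symm)))
      have hβ1 : β ≠ 1 := by
        rintro rfl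
        rcases F.cj_left hα hα2 (fun e' => hne (by rw [e', F.one_pair])) with ⟨-, h', -⟩ | ⟨-, h', -⟩
        · exact F.not_t_z (h'.symm.trans hz')
        · exact F.not_t_z ((h'.trans hu).symm.trans hz')
      have hout : Cj (F.f (x, x) * F.s) F.t := by
        refine (F.inv_out (F.T.mul_mem (F.T0_le_T (F.f_mem_box.2 ⟨hxd, hxd⟩)) F.s_mem_T)
          (F.mul_s_not_mem _ _ _) ?_).trans hs
        rw [show F.f (x, x) * F.s * (F.f (x, x) * F.s) = F.f (x, x) * (F.s * F.f (x, x) * F.s) by group,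
          F.swap, hsq]
      have e2 : h * (F.f (x, x) * F.s) * h⁻¹ = F.f (α * pa, β) := by
        rw [show h * (F.f (x, x) * F.s) * h⁻¹ = (h * F.f (x, x) * h⁻¹) * (h * F.s * h⁻¹) by group, e, hh, t,
          ← map_mul, Prod.mk_mul_mk, mul_one]
      have h3 := hone (α * pa) β (F.f_mem_box.2 ⟨dih.mul_mem hα basic_mem.1, hβ⟩)
        (cj_mul_self ⟨h, e2⟩ (by
          rw [show F.f (x, x) * F.s * (F.f (x, x) * F.s) = F.f (x, x) * (F.s * F.f (x, x) * F.s) by group,
            F.swap, hsq]))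
        ((show Cj _ _ from ⟨h, e2⟩).symm.trans hout)
      rcases h3 with h3 | h3
      · exact ⟨β, by rw [e, hxa α h3]⟩
      · exact absurd h3 hβ1
    obtain ⟨b1, e1⟩ := key pa basic_mem.2.2.2.2.1 pa_ne_one
    obtain ⟨b2, e2⟩ := key pa2 basic_mem.2.2.2.2.2.2.2.1 ha2
    obtain ⟨b3, e3⟩ := key (pa * pa2) (mul_mem basic_mem.2.2.2.2.1 basic_mem.2.2.2.2.2.2.2.1) ha3
    have e4 : h * F.f (pa * pa2, pa * pa2) * h⁻¹ = F.f (pa * pa, b1 * b2) := by
      rw [show F.f (pa * pa2, pa * pa2) = F.f (pa, pa) * F.f (pa2, pa2) by rw [← map_mul]; rfl,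
        show h * (F.f (pa, pa) * F.f (pa2, pa2)) * h⁻¹ =
          (h * F.f (pa, pa) * h⁻¹) * (h * F.f (pa2, pa2) * h⁻¹) by group, e1, e2, ← map_mul]
      rfl
    rw [e3] at e4
    exact pa_ne_one ((congrArg Prod.fst (F.inj e4)).trans pa_sq)
  -- the centraliser of `z` is the Sylow subgroup
  set K := Subgroup.centralizer ({F.z} : Set G) with hK
  have hTK : F.T ≤ K := fun q hq => Subgroup.mem_centralizer_singleton_iff.2 (F.T_comm_z hq)
  have hfus : ∀ g : K, (g : G) * F.t * (g : G)⁻¹ ∈ F.T →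
      (g : G) * F.t * (g : G)⁻¹ = F.t ∨ (g : G) * F.t * (g : G)⁻¹ = F.t' := by
    intro g hg
    have hcj : Cj F.t ((g : G) * F.t * (g : G)⁻¹) := Cj.mk' _ _
    have hsq := cj_mul_self hcj F.t_sq
    have hT0 : (g : G) * F.t * (g : G)⁻¹ ∈ F.T0 := by
      by_contra hn
      exact hst ((hcj.trans (F.inv_out hg hn hsq)).symm)
    obtain ⟨x, hx, y, hy, e⟩ := F.mem_box.1 hT0
    have hgz : (g : G) * F.z = F.z * g := Subgroup.mem_centralizer_singleton_iff.1 g.2
    have e' : (g : G) * F.t' * (g : G)⁻¹ = F.f (x * pa, y * pa) := by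
      rw [show F.t' = F.t * F.z by rw [← F.t_mul_t', ← mul_assoc, F.t_sq, one_mul],
        show (g : G) * (F.t * F.z) * (g : G)⁻¹ = ((g : G) * F.t * (g : G)⁻¹) * ((g : G) * F.z * (g : G)⁻¹) by
          group, e, hgz, mul_inv_cancel_right, z, ← map_mul]
      rfl
    rw [e] at hsq hcj ⊢
    have hsq' := cj_mul_self ⟨_, e'⟩ (show F.t' * F.t' = 1 by
      rw [t', ← map_mul, Prod.mk_mul_mk, pa_sq, one_mul, F.one_pair])
    have h1 := hone x y (F.f_mem_box.2 ⟨hx, hy⟩) hsq hcj.symm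
    have h2 := hone (x * pa) (y * pa)
      (F.f_mem_box.2 ⟨dih.mul_mem hx basic_mem.1, dih.mul_mem hy basic_mem.1⟩) hsq'
      (((show Cj F.t' _ from ⟨_, e'⟩).symm).trans F.t_cj_t'.symm)
    rcases h1 with rfl | rfl
    · rcases h2 with h2 | h2
      · exact absurd (by simpa using h2) pa_ne_one
      · rw [hxa y h2]; exact Or.inr rfl
    · rcases h2 with h2 | h2
      · rw [hxa x h2]; exact Or.inl rfl
      · exact absurd (by simpa using h2) pa_ne_one
  have hKT : K = F.T := by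
    set zK : K := ⟨F.z, Subgroup.mem_centralizer_singleton_iff.2 rfl⟩ with hzK
    set Z := Subgroup.zpowers zK with hZ
    have hzc : ∀ g : K, Commute g zK := fun g =>
      Subtype.ext (Subgroup.mem_centralizer_singleton_iff.1 g.2)
    have hzord : orderOf zK = 2 :=
      orderOf_eq_prime (Subtype.ext (by simpa [pow_two] using F.z_sq)) fun e => F.z_ne_one (congrArg Subtype.val e)
    haveI hZn : Z.Normal := ⟨fun n hn g => by
      obtain ⟨i, rfl⟩ := Subgroup.mem_zpowers_iff.1 hn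
      rw [((hzc g).zpow_right i).eq, mul_inv_cancel_right]
      exact Subgroup.zpow_mem_zpowers zK i⟩
    have hZcard : Nat.card Z = 2 := by rw [hZ, Nat.card_zpowers, hzord]
    have hZT : ∀ n : K, n ∈ Z → (n : G) ∈ F.T := fun n hn => by
      obtain ⟨i, rfl⟩ := Subgroup.mem_zpowers_iff.1 hn
      rw [SubgroupClass.coe_zpow]
      exact zpow_mem (F.T0_le_T (F.f_mem_box.2 ⟨basic_mem.1, basic_mem.1⟩)) i
    obtain ⟨S, hS⟩ := (F.isPGroup_T.of_equiv (Subgroup.subgroupOfEquivOfLe hTK).symm).exists_le_sylow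
    have hSe : ∀ q : K, q ∈ (S : Subgroup K) ↔ (q : G) ∈ F.T := by
      have e : (S : Subgroup K).map K.subtype = F.T :=
        F.eq_T_of_le (S.isPGroup'.map _) fun q hq => ⟨⟨q, hTK hq⟩, hS hq, rfl⟩
      intro q
      rw [← e]
      exact ⟨fun hq => ⟨q, hq, rfl⟩, fun ⟨q', hq', eq⟩ => Subtype.ext eq ▸ hq'⟩
    set π := QuotientGroup.mk' Z
    let tK : K := ⟨F.t, hTK (F.T0_le_T F.t_mem_T0)⟩
    have htZ : tK ∉ Z := by
      intro hm
      obtain ⟨i, hi⟩ := Subgroup.mem_zpowers_iff.1 hm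
      have hi' : F.z ^ i = F.t := by simpa [zK, tK] using congrArg Subtype.val hi
      rcases Int.even_or_odd i with ⟨m, hm'⟩ | ⟨m, hm'⟩
      · exact F.t_ne_one (by rw [← hi', hm', ← two_mul, zpow_mul, zpow_two, F.z_sq, one_zpow])
      · refine F.not_t_z ?_
        rw [← hi', hm', zpow_add, zpow_mul, zpow_two, F.z_sq, one_zpow, one_mul, zpow_one]
        exact Cj.refl _
    have hu2 : orderOf (π tK) = 2 := orderOf_eq_prime
      (by rw [← map_pow, show tK ^ 2 = 1 from Subtype.ext (by simpa [tK, pow_two] using F.t_sq), map_one])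
      fun e => htZ ((QuotientGroup.eq_one_iff _).1 e)
    let P := S.mapSurjective (QuotientGroup.mk'_surjective Z)
    have hP : ∀ q, q ∈ (P : Subgroup (K ⧸ Z)) ↔ ∃ w ∈ (S : Subgroup K), π w = q := fun q => Iff.rfl
    obtain ⟨N, hN, hNodd, hNc⟩ := Cfsg.Agent.S0215.result P (π tK) hu2
      ((hP _).2 ⟨tK, (hSe _).2 (F.T0_le_T F.t_mem_T0), rfl⟩) (fun q hq => by
        obtain ⟨g, rfl⟩ := QuotientGroup.mk'_surjective Z q
        obtain ⟨w, hw, ew⟩ := (hP _).1 hq
        rw [← map_inv, ← map_mul, ← map_mul] at ew ⊢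
        have h1 : (g * tK * g⁻¹ : K) ∈ (S : Subgroup K) := by
          have h2 := QuotientGroup.eq.1 ew
          have h3 := (S : Subgroup K).mul_mem hw ((hSe _).2 (hZT _ h2))
          rwa [mul_inv_cancel_left] at h3
        rcases hfus g ((hSe _).1 h1) with h | h
        · exact congrArg π (Subtype.ext h : g * tK * g⁻¹ = tK)
        · refine ((QuotientGroup.eq).2 ?_).symm
          rw [show tK⁻¹ * (g * tK * g⁻¹) = zK from Subtype.ext ?_]
          · exact Subgroup.mem_zpowers zK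
          · show F.t⁻¹ * ((g : G) * F.t * (g : G)⁻¹) = F.z
            rw [h, inv_eq_of_mul_eq_one_right F.t_sq, F.t_mul_t'])
    haveI := hN
    set N' := N.comap π with hN'
    have hZN' : Z ≤ N' := fun n hn => by
      rw [hN', Subgroup.mem_comap, show π n = 1 from (QuotientGroup.eq_one_iff n).2 hn]
      exact one_mem _
    have hidx : (Z.subgroupOf N').index = Nat.card N := by
      have h4 := Subgroup.relIndex_comap (H := (⊥ : Subgroup (K ⧸ Z))) π N'
      rw [MonoidHom.comap_bot, QuotientGroup.ker_mk', Subgroup.map_comap_eq_self_of_surjective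
        (QuotientGroup.mk'_surjective _), Subgroup.relIndex_bot_left] at h4
      exact h4
    haveI : (Z.subgroupOf N').Normal := inferInstance
    obtain ⟨C, hC⟩ := Subgroup.exists_right_complement'_of_coprime (N := Z.subgroupOf N') (by
      rw [hidx, Nat.card_congr (Subgroup.subgroupOfEquivOfLe hZN').toEquiv, hZcard]
      exact Nat.coprime_two_left.2 hNodd)
    have hCcard : Nat.card C = Nat.card N := by rw [← hidx, ← hC.symm.index_eq_card]
    have hCmem : ∀ n : N', n ∈ C ↔ n ^ Nat.card N = 1 := by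
      refine fun n => ⟨fun hn => ?_, fun hn => ?_⟩
      · have := congrArg Subtype.val (pow_card_eq_one' (x := (⟨n, hn⟩ : C)))
        rwa [hCcard] at this
      · obtain ⟨⟨⟨a, ha⟩, ⟨c, hc⟩⟩, hac⟩ := hC.2 n
        have hac' : a * c = n := hac
        have hca : Commute a c := by
          obtain ⟨i, hi⟩ := Subgroup.mem_zpowers_iff.1 ha
          refine Subtype.ext ?_
          show (a : K) * c = c * a
          rw [show (a : K) = zK ^ i from hi.symm]
          exact ((hzc (c : K)).zpow_right i).eq.symm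
        rw [← hac', hca.mul_pow, show c ^ Nat.card N = 1 by
          have := congrArg Subtype.val (pow_card_eq_one' (x := (⟨c, hc⟩ : C)))
          rwa [hCcard] at this, mul_one] at hn
        have ha2 : orderOf (a : K) ∣ 2 := hZcard ▸ Subgroup.orderOf_dvd_natCard Z ha
        rw [Subgroup.orderOf_coe] at ha2
        have : a = 1 := orderOf_eq_one_iff.1
          (Nat.eq_one_of_dvd_coprimes (Nat.coprime_two_left.2 hNodd) ha2 (orderOf_dvd_of_pow_eq_one hn))
        rw [← hac', this, one_mul]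
        exact hc
    set W := ((C.map N'.subtype).map K.subtype) with hW
    have hWodd : Odd (Nat.card W) := by
      rw [hW, Subgroup.card_map_of_injective K.subtype_injective,
        Subgroup.card_map_of_injective N'.subtype_injective, hCcard]
      exact hNodd
    have hWbot : W = ⊥ := by
      refine F.odd_eq_one hWodd ?_ ?_
      · rintro _ ⟨g, -, rfl⟩
        exact Subgroup.mem_centralizer_singleton_iff.1 g.2
      · intro q hq
        rw [Subgroup.mem_normalizer_iff_map_conj_eq]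
        refine Subgroup.eq_of_le_of_card_ge ?_
          (le_of_eq (Subgroup.card_map_of_injective (MulAut.conj q).injective).symm)
        rintro _ ⟨_, ⟨_, ⟨n, hn, rfl⟩, rfl⟩, rfl⟩
        let qK : K := ⟨q, hTK (F.T0_le_T hq)⟩
        refine ⟨qK * n.1 * qK⁻¹, ⟨⟨qK * n.1 * qK⁻¹, (inferInstance : N'.Normal).conj_mem _ n.2 qK⟩,
          (hCmem _).2 ?_, rfl⟩, rfl⟩
        refine Subtype.ext ?_
        rw [SubmonoidClass.coe_pow, conj_pow, ← SubmonoidClass.coe_pow, (hCmem n).1 hn]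
        simp
    have hC1 : ∀ n : N', n ∈ C → n = 1 := fun n hn => by
      have : ((n : K) : G) ∈ W := ⟨_, ⟨n, hn, rfl⟩, rfl⟩
      rw [hWbot, Subgroup.mem_bot] at this
      exact Subtype.ext (Subtype.ext this)
    have hN'Z : ∀ n ∈ N', n ∈ Z := fun n hn => by
      obtain ⟨⟨⟨a, ha⟩, ⟨c, hc⟩⟩, hac⟩ := hC.2 ⟨n, hn⟩
      have hac' : a * c = (⟨n, hn⟩ : N') := hac
      rw [hC1 c hc, mul_one] at hac'
      have : a.1 = n := congrArg Subtype.val hac'
      exact this ▸ ha
    refine le_antisymm (fun g hg => ?_) hTK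
    have hgt : g * F.t * g⁻¹ ∈ F.T := by
      have h1 : (tK * ⟨g, hg⟩ * tK⁻¹ * (⟨g, hg⟩ : K)⁻¹) ∈ N' := by
        rw [hN', Subgroup.mem_comap]
        simpa only [map_mul, map_inv] using hNc (π ⟨g, hg⟩)
      have h2 : F.t * g * F.t⁻¹ * g⁻¹ ∈ F.T := hZT _ (hN'Z _ h1)
      have h3 := F.T.inv_mem (F.T.mul_mem (F.T.inv_mem (F.T0_le_T F.t_mem_T0)) h2)
      rwa [show (F.t⁻¹ * (F.t * g * F.t⁻¹ * g⁻¹))⁻¹ = g * F.t * g⁻¹ by group] at h3
    have hfix : ∀ g' : G, g' ∈ K → g' * F.t * g'⁻¹ = F.t → g' ∈ F.T := fun g' hg' e => by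
      have e1 : g' * F.t = F.t * g' := mul_inv_eq_iff_eq_mul.1 e
      refine F.T0_le_T (F.mem_T0_of_comm e1 ?_)
      rw [show F.t' = F.t * F.z by rw [← F.t_mul_t', ← mul_assoc, F.t_sq, one_mul]]
      exact ((show Commute g' F.t from e1).mul_right
        (show Commute g' F.z from Subgroup.mem_centralizer_singleton_iff.1 hg')).eq
    rcases hfus ⟨g, hg⟩ hgt with h | h
    · exact hfix g hg h
    · have h1 := hfix (F.s * g) (K.mul_mem (hTK F.s_mem_T) hg) (by
        rw [show F.s * g * F.t * (F.s * g)⁻¹ = F.s * (g * F.t * g⁻¹) * F.s⁻¹ by group,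
          show g * F.t * g⁻¹ = F.t' from h, F.s_t'])
      have h2 := F.T.mul_mem (F.T.inv_mem F.s_mem_T) h1
      rwa [inv_mul_cancel_left] at h2
  -- `s` is not conjugate to `z`, and transfer
  have hsz : ¬ Cj F.s F.z := by
    rintro ⟨h, hh⟩
    have hc : F.f (pc, pc) * F.s = F.s * F.f (pc, pc) := (F.s_move pc pc).symm
    have hm : h * F.f (pc, pc) * h⁻¹ ∈ F.T := by
      rw [← hKT, hK, Subgroup.mem_centralizer_singleton_iff, ← hh,
        show h * F.f (pc, pc) * h⁻¹ * (h * F.s * h⁻¹) = h * (F.f (pc, pc) * F.s) * h⁻¹ by group, hc]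
      group
    have h3 : (h * F.f (pc, pc) * h⁻¹) ^ 3 = 1 := by
      rw [conj_pow, ← map_pow, Prod.pow_mk, show pc ^ 3 = 1 by rw [pow_succ, pow_two]; exact hc3, F.one_pair]
      group
    obtain ⟨n, hn⟩ := F.isPGroup_T ⟨_, hm⟩
    have h1 : h * F.f (pc, pc) * h⁻¹ = 1 := orderOf_eq_one_iff.1 (Nat.eq_one_of_dvd_coprimes
      ((show Nat.Coprime 2 3 by norm_num).pow_left n)
      (orderOf_dvd_of_pow_eq_one (by simpa using congrArg Subtype.val hn)) (orderOf_dvd_of_pow_eq_one h3))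
    rw [conj_eq_one_iff] at h1
    exact pc_ne_one (congrArg Prod.fst (F.inj (h1.trans (map_one F.f).symm)))
  obtain ⟨y, hy, hcy⟩ := F.transfer hno F.T0_le_T F.card_T0 F.sq F.s_ne_one F.s_mem_T F.s_not_mem_T0
  have hy2 := cj_mul_self hcy F.sq
  have hy1 : y ≠ 1 := by
    rintro rfl
    obtain ⟨g, hg⟩ := hcy
    rw [conj_eq_one_iff] at hg
    exact F.s_ne_one hg
  rcases hclass y hy hy2 hy1 with h | h
  exacts [hst (hcy.trans h), hsz (hcy.trans h)]

end Frame

end Cfsg.Lib.QTWreath
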